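import Cfsg.Agent.BGSummary.TypeCore
import Cfsg.Agent.Lib.Coprime.Hall
import Cfsg.Agent.Lib.Thompson.Replacement
import Mathlib.GroupTheory.SchurZassenhaus
import Mathlib.GroupTheory.Exponent

/-!
Building blocks for the classification of maximal subgroups by types.
-/

set_option autoImplicit false

namespace Cfsg.Agent.BGSummary

open Cfsg
open scoped Pointwise
open Cfsg.Agent.BGSigma (sigmaCore_le le_normalizer_sigmaCore isPiSub_sigmaCore)

universe u

variable {G : Type u} [Group G] [Finite G]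

theorem fittingHall_map_eq {M N : Type u} [Group M] [Group N] [Finite M] [Finite N] (e : M ≃* N) :
    (fittingHall M).map e.toMonoidHom ≤ fittingHall N := by
  refine BGUniq.le_fittingHall ?_ ?_ ?_
  · exact Subgroup.Normal.map inferInstance _ e.surjective
  · exact Fitting.isNilpotent_map _ (BGUniq.fittingHall_isNilpotent M)
  · rw [show e.toMonoidHom = (e : M →* N) from rfl, Subgroup.index_map_equiv,
      Subgroup.card_map_of_injective (show Function.Injective (e : M →* N) from e.injective)]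
    exact BGUniq.fittingHall_coprime M

theorem fittingHall_characteristic (M : Type u) [Group M] [Finite M] :
    (fittingHall M).Characteristic :=
  Subgroup.characteristic_iff_map_le.mpr fun φ => fittingHall_map_eq φ

omit [Finite G] in
theorem relIndex_subgroupOf {A X : Subgroup G} : (A.subgroupOf X).index = A.relIndex X := rfl

theorem fittingHallOf_relIndex_coprime (M : Subgroup G) :
    (Nat.card (fittingHallOf M)).Coprime ((fittingHallOf M).relIndex M) := by
  rw [BGUniq.card_fittingHallOf, Subgroup.relIndex, fittingHallOf, Subgroup.subgroupOf,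
    Subgroup.comap_map_eq_self_of_injective M.subtype_injective]
  exact BGUniq.fittingHall_coprime M

theorem le_normalizer_fittingHallOf (M : Subgroup G) :
    M ≤ Subgroup.normalizer (fittingHallOf M : Set G) := fun x hx =>
  (fittingHall ↥M).le_normalizer_map M.subtype
    ⟨⟨x, hx⟩, by rw [Subgroup.normalizer_eq_top]; trivial, rfl⟩

theorem le_fittingHallOf {M N : Subgroup G} (hNM : N ≤ M)
    (hn : M ≤ Subgroup.normalizer (N : Set G)) (hnil : Group.IsNilpotent N)
    (hcop : (Nat.card N).Coprime (N.relIndex M)) : N ≤ fittingHallOf M := by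
  haveI := hnil
  have h1 : N.subgroupOf M ≤ fittingHall ↥M := BGUniq.le_fittingHall
    ((Subgroup.normal_subgroupOf_iff_le_normalizer hNM).mpr hn)
    (Group.nilpotent_of_mulEquiv (Subgroup.subgroupOfEquivOfLe hNM).symm)
    (by rwa [Nat.card_congr (Subgroup.subgroupOfEquivOfLe hNM).toEquiv])
  exact (Subgroup.map_subgroupOf_eq_of_le hNM).ge.trans (Subgroup.map_mono h1)

/-- The Fitting-Hall subgroup of a normal Hall subgroup containing `M_F`. -/
theorem fittingHallOf_eq_of_hall {M X : Subgroup G} (hXM : X ≤ M)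
    (hn : M ≤ Subgroup.normalizer (X : Set G)) (hX : (Nat.card X).Coprime (X.relIndex M))
    (hle : fittingHallOf M ≤ X) : fittingHallOf X = fittingHallOf M := by
  have hFX := BGUniq.fittingHallOf_le X
  haveI := fittingHall_characteristic ↥X
  refine le_antisymm (le_fittingHallOf (hFX.trans hXM)
    (hn.trans (Coprime.normalizer_le_normalizer_map X (fittingHall ↥X)))
    (Fitting.isNilpotent_map _ (BGUniq.fittingHall_isNilpotent ↥X)) ?_) ?_
  · rw [← Subgroup.relIndex_mul_relIndex (fittingHallOf X) X M hFX hXM]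
    exact Nat.Coprime.mul_right (fittingHallOf_relIndex_coprime X)
      (hX.coprime_dvd_left (Subgroup.card_dvd_of_le hFX))
  · refine le_fittingHallOf hle (hXM.trans (le_normalizer_fittingHallOf M))
      (Fitting.isNilpotent_map _ (BGUniq.fittingHall_isNilpotent ↥M)) ?_
    have h1 := fittingHallOf_relIndex_coprime M
    rw [← Subgroup.relIndex_mul_relIndex (fittingHallOf M) X M hle hXM] at h1
    exact h1.coprime_dvd_right (dvd_mul_right _ _)

theorem card_eq_of_complIn {A B M : Subgroup G} (hAB : IsComplIn A B M)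
    (hn : M ≤ Subgroup.normalizer (A : Set G)) : A.relIndex M = Nat.card B := by
  have hsup := TypeCore.sup_eq hAB
  have h1 := Thompson.card_sup_mul_card_inf (hAB.2.1.trans hn)
  rw [hsup, hAB.2.2.1, Subgroup.card_bot, mul_one] at h1
  have h2 : Nat.card A * A.relIndex M = Nat.card M := by
    rw [← Subgroup.relIndex_bot_left, ← Subgroup.relIndex_bot_left,
      Subgroup.relIndex_mul_relIndex _ _ _ bot_le hAB.1]
  exact Nat.eq_of_mul_eq_mul_left Nat.card_pos (h2.trans h1)

theorem exists_complIn_of_hall {M N : Subgroup G} (hNM : N ≤ M)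
    (hn : M ≤ Subgroup.normalizer (N : Set G)) (hcop : (Nat.card N).Coprime (N.relIndex M)) :
    ∃ E : Subgroup G, IsComplIn N E M := by
  haveI : (N.subgroupOf M).Normal := (Subgroup.normal_subgroupOf_iff_le_normalizer hNM).mpr hn
  obtain ⟨E, hE⟩ := Subgroup.exists_right_complement'_of_coprime (N := N.subgroupOf M)
    (by rwa [Nat.card_congr (Subgroup.subgroupOfEquivOfLe hNM).toEquiv])
  refine ⟨E.map M.subtype, hNM, Subgroup.map_subtype_le _, ?_, fun m hm => ?_⟩
  · refine le_bot_iff.mp fun x hxx => ?_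
    obtain ⟨hxN, y, hy, rfl⟩ := Subgroup.mem_inf.mp hxx
    have := hE.disjoint.le_bot ⟨(show y ∈ N.subgroupOf M from hxN), hy⟩
    rw [Subgroup.mem_bot] at this
    simp [this]
  · obtain ⟨⟨⟨a, ha⟩, ⟨b, hb⟩⟩, hab⟩ := hE.2 (⟨m, hm⟩ : M)
    exact ⟨a, ha, b, ⟨b, hb, rfl⟩, (congrArg Subtype.val hab).symm⟩

/-- A prime order element of `M` with `p ∈ κ(M)` is conjugate into `K`. -/
theorem exists_conj_mem_hall {M K : Subgroup G} (hK : IsPiHallOf (kappa M) K M) {p : ℕ}
    [hp : Fact p.Prime] (hpκ : p ∈ kappa M) {x : G} (hx : x ∈ M) {n : ℕ}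
    (hxo : orderOf x = p ^ n) : ∃ m ∈ M, m * x * m⁻¹ ∈ K := by
  let P : Sylow p K := default
  have hle : (P : Subgroup K).map K.subtype ≤ M := (Subgroup.map_subtype_le _).trans hK.1
  have hidx : ¬ p ∣ ((P : Subgroup K).map K.subtype).relIndex M := by
    rw [← Subgroup.relIndex_mul_relIndex _ K M (Subgroup.map_subtype_le _) hK.1]
    refine hp.out.not_dvd_mul ?_ (hK.2.2 p hp.out hpκ)
    rw [Subgroup.relIndex, Subgroup.subgroupOf,
      Subgroup.comap_map_eq_self_of_injective K.subtype_injective]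
    exact P.not_dvd_index
  let S : Sylow p M := ((P.isPGroup'.map K.subtype).comap_subtype (K := M)).toSylow hidx
  have hX : IsPGroup p (Subgroup.zpowers (⟨x, hx⟩ : M)) :=
    IsPGroup.of_card (n := n) (by rw [Nat.card_zpowers, Subgroup.orderOf_mk, hxo])
  obtain ⟨T, hT⟩ := hX.exists_le_sylow
  obtain ⟨m, hm⟩ := MulAction.exists_smul_eq M T S
  refine ⟨m, m.2, ?_⟩
  have h1 : m * ⟨x, hx⟩ * m⁻¹ ∈ (S : Subgroup M) := by
    rw [← hm, Sylow.coe_subgroup_smul, Subgroup.mem_pointwise_smul_iff_inv_smul_mem]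
    have := hT (Subgroup.mem_zpowers (⟨x, hx⟩ : M))
    simpa [mul_assoc] using this
  exact Subgroup.map_subtype_le (P : Subgroup K) h1

/-- The normalizer of a Sylow subgroup of `M` for a prime of `σ(M)` lies in `M`. -/
theorem normalizer_sylow_le {M : Subgroup G} {p : ℕ} [Fact p.Prime] (hp : p ∈ sigma M)
    (S : Sylow p M) :
    Subgroup.normalizer (((S : Subgroup M).map M.subtype : Subgroup G) : Set G) ≤ M := by
  obtain ⟨-, -, Q, hQ⟩ := hp
  obtain ⟨g, hg⟩ := MulAction.exists_smul_eq M Q S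
  have hSQ : (S : Subgroup M).map M.subtype =
      ((Q : Subgroup M).map M.subtype).map (MulAut.conj (g : G)).toMonoidHom := by
    rw [← hg, Subgroup.map_map]
    show ((Q : Subgroup M).map (MulAut.conj g).toMonoidHom).map M.subtype = _
    rw [Subgroup.map_map]
    rfl
  intro x hx
  rw [hSQ] at hx
  have h1 : (g : G)⁻¹ * x * g ∈
      Subgroup.normalizer (((Q : Subgroup M).map M.subtype : Subgroup G) : Set G) := by
    rw [Subgroup.mem_normalizer_iff]
    intro z
    have h2 := Subgroup.mem_normalizer_iff.mp hx ((g : G) * z * (g : G)⁻¹)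
    rw [BGSigma.mem_map_conj, BGSigma.mem_map_conj] at h2
    simpa [mul_assoc] using h2
  have := mul_mem (mul_mem g.2 (hQ h1)) (inv_mem g.2)
  simpa [mul_assoc] using this

/-- A nilpotent Hall subgroup of `M` inside `M_σ` has its normalizer inside `M`. -/
theorem normalizer_le_of_le_sigmaCore {M U : Subgroup G} (hU : U ≤ sigmaCore M)
    (hnil : Group.IsNilpotent U) (hU1 : U ≠ ⊥) (hcop : (Nat.card U).Coprime (U.relIndex M)) :
    Subgroup.normalizer (U : Set G) ≤ M := by
  have hUM : U ≤ M := hU.trans (sigmaCore_le M)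
  obtain ⟨p, hp, hpd⟩ := Nat.exists_prime_and_dvd (n := Nat.card U)
    fun h1 => hU1 (Subgroup.eq_bot_of_card_eq U h1)
  haveI := Fact.mk hp
  have hpσ : p ∈ sigma M :=
    isPiSub_sigmaCore M p hp (hpd.trans (Subgroup.card_dvd_of_le hU))
  let S : Sylow p U := default
  set S₀ := (S : Subgroup U).map U.subtype with hS₀
  have hS₀U : S₀ ≤ U := Subgroup.map_subtype_le _
  have hidx : ¬ p ∣ S₀.relIndex M := by
    rw [← Subgroup.relIndex_mul_relIndex S₀ U M hS₀U hUM]
    refine hp.not_dvd_mul ?_ fun hd => hp.ne_one (Nat.eq_one_of_dvd_coprimes hcop hpd hd)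
    rw [hS₀, Subgroup.relIndex, Subgroup.subgroupOf,
      Subgroup.comap_map_eq_self_of_injective U.subtype_injective]
    exact S.not_dvd_index
  let T : Sylow p M := ((S.isPGroup'.map U.subtype).comap_subtype (K := M)).toSylow hidx
  have hT : (T : Subgroup M).map M.subtype = S₀ :=
    Subgroup.map_subgroupOf_eq_of_le (hS₀U.trans hUM)
  haveI := hnil
  haveI hSn : (S : Subgroup U).Normal := inferInstance
  intro n hn
  refine normalizer_sylow_le hpσ T ?_
  rw [hT]
  have key : ∀ c ∈ Subgroup.normalizer (U : Set G), ∀ s ∈ S₀, c * s * c⁻¹ ∈ S₀ := by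
    intro c hc s hs
    have hsU : c * s * c⁻¹ ∈ U := (Subgroup.mem_normalizer_iff.mp hc s).mp (hS₀U hs)
    obtain ⟨k, hk⟩ := (S.isPGroup'.map U.subtype) ⟨s, hs⟩
    have hsp : s ^ p ^ k = 1 := congrArg Subtype.val hk
    have hcp : IsPGroup p (Subgroup.zpowers (⟨c * s * c⁻¹, hsU⟩ : U)) := by
      obtain ⟨i, -, hi⟩ := (Nat.dvd_prime_pow hp).mp
        (orderOf_dvd_of_pow_eq_one (x := (⟨c * s * c⁻¹, hsU⟩ : U)) (n := p ^ k) (Subtype.ext (by
          rw [SubgroupClass.coe_pow, conj_pow, hsp]; simp)))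
      exact IsPGroup.of_card (n := i) (by rw [Nat.card_zpowers, hi])
    have hle : Subgroup.zpowers (⟨c * s * c⁻¹, hsU⟩ : U) ≤ (S : Subgroup U) := by
      have h1 := hcp.to_sup_of_normal_right (H := Subgroup.zpowers (⟨c * s * c⁻¹, hsU⟩ : U))
        (K := (S : Subgroup U)) S.isPGroup'
      exact le_sup_left.trans (S.is_maximal' h1 le_sup_right).le
    exact ⟨_, hle (Subgroup.mem_zpowers _), rfl⟩
  exact Coprime.mem_normalizer_of_le_iff (key n hn)
    fun s hs => by simpa using key n⁻¹ (inv_mem hn) s hs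

/-- The criterion for a normal subgroup `X` of `M` with `X_F = M_σ` to be of Frobenius type. -/
theorem isOfTypeF_of_data {M X U : Subgroup G} (hXs : Group.IsSolvable X)
    (hodd : Odd (Nat.card X)) (hXM : X ≤ M) (hXF : fittingHallOf X = sigmaCore M)
    (hne : sigmaCore M ≠ ⊥) (hU : IsComplIn (sigmaCore M) U X) (hU1 : U ≠ ⊥)
    (hab : IsMulCommutative (Subgroup.closure ((U : Set G) ∩ sigmaHat M)))
    (hfpf : ∃ U₀ : Subgroup G, U₀ ≤ U ∧ Monoid.exponent U₀ = Monoid.exponent U ∧
      ∀ u ∈ U₀, u ∈ sigmaHat M → u = 1) :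
    IsOfTypeF ↥X := by
  obtain ⟨hσX, hUX, hbot, hall⟩ := hU
  have hF : fittingHall ↥X = (sigmaCore M).subgroupOf X := by
    rw [← hXF, fittingHallOf, Subgroup.subgroupOf,
      Subgroup.comap_map_eq_self_of_injective X.subtype_injective]
  have hbotX : (U.subgroupOf X) ≠ ⊥ := fun h0 => hU1 (by
    rw [← Subgroup.map_subgroupOf_eq_of_le hUX, h0, Subgroup.map_bot])
  refine ⟨hXs, hodd, ?_, ?_, U.subgroupOf X, hbotX, ?_, ?_, ?_⟩
  · rw [hF]
    intro h0
    exact hne (by rw [← Subgroup.map_subgroupOf_eq_of_le hσX, h0, Subgroup.map_bot])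
  · rw [hF]
    intro h0
    refine hU1 (le_bot_iff.mp fun u hu => hbot.le ⟨?_, hu⟩)
    have : (⟨u, hUX hu⟩ : X) ∈ (sigmaCore M).subgroupOf X := h0.ge (Subgroup.mem_top _)
    exact this
  · rw [hF]
    refine Subgroup.isComplement'_of_disjoint_and_mul_eq_univ ?_ ?_
    · rw [disjoint_iff, eq_bot_iff]
      rintro ⟨x, hx⟩ ⟨h1, h2⟩
      exact Subtype.ext (Subgroup.mem_bot.mp (hbot.le ⟨h1, h2⟩))
    · refine Set.eq_univ_of_forall fun x => ?_
      obtain ⟨a, ha, b, hb, hab'⟩ := hall x x.2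
      exact ⟨⟨a, hσX ha⟩, ha, ⟨b, hUX hb⟩, hb, Subtype.ext hab'.symm⟩
  · set U₁ := Subgroup.closure ((U : Set G) ∩ sigmaHat M) with hU₁
    have hU₁U : U₁ ≤ U := (Subgroup.closure_le U).mpr Set.inter_subset_left
    refine ⟨U₁.subgroupOf X, fun x hx => hU₁U hx, ?_, ?_, ?_⟩
    · intro u hu
      have hu' : (u : G) ∈ U := hu
      have hn : (u : G) ∈ Subgroup.normalizer (U₁ : Set G) := by
        refine Coprime.le_normalizer_of_conj_mem (A := U) ?_ hu'
        intro c hc x hx
        refine (Subgroup.closure_le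
          ((U₁).comap (MulAut.conj c : G ≃* G).toMonoidHom)).mpr ?_ hx
        rintro y ⟨hy, hyM, z, hz, hz1, hyz⟩
        have hcM : c ∈ M := hXM (hUX hc)
        refine Subgroup.subset_closure ⟨mul_mem (mul_mem hc hy) (inv_mem hc),
          mul_mem (mul_mem hcM hyM) (inv_mem hcM), c * z * c⁻¹,
          (Subgroup.mem_normalizer_iff.mp (le_normalizer_sigmaCore M hcM) z).mp hz,
          fun h0 => hz1 (conj_eq_one_iff.mp h0), ?_⟩
        show c * y * c⁻¹ * (c * z * c⁻¹) = c * z * c⁻¹ * (c * y * c⁻¹)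
        calc c * y * c⁻¹ * (c * z * c⁻¹) = c * (y * z) * c⁻¹ := by group
          _ = c * (z * y) * c⁻¹ := by rw [hyz]
          _ = c * z * c⁻¹ * (c * y * c⁻¹) := by group
      rw [Subgroup.mem_normalizer_iff]
      intro z
      exact Subgroup.mem_normalizer_iff.mp hn z
    · haveI := hab
      exact Subgroup.subgroupOf_isMulCommutative X U₁
    · intro x hx hx1 u hu
      obtain ⟨huU, huC⟩ := Subgroup.mem_inf.mp hu
      rw [hF] at hx
      refine Subgroup.subset_closure ⟨huU, hXM u.2, x, hx, fun h0 => hx1 (Subtype.ext h0), ?_⟩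
      exact congrArg Subtype.val (Subgroup.mem_centralizer_singleton_iff.mp huC)
  · obtain ⟨U₀, hU₀, hexp, hU₀f⟩ := hfpf
    refine ⟨U₀.subgroupOf X, fun x hx => hU₀ hx, ?_, fun u hu hu1 x hx hux => ?_⟩
    · rw [Monoid.exponent_eq_of_mulEquiv (Subgroup.subgroupOfEquivOfLe (hU₀.trans hUX)),
        Monoid.exponent_eq_of_mulEquiv (Subgroup.subgroupOfEquivOfLe hUX), hexp]
    · rw [hF] at hx
      by_contra hx1
      exact hu1 (Subtype.ext (hU₀f u hu ⟨hXM u.2, x, hx, fun h0 => hx1 (Subtype.ext h0),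
        congrArg Subtype.val hux⟩))

end Cfsg.Agent.BGSummary
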