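import Cfsg.Agent.BGSummary.Local
import Cfsg.Agent.BGSummary.TypeTools
import Cfsg.Agent.BGTwelve.TauTwoCompl
import Cfsg.Agent.OddLocal43.RankTwo
import Cfsg.Agent.OddLocal43.GLTwo

/-!
# The complement `U ⊔ K` of `M_σ` in `M`

Elementary consequences of a `σ`-decomposition of a maximal subgroup.
-/

set_option autoImplicit false
set_option linter.unusedSectionVars false
set_option linter.style.haveILetI false

namespace Cfsg.Agent.BGSummary.Loc

open Cfsg Subgroup
open Cfsg.Agent.BGSigma (sigmaCore_le le_normalizer_sigmaCore isPiSub_sigmaCore localInputs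
  uniquenessTheorem)

universe u

variable {G : Type u} [Group G] [Finite G]

theorem hall (hG : IsMinSimpleOddOrder G) {M : Subgroup G} (hM : IsCoatom M) :
    IsPiHallOf (sigma M) (sigmaCore M) M :=
  (BGSigma.sigma_core_hall_stmt hG (uniquenessTheorem hG) M hM).1

theorem coprime_of_hall {π : Set ℕ} {H M : Subgroup G} (hH : IsPiHallOf π H M) :
    (Nat.card H).Coprime (H.relIndex M) :=
  Nat.coprime_of_dvd fun p hp h1 h2 => hH.2.2 p hp (hH.2.1 p hp h1) h2

theorem exists_compl (hG : IsMinSimpleOddOrder G) {M : Subgroup G} (hM : IsCoatom M) :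
    ∃ E : Subgroup G, IsComplIn E (sigmaCore M) M := by
  obtain ⟨E, hE⟩ := exists_complIn_of_hall (sigmaCore_le M) (le_normalizer_sigmaCore M)
    (coprime_of_hall (hall hG hM))
  exact ⟨E, TypeCore.complIn_symm hE⟩

theorem prankLE_one_of_cyclic {P : Type*} [Group P] [Finite P] [hP : IsCyclic P] {p : ℕ}
    (hp : p.Prime) : PRankLE p 1 P := by
  intro A _ hA
  haveI : IsCyclic A := inferInstance
  rw [pow_one, ← IsCyclic.exponent_eq_card]
  exact Nat.le_of_dvd hp.pos (Monoid.exponent_dvd_of_forall_pow_eq_one fun a =>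
    Subtype.ext (by simpa using hA a a.2))

/-- No prime lies in both `κ(M)` and `τ₂(M)`. -/
theorem not_tau2_of_kappa {M : Subgroup G} {p : ℕ} (h1 : p ∈ kappa M) : p ∉ tau2 M := by
  intro h2
  haveI := Fact.mk h1.1
  obtain ⟨-, -, -, hc⟩ := h1
  haveI := (hc default).1
  exact h2.2.2.2 ((BGSigma.prankLE_iff_sylow (default : Sylow p M)).mpr
    (prankLE_one_of_cyclic h2.1))

theorem not_tau13_of_tau2 {M : Subgroup G} {p : ℕ} (h2 : p ∈ tau2 M) : p ∉ tau1 M ∪ tau3 M := by
  rintro (h | h)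
  · exact h2.2.2.2 h.2.2.2.2
  · exact h2.2.2.2 h.2.2.2

theorem orderOf_conj (m x : G) : orderOf (m * x * m⁻¹) = orderOf x :=
  orderOf_injective (MulAut.conj m).toMonoidHom (MulAut.conj m).injective x

theorem mem_centralizer_singleton {a x : G} :
    a ∈ centralizer ({x} : Set G) ↔ a * x = x * a := by
  rw [mem_centralizer_singleton_iff]

theorem centralizer_zpowers (x : G) :
    centralizer ((zpowers x : Subgroup G) : Set G) = centralizer ({x} : Set G) := by
  rw [zpowers_eq_closure, centralizer_closure]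

section Decomp

variable {M K U : Subgroup G} (hG : IsMinSimpleOddOrder G) (hM : IsCoatom M)
  (hKU : IsSigmaDecomposition M K U)

include hKU

theorem K_le : K ≤ M := hKU.hall.1

theorem U_le : U ≤ M := hKU.compl.1

theorem inf_sigma_U : U ⊓ sigmaCore M = ⊥ :=
  le_bot_iff.mp ((inf_le_inf_left U le_sup_right).trans hKU.compl.2.2.1.le)

theorem inf_sigma_K : K ⊓ sigmaCore M = ⊥ :=
  le_bot_iff.mp ((inf_le_inf_left K le_sup_right).trans (TypeCore.inf_sup_eq_bot hKU).le)

theorem inf_U_K : U ⊓ K = ⊥ :=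
  le_bot_iff.mp ((inf_le_inf_left U le_sup_left).trans hKU.compl.2.2.1.le)

/-- `U ⊔ K` is a complement of `M_σ`. -/
theorem compl_sup : IsComplIn (U ⊔ K) (sigmaCore M) M := by
  refine TypeCore.complIn_symm (TypeCore.complIn_of_sup (sigmaCore_le M)
    (sup_le hKU.compl.1 hKU.hall.1)
    ((sup_le hKU.compl.1 hKU.hall.1).trans (le_normalizer_sigmaCore M)) ?_ ?_)
  · rw [eq_bot_iff]
    intro x hx
    obtain ⟨hxs, hxe⟩ := mem_inf.mp hx
    obtain ⟨u, hu, k, hk, rfl⟩ := Coprime.exists_mul_of_mem_sup hKU.normal hxe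
    have h1 : u ∈ U ⊓ (K ⊔ sigmaCore M) := by
      refine ⟨hu, ?_⟩
      have := mul_mem (mem_sup_right hxs : u * k ∈ K ⊔ sigmaCore M)
        (inv_mem (mem_sup_left hk : k ∈ K ⊔ sigmaCore M))
      rwa [mul_inv_cancel_right] at this
    rw [hKU.compl.2.2.1, mem_bot] at h1
    subst h1
    rw [one_mul] at hxs ⊢
    exact (inf_sigma_K hKU).le ⟨hk, hxs⟩
  · rw [show sigmaCore M ⊔ (U ⊔ K) = U ⊔ (K ⊔ sigmaCore M) by
      rw [sup_comm, sup_assoc], TypeCore.sup_eq hKU.compl]

include hG hM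

theorem coprime_sup_sigma : (Nat.card ↥(U ⊔ K)).Coprime (Nat.card (sigmaCore M)) :=
  Nat.coprime_of_dvd fun p hp h1 h2 =>
    BGTwelve.not_mem_sigma_of_dvd hG hM (compl_sup hKU) hp h1 (isPiSub_sigmaCore M p hp h2)

theorem not_sigma_of_dvd_sup {p : ℕ} (hp : p.Prime) (hd : p ∣ Nat.card ↥(U ⊔ K)) :
    p ∉ sigma M :=
  BGTwelve.not_mem_sigma_of_dvd hG hM (compl_sup hKU) hp hd

omit hG hM in
theorem relIndex_U_sup : U.relIndex (U ⊔ K) = Nat.card K := by
  rw [sup_comm, Coprime.relIndex_sup_of_le_normalizer hKU.normal, ← inf_relIndex_left, inf_comm,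
    inf_U_K hKU, relIndex_bot_left]

omit hG hM in
theorem card_sup : Nat.card ↥(U ⊔ K) = Nat.card U * Nat.card K := by
  rw [← BGSigma.relIndex_mul_card (le_sup_left : U ≤ U ⊔ K), relIndex_U_sup hKU, mul_comm]

theorem card_M : Nat.card M = Nat.card U * Nat.card K * Nat.card (sigmaCore M) := by
  rw [← BGTwelve.card_compl_mul (compl_sup hKU), card_sup hKU]

/-- The primes of `U` are outside `σ(M)` and `κ(M)`. -/
theorem not_mem_of_dvd_U {p : ℕ} (hp : p.Prime) (hd : p ∣ Nat.card U) :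
    p ∉ sigma M ∧ p ∉ kappa M := by
  refine ⟨not_sigma_of_dvd_sup hG hM hKU hp (hd.trans (card_dvd_of_le le_sup_left)), fun hk => ?_⟩
  refine hKU.hall.2.2 p hp hk ?_
  have h1 := BGSigma.relIndex_mul_card hKU.hall.1
  rw [card_M hG hM hKU, mul_right_comm] at h1
  rw [Nat.eq_of_mul_eq_mul_right Nat.card_pos h1]
  exact hd.mul_right _

theorem dvd_U_of {p : ℕ} (hp : p.Prime) (hd : p ∣ Nat.card M) (hs : p ∉ sigma M)
    (hk : p ∉ kappa M) : p ∣ Nat.card U := by
  rw [card_M hG hM hKU] at hd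
  rcases hp.dvd_mul.mp hd with h | h
  · rcases hp.dvd_mul.mp h with h | h
    · exact h
    · exact absurd (hKU.hall.2.1 p hp h) hk
  · exact absurd (isPiSub_sigmaCore M p hp h) hs

theorem coprime_U_K : (Nat.card U).Coprime (Nat.card K) :=
  Nat.coprime_of_dvd fun p hp h1 h2 =>
    (not_mem_of_dvd_U hG hM hKU hp h1).2 (hKU.hall.2.1 p hp h2)

omit hG hM in
theorem le_U_of_coprime {Y : Subgroup G} (hY : Y ≤ U ⊔ K)
    (hco : (Nat.card Y).Coprime (Nat.card K)) : Y ≤ U :=
  BGSigma.le_of_coprime_relIndex le_sup_left (sup_le le_normalizer hKU.normal) hY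
    ((relIndex_U_sup hKU).symm ▸ hco)

omit hG hM in
theorem mem_U_of_not_kappa {e : G} (he : e ∈ U ⊔ K)
    (hk : ∀ p : ℕ, p.Prime → p ∣ orderOf e → p ∉ kappa M) : e ∈ U := by
  refine le_U_of_coprime hKU ((zpowers_le).mpr he) ?_ (mem_zpowers e)
  rw [Nat.card_zpowers]
  exact Nat.coprime_of_dvd fun p hp h1 h2 => hk p hp h1 (hKU.hall.2.1 p hp h2)

omit hG hM in
theorem U_normal_in_sup : U ⊔ K ≤ normalizer (U : Set G) := sup_le le_normalizer hKU.normal

/-- An element of order `p²`-type for `p ∈ τ₂(M)` lies in `U`. -/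
theorem exists_sq_le_U {p : ℕ} [hp : Fact p.Prime] (h2 : p ∈ tau2 M) :
    ∃ A : Subgroup G, A ≤ U ∧ IsElementaryAbelian p A ∧ Nat.card A = p ^ 2 := by
  obtain ⟨A, hAE, hAe, hAc⟩ := BGTwelve.exists_sq_le_compl hG hM (compl_sup hKU) h2
  refine ⟨A, le_U_of_coprime hKU hAE ?_, hAe, hAc⟩
  rw [hAc]
  refine Nat.Coprime.pow_left _ ((Nat.Prime.coprime_iff_not_dvd hp.out).mpr fun hd => ?_)
  exact not_tau2_of_kappa (hKU.hall.2.1 p hp.out hd) h2

end Decomp

section Cases

variable (hG : IsMinSimpleOddOrder G) (h : LocalStructure G) {M : Subgroup G} (hM : IsCoatom M)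
include hG h hM

/-- A prime outside `σ(M)` of an element centralizing an element of `M_σ` is in `κ(M) ∪ τ₂(M)`. -/
theorem mem_kappa_or_tau2 {x y : G} (hx : x ∈ M) {r : ℕ} (hr : r.Prime) (hrs : r ∉ sigma M)
    (hd : r ∣ orderOf x) (hy : y ∈ sigmaCore M) (hy1 : y ≠ 1) (hxy : x * y = y * x) :
    r ∈ kappa M ∨ r ∈ tau2 M := by
  obtain ⟨k, hk⟩ := hd
  have hk0 : k ≠ 0 := fun h0 => by rw [h0, mul_zero] at hk; exact (orderOf_pos x).ne' hk
  have ho : orderOf (x ^ k) = r := by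
    rw [orderOf_pow_of_dvd hk0 ⟨r, by rw [hk, mul_comm]⟩, hk, Nat.mul_div_cancel _ (Nat.pos_of_ne_zero hk0)]
  have h1 : x ^ k ≠ 1 := fun h0 => by rw [h0, orderOf_one] at ho; exact hr.ne_one ho.symm
  have hc : x ^ k ∈ M ⊓ centralizer ({y} : Set G) :=
    ⟨pow_mem hx k, mem_centralizer_singleton.mpr ((Commute.pow_left (hxy : Commute x y) k))⟩
  have hσ : ∀ p : ℕ, p.Prime → p ∣ orderOf (x ^ k) → p ∉ sigma M := fun p hp hpd => by
    rw [ho] at hpd
    rwa [(Nat.prime_dvd_prime_iff_eq hp hr).mp hpd]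
  rcases h.sigma_prime_commute M hM y hy hy1 _ hc h1 hσ with ⟨h2, -⟩ | ⟨h2, -⟩
  · exact Or.inl (h2 r hr (ho ▸ dvd_rfl))
  · exact Or.inr (h2 r hr (ho ▸ dvd_rfl))

/-- The elements of a complement acting without fixed points outside `τ₂(M)` when `κ(M) = ∅`. -/
theorem fpf_hyp {E : Subgroup G} (hE : IsComplIn E (sigmaCore M) M) (hk : kappa M = ∅) :
    ∀ e ∈ E, e ≠ 1 → (∀ p : ℕ, p.Prime → p ∣ orderOf e → p ∈ tau1 M ∪ tau3 M) →
      sigmaCore M ⊓ centralizer ({e} : Set G) = ⊥ := by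
  intro e he he1 h13
  refine (eq_bot_iff_forall _).mpr fun y hy => by_contra fun hy1 => ?_
  obtain ⟨r, hr, hrd⟩ := Nat.exists_prime_and_dvd (mt orderOf_eq_one_iff.mp he1)
  have hrs := BGTwelve.not_mem_sigma_of_dvd hG hM hE hr
    (hrd.trans (Subgroup.orderOf_dvd_natCard E he))
  rcases mem_kappa_or_tau2 hG h hM (hE.1 he) hr hrs hrd hy.1 hy1
    (mem_centralizer_singleton.mp hy.2).symm with h1 | h1
  · simp [hk] at h1
  · exact not_tau13_of_tau2 h1 (h13 r hr hrd)

variable {K U : Subgroup G} (hKU : IsSigmaDecomposition M K U)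
include hKU

theorem sup_eq_U (hK : K = ⊥) : U ⊔ K = U := by rw [hK, sup_bot_eq]

theorem kappa_eq_empty (hK : K = ⊥) : kappa M = ∅ := (TypeCore.eq_bot_iff_kappa hKU.hall).mp hK

theorem compl_U (hK : K = ⊥) : IsComplIn U (sigmaCore M) M := by
  have := compl_sup hKU
  rwa [sup_eq_U hG h hM hKU hK] at this

/-- An element of `U` centralizing a nonidentity element of `M_σ` is a `τ₂(M)`-element. -/
theorem tau2_of_U {u y : G} (hu : u ∈ U) (hy : y ∈ sigmaCore M) (hy1 : y ≠ 1)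
    (huy : u * y = y * u) {r : ℕ} (hr : r.Prime) (hd : r ∣ orderOf u) : r ∈ tau2 M := by
  have hrU : r ∣ Nat.card U := hd.trans (Subgroup.orderOf_dvd_natCard U hu)
  obtain ⟨hrs, hrk⟩ := not_mem_of_dvd_U hG hM hKU hr hrU
  exact (mem_kappa_or_tau2 hG h hM (hKU.compl.1 hu) hr hrs hd hy hy1 huy).resolve_left hrk

/-- `U` is a Hall subgroup for the primes outside `κ(M) ∪ σ(M)`. -/
theorem isPiHallOf_U : IsPiHallOf {q | q.Prime ∧ q ∉ kappa M ∧ q ∉ sigma M} U M := by
  refine ⟨hKU.compl.1, fun p hp hd => ⟨hp, (not_mem_of_dvd_U hG hM hKU hp hd).symm⟩,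
    fun p hp hmem hd => ?_⟩
  have h1 := BGSigma.relIndex_mul_card hKU.compl.1
  rw [card_M hG hM hKU, mul_assoc, mul_comm (Nat.card U)] at h1
  rw [Nat.eq_of_mul_eq_mul_right Nat.card_pos h1] at hd
  rcases hp.dvd_mul.mp hd with hd | hd
  · exact hmem.2.1 (hKU.hall.2.1 p hp hd)
  · exact hmem.2.2 (isPiSub_sigmaCore M p hp hd)

theorem abelian_U (hK : K ≠ ⊥) : IsMulCommutative U := by
  obtain ⟨-, ⟨U', hU'c, hU', -⟩, -⟩ := h.kappa_context M hM K hKU.hall hK
  obtain ⟨g, -, hg⟩ := Coprime.exists_isPiHallOf_conj (BGSigma.coatom_isSolvable hG hM) hU'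
    (isPiHallOf_U hG h hM hKU)
  haveI := hU'c
  rw [← hg]
  exact Subgroup.map_isMulCommutative _ _

end Cases

section Sq

variable (hG : IsMinSimpleOddOrder G) (h : LocalStructure G) {M E A : Subgroup G} (hM : IsCoatom M)
  (hE : IsComplIn E (sigmaCore M) M) {p : ℕ} [hp : Fact p.Prime] (hp2 : p ∈ tau2 M)
  (hA : A ≤ E ∧ IsElementaryAbelian p A ∧ Nat.card A = p ^ 2)
include hG h hM hE hp2 hA

/-- An element of `E` commuting with a point of `A` that is not semiregular on `M_σ` centralizes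
`A`, provided its primes lie in `τ₂(M)` whenever the Sylow `p`-subgroups of `G` are not abelian. -/
theorem mem_centralizer_sq {x y : G} (hxA : x ∈ A) (hx1 : x ≠ 1)
    (hfix : sigmaCore M ⊓ centralizer ({x} : Set G) ≠ ⊥) (hyE : y ∈ E) (hxy : y * x = x * y)
    (hy : (∃ S : Sylow p G, IsMulCommutative (S : Subgroup G)) ∨
      ∀ q : ℕ, q.Prime → q ∣ orderOf y → q ∈ tau2 M) :
    y ∈ centralizer (A : Set G) := by
  have hI := localInputs hG
  obtain ⟨hAE, hAe, hAc⟩ := hA
  have hxp : orderOf x = p := orderOf_eq_prime (hAe.2 x hxA) hx1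
  haveI := hAe.1
  have hAn : E ≤ normalizer (A : Set G) :=
    BGTwelve.compl_le_normalizer_sq hG hI hM hE hp2 ⟨hAE, hAe, hAc⟩
  by_cases hS : ∀ S : Sylow p G, ¬ IsMulCommutative (S : Subgroup G)
  · obtain ⟨hτ, -, -⟩ := h.tau_two_nonabelian M hM E hE p hp2 hS A ⟨hAE, hAe, hAc⟩
    have hy' := hy.resolve_left fun ⟨S, hS'⟩ => hS S hS'
    have hpy : IsPGroup p (zpowers y) := by
      obtain ⟨n, hn⟩ : ∃ n, orderOf y = p ^ n :=
        ⟨_, Nat.eq_prime_pow_of_unique_prime_dvd (orderOf_pos y).ne' fun {q} hq hd => by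
          have := hy' q hq hd; rw [hτ] at this; exact this⟩
      exact IsPGroup.of_card (by rw [Nat.card_zpowers, hn])
    exact BGTwelve.pgroup_le_centralizer_sq hG hI hM hE hp2 ⟨hAE, hAe, hAc⟩ hpy
      ((zpowers_le).mpr hyE) (mem_zpowers y)
  push Not at hS
  obtain ⟨S₀, hS₀⟩ := hS
  by_contra hyA
  obtain ⟨-, ⟨hCA, -, hnN⟩, hX⟩ :=
    BGTwelve.tau_two_compl_stmt hG hI hM hE hp2 ⟨hAE, hAe, hAc⟩
  obtain ⟨hCx, hCxu⟩ := hX (zpowers x) ((zpowers_le).mpr hxA) (by rw [Nat.card_zpowers, hxp])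
    (by rwa [centralizer_zpowers])
  rw [centralizer_zpowers] at hCx hCxu
  refine hnN ?_
  -- the automorphisms induced on `A` form a `p'`-group with a derived group of `p`-power order
  set N : Subgroup G := normalizer (A : Set G) with hN
  let φ : N →* MulAut A := normalizerMonoidHom A
  have hker : ∀ n : N, φ n = 1 ↔ (n : G) ∈ centralizer (A : Set G) := fun n => by
    rw [← MonoidHom.mem_ker, normalizerMonoidHom_ker, mem_subgroupOf]
  have hp' : ¬ p ∣ Nat.card φ.range := by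
    intro hd
    obtain ⟨v, hn⟩ := exists_prime_orderOf_dvd_card' p hd
    obtain ⟨n, hnv⟩ := v.2
    rw [← Subgroup.orderOf_coe, ← hnv] at hn
    obtain ⟨k, a, hka, hno⟩ := Nat.exists_eq_pow_mul_and_not_dvd (orderOf_pos n).ne' p hp.out.ne_one
    have hm : n ^ a ∈ φ.ker := by
      have hT : IsPGroup p (A ⊔ zpowers ((n : G) ^ a) : Subgroup G) := by
        refine IsPGroup.to_sup_of_normal_left' (IsPGroup.of_card hAc) (IsPGroup.of_card (n := k) ?_)
          ((zpowers_le).mpr (pow_mem n.2 a))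
        rw [Nat.card_zpowers, ← Subgroup.coe_pow, Subgroup.orderOf_coe, orderOf_pow_of_dvd
          (fun h0 => hka (by simp [h0])) ⟨p ^ k, by rw [hno, mul_comm]⟩, hno,
          Nat.mul_div_cancel _ (Nat.pos_of_ne_zero fun h0 => hka (by simp [h0]))]
      obtain ⟨S, hTS⟩ := hT.exists_le_sylow
      haveI : IsMulCommutative (S : Subgroup G) :=
        ⟨⟨fun u v => (Sylow.equiv S S₀).injective (by rw [map_mul, map_mul]; exact mul_comm' _ _)⟩⟩
      rw [MonoidHom.mem_ker, hker]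
      exact mem_centralizer_iff.mpr fun b hb => congrArg Subtype.val
        (mul_comm' (⟨b, hTS (mem_sup_left hb)⟩ : (S : Subgroup G))
          ⟨_, hTS (mem_sup_right (mem_zpowers _))⟩)
    rw [MonoidHom.mem_ker, map_pow] at hm
    exact hka (hn ▸ orderOf_dvd_of_pow_eq_one hm)
  have hNs : Group.IsSolvable N := by
    refine BGSigma.isSolvable_of_ne_top hG (BGSigma.normalizer_ne_top hG ?_ ?_)
    · intro h0; rw [h0, card_bot] at hAc
      exact absurd hAc.symm (Nat.one_lt_pow two_ne_zero hp.out.one_lt).ne'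
    · intro h0; exact hM.1 (top_le_iff.mp (h0 ▸ hAE.trans hE.1))
  haveI := hNs
  haveI : Group.IsSolvable φ.range := Group.isSolvable_of_surjective φ.rangeRestrict_surjective
  have hodd : Odd (Nat.card φ.range) :=
    (BGSigma.odd_card_subgroup hG N).of_dvd_nat (Subgroup.card_range_dvd φ)
  obtain ⟨f, hf⟩ := OddLocal43.exists_injective_to_GL_two (p := p) (V := A) (fun a b => mul_comm' a b)
    (fun v => Subtype.ext (by simpa using hAe.2 v v.2)) hAc.le
  have hpp2 : p ≠ 2 := BGSigma.ne_two_of_dvd hG (H := A) (hAc ▸ dvd_pow_self p two_ne_zero)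
  have hab : commutator φ.range = ⊥ := by
    have := OddLocal43.isPGroup_commutator_of_GL_two hpp2 hodd (f.comp φ.range.subtype)
      (hf.comp φ.range.subtype_injective)
    obtain ⟨j, hj⟩ := this.exists_card_eq
    rw [← card_eq_one, hj]
    rcases j with _ | j
    · exact pow_zero p
    · exact absurd ((dvd_pow_self p (Nat.succ_ne_zero j)).trans
        (hj ▸ card_subgroup_dvd_card _)) hp'
  have hcomm : ∀ m n : N, φ m * φ n = φ n * φ m := fun m n => by
    have h0 := commutator_mem_commutator (g₁ := (⟨φ m, m, rfl⟩ : φ.range)) (g₂ := ⟨φ n, n, rfl⟩)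
      (mem_top _) (mem_top _)
    rw [← _root_.commutator_def, hab, mem_bot, commutatorElement_eq_one_iff_mul_comm] at h0
    exact congrArg Subtype.val h0
  -- the fixed points of `y` on `A` form the line through `x`
  set F : Subgroup G := A ⊓ centralizer ({y} : Set G) with hF
  have hxF : x ∈ F := ⟨hxA, mem_centralizer_singleton.mpr hxy.symm⟩
  have hFc : F = zpowers x := by
    refine (eq_of_le_of_card_ge ((zpowers_le).mpr hxF) ?_).symm
    obtain ⟨j, hj2, hj⟩ := (Nat.dvd_prime_pow hp.out).mp (hAc ▸ card_dvd_of_le (inf_le_left : F ≤ A))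
    rw [Nat.card_zpowers, hxp, hj]
    rcases Nat.lt_or_ge j 2 with hj' | hj'
    · interval_cases j <;> simp [hp.out.one_le]
    · have hFA : F = A := eq_of_le_of_card_ge inf_le_left (by rw [hj, hAc]; exact le_of_eq (by congr 1; omega))
      exact absurd (mem_centralizer_iff.mpr fun a ha =>
        mem_centralizer_singleton.mp (hFA.ge ha).2) hyA
  have hNx : N ≤ normalizer ((zpowers x : Subgroup G) : Set G) := by
    refine Coprime.le_normalizer_of_conj_mem fun n hn a ha => ?_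
    rw [← hFc] at ha ⊢
    refine ⟨Coprime.conj_mem_of_mem_normalizer hn ha.1, mem_centralizer_singleton.mpr ?_⟩
    have h1 := DFunLike.congr_fun (hcomm ⟨n, hn⟩ ⟨y, hAn hyE⟩) ⟨a, ha.1⟩
    simp only [MulAut.mul_apply] at h1
    have h2 : n * (y * a * y⁻¹) * n⁻¹ = y * (n * a * n⁻¹) * y⁻¹ := congrArg Subtype.val h1
    rw [← mem_centralizer_singleton.mp ha.2, mul_inv_cancel_right] at h2
    rw [eq_mul_inv_iff_mul_eq.mp h2]
  obtain ⟨L, hL, hNL⟩ := BGSigma.exists_coatom_ge hG (BGSigma.normalizer_ne_top hG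
    (zpowers_ne_bot.mpr hx1) fun h0 => hM.1 (top_le_iff.mp (h0 ▸ (zpowers_le).mpr (hE.1 (hAE hxA)))))
  have hLM : L = M := hCxu L hL
    ((centralizer_zpowers x).symm.le.trans ((centralizer_le_normalizer _).trans hNL))
  exact hNx.trans (hLM ▸ hNL)

end Sq

end Cfsg.Agent.BGSummary.Loc
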