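import Cfsg.Agent.BGSummary.Local
import Cfsg.Agent.S1351
import Cfsg.Agent.S1352
import Cfsg.Agent.S1353
import Cfsg.Agent.S1354
import Cfsg.Agent.S1366
import Cfsg.Agent.S1367
import Cfsg.Agent.S1368
import Cfsg.Agent.S1369
import Cfsg.Agent.S1370
import Cfsg.Agent.S1374
import Cfsg.Agent.S1375
import Cfsg.Agent.S1415
import Cfsg.Agent.S1416
import Cfsg.Agent.S1417
import Cfsg.Agent.S1418
import Cfsg.Agent.S1419
import Cfsg.Agent.S1420
import Cfsg.Agent.S1421
import Cfsg.Agent.S1422
import Cfsg.Agent.S1423
import Cfsg.Agent.S1424
import Cfsg.Agent.S1425
import Cfsg.Agent.S1426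
import Cfsg.Agent.S1427
import Cfsg.Agent.S1428
import Cfsg.Agent.S1429
import Cfsg.Agent.S1430
import Cfsg.Agent.S1431
import Cfsg.Agent.S1432
import Cfsg.Agent.S1433
import Cfsg.Agent.S1434

/-!
The local structure of a minimal simple group of odd order, from the proved statements.
-/

set_option autoImplicit false

namespace Cfsg.Agent.BGSummary

open Cfsg

universe u

/-- The local structure of a minimal simple group of odd order. -/
theorem localStructure {G : Type u} [Group G] [Finite G] (hG : IsMinSimpleOddOrder G) :
    LocalStructure G where
  kappa_hall := S1351.result hG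
  decomp := S1352.result hG
  fpf := S1353.result hG
  kappa_star := S1354.result hG
  star := S1366.result hG
  star_uniq := S1367.result hG
  star_inf := S1368.result hG
  star_class := S1369.result hG
  zhat_ti := S1370.result hG
  sigma_supports := S1374.result hG
  signalizer := S1375.result hG
  compl_context := S1415.result hG
  centralizer_sq := S1416.result hG
  tau_two := S1417.result hG
  tau_two_compl := S1418.result hG
  tau_two_nonabelian := S1419.result hG
  sigma_prime := S1420.result hG
  fpf_compl := S1421.result hG
  nonabelian_uniq := S1422.result hG
  beta_uniq := S1423.result hG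
  sigma_normalizer := S1424.result hG
  sigma_conj := S1425.result hG
  sigma_meet := S1426.result hG
  cyclic_semiregular := S1427.result hG
  tau_one_cent := S1428.result hG
  p1_context := S1429.result hG
  kappa_context := S1430.result hG
  kappa_star_meet := S1431.result hG
  sigma_prime_commute := S1432.result hG
  supports_disjoint := S1433.result hG
  star_structure := S1434.result hG

end Cfsg.Agent.BGSummary
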