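import Cfsg.Agent.BGSummary.TypeCore
import Cfsg.Agent.OddLocal43.FrobeniusAction
import Cfsg.Agent.Lib.Coprime.Abelian
import Cfsg.Agent.Lib.Transfer.Abelian
import Cfsg.Agent.Lib.Transfer.Focal
import Cfsg.Agent.Lib.Transfer.Frobenius
import Mathlib.GroupTheory.SpecificGroups.ZGroup

/-!
When the Fitting subgroup of a maximal subgroup of Frobenius type is not a TI-subset, its
`O_{p'}` is cyclic.
-/

set_option autoImplicit false

namespace Cfsg.Agent.BGSummary

open Cfsg
open scoped Pointwise commutatorElement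
open Cfsg.Agent.BGSigma (sigmaCore_le le_normalizer_sigmaCore isPiSub_sigmaCore)

universe u

variable {G : Type u} [Group G] [Finite G]

omit [Finite G] in
theorem le_normalizer_of_le_cyclic {M C K : Subgroup G} (hC : IsCyclic C) (hKC : K ≤ C)
    (hM : M ≤ Subgroup.normalizer (C : Set G)) : M ≤ Subgroup.normalizer (K : Set G) := by
  refine Coprime.le_normalizer_of_conj_mem fun m hm k hk => ?_
  haveI := hC
  let σ : C →* C :=
    { toFun := fun c => ⟨m * c * m⁻¹, (Subgroup.mem_normalizer_iff.mp (hM hm) c).mp c.2⟩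
      map_one' := Subtype.ext (by simp)
      map_mul' := fun a b => Subtype.ext (by
        show m * ((a : G) * b) * m⁻¹ = m * a * m⁻¹ * (m * b * m⁻¹)
        group) }
  obtain ⟨n, hn⟩ := σ.map_cyclic
  have h1 := congrArg Subtype.val (hn ⟨k, hKC hk⟩)
  simp only [SubgroupClass.coe_zpow] at h1
  show m * k * m⁻¹ ∈ K
  have h2 : m * k * m⁻¹ = k ^ n := h1
  rw [h2]
  exact zpow_mem hk n

theorem mem_zpowers_of_orderOf_eq {C : Subgroup G} (hC : IsCyclic C) {a b : G} (ha : a ∈ C)
    (hb : b ∈ C) (hab : orderOf a = orderOf b) : b ∈ Subgroup.zpowers a := by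
  classical
  haveI := hC
  haveI : Fintype C := Fintype.ofFinite _
  set a' : C := ⟨a, ha⟩
  set b' : C := ⟨b, hb⟩
  have hoa : orderOf a' = orderOf a := Subgroup.orderOf_mk a ha
  have hob : orderOf b' = orderOf b := Subgroup.orderOf_mk b hb
  have hsub : (Finset.univ.filter fun z : C => z ∈ Subgroup.zpowers a') ⊆
      (Finset.univ.filter fun z : C => z ^ orderOf a' = 1) := fun z hz => by
    simp only [Finset.mem_filter, Finset.mem_univ, true_and] at hz ⊢
    obtain ⟨k, rfl⟩ := hz
    show (a' ^ k) ^ orderOf a' = 1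
    rw [← zpow_natCast, ← zpow_mul, mul_comm, zpow_mul, zpow_natCast, pow_orderOf_eq_one, one_zpow]
  have hcard : (Finset.univ.filter fun z : C => z ^ orderOf a' = 1).card ≤
      (Finset.univ.filter fun z : C => z ∈ Subgroup.zpowers a').card := by
    refine (IsCyclic.card_pow_eq_one_le (orderOf_pos a')).trans (le_of_eq ?_)
    rw [← Fintype.card_subtype, ← Nat.card_eq_fintype_card]
    exact (Nat.card_zpowers a').symm
  have hb' : b' ∈ (Finset.univ.filter fun z : C => z ^ orderOf a' = 1) := by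
    simp only [Finset.mem_filter, Finset.mem_univ, true_and]
    rw [hoa, hab, ← hob]
    exact pow_orderOf_eq_one _
  rw [← Finset.eq_of_subset_of_card_le hsub hcard] at hb'
  obtain ⟨k, hk⟩ := (Finset.mem_filter.mp hb').2
  exact ⟨k, congrArg Subtype.val hk⟩

/-- An element of `S ∩ M'` central in the normalizer of the abelian Sylow subgroup `S` is
trivial. -/
theorem eq_one_of_central_normalizer {H : Type*} [Group H] [Finite H] {r : ℕ} [Fact r.Prime]
    (S : Sylow r H) (hS : IsMulCommutative S) {z : H} (hzS : z ∈ (S : Subgroup H))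
    (hz : z ∈ commutator H)
    (hc : ∀ t ∈ Subgroup.normalizer ((S : Subgroup H) : Set H), t * z = z * t) : z = 1 := by
  set T := Subgroup.normalizer ((S : Subgroup H) : Set H) with hT
  have hST : (S : Subgroup H) ≤ T := Subgroup.le_normalizer
  have h1 : z ∈ commutator H ⊓ (S : Subgroup H) := ⟨hz, hzS⟩
  rw [Subgroup.commutator_inf_eq_focalSubgroup S,
    Transfer.focalSubgroup_eq_commutator_normalizer_of_abelian S hS] at h1
  have h2 : z ∈ ⁅T, T⁆ := Subgroup.commutator_mono hST le_rfl h1
  rw [← Subgroup.map_subtype_commutator] at h2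
  obtain ⟨z', hz', rfl⟩ := h2
  have hH : IsMulCommutative ((S : Subgroup H).subgroupOf T) := by
    haveI := hS
    exact Subgroup.subgroupOf_isMulCommutative T S
  have h3 : z' ∈ (⊥ : Subgroup T) := by
    rw [← Transfer.inf_commutator_inf_center_eq_bot hH ?_]
    · exact ⟨⟨hzS, hz'⟩, Subgroup.mem_center_iff.mpr fun t => Subtype.ext (hc t t.2)⟩
    · obtain ⟨n, hn⟩ := S.isPGroup'.exists_card_eq
      rw [Nat.card_congr (Subgroup.subgroupOfEquivOfLe hST).toEquiv, hn]
      exact Nat.Coprime.pow_left n ((Nat.Prime.coprime_iff_not_dvd (Fact.out : r.Prime)).mpr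
        fun hd => S.not_dvd_index (hd.trans (Subgroup.relIndex_dvd_index_of_le hST)))
  rw [Subgroup.mem_bot] at h3
  rw [h3]
  rfl

variable (hG : IsMinSimpleOddOrder G) (h : TypeInputs G)
include hG h

theorem isCyclic_pPrimeCore {M K U : Subgroup G} (hM : IsCoatom M)
    (hKU : IsSigmaDecomposition M K U) (hK : K = ⊥) (hF : fittingHallOf M = sigmaCore M)
    (hM' : ⁅M, M⁆ = fittingOf M) {p : ℕ} [hp : Fact p.Prime] {g : G} (hg : g ∉ M)
    (hX : Nat.card ↥(fittingOf M ⊓ (fittingOf M).map (MulAut.conj g).toMonoidHom) = p)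
    (hpσ : p ∈ sigma M) (hC : IsCyclic (pPrimeCore p ↥(fittingHallOf M))) :
    IsCyclic (pPrimeCore p ↥M) := by
  obtain ⟨hHall, -, -⟩ := h.sigma_hall M hM
  set σM := sigmaCore M with hσM
  set P := BGUniq.core p M with hP
  set Q := BGUniq.opp p M with hQ
  set C := Q ⊓ σM with hCdef
  have hQM : Q ≤ M := BGUniq.opp_le p M
  have hQn : M ≤ Subgroup.normalizer (Q : Set G) := BGUniq.le_normalizer_opp p M
  have hPn := BGUniq.le_normalizer_core p M
  have hσF : σM ≤ fittingOf M := hF ▸ TypeCore.fittingHallOf_le_fittingOf M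
  have hPσ : P ≤ σM := fun y hy => by
    obtain ⟨j, hj⟩ := BGUniq.isPGroup_core p M ⟨y, hy⟩
    have hyp : y ^ p ^ j = 1 := congrArg Subtype.val hj
    obtain ⟨i, -, hi⟩ := (Nat.dvd_prime_pow hp.out).mp (orderOf_dvd_of_pow_eq_one hyp)
    exact TypeCore.mem_sigmaCore_of_prime_pow hHall (BGUniq.core_le p M hy) hp.out hpσ hi
  -- `C` is cyclic
  have hCc : IsCyclic C := by
    haveI := hC
    have hle : C ≤ BGUniq.opp p σM := by
      refine BGUniq.le_opp inf_le_right (Coprime.le_normalizer_inf
        ((sigmaCore_le M).trans hQn) Subgroup.le_normalizer) ?_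
      exact (BGUniq.opp_coprime p M).coprime_dvd_left (Subgroup.card_dvd_of_le inf_le_left)
    rw [← hF] at hle
    have : IsCyclic (BGUniq.opp p (fittingHallOf M)) :=
      ((pPrimeCore p ↥(fittingHallOf M)).equivMapOfInjective _
        (Subgroup.subtype_injective _)).isCyclic.mp inferInstance
    exact Subgroup.isCyclic_of_le hle
  -- `P` and `Q` commute
  have hPQ : ∀ a ∈ P, ∀ b ∈ Q, a * b = b * a := by
    intro a ha b hb
    have h1 : a * b * a⁻¹ * b⁻¹ ∈ P ⊓ Q := by
      refine Subgroup.mem_inf.mpr ⟨?_, ?_⟩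
      · have := mul_mem ha ((Subgroup.mem_normalizer_iff.mp (hPn (hQM hb)) a⁻¹).mp (inv_mem ha))
        simpa [mul_assoc] using this
      · exact mul_mem ((Subgroup.mem_normalizer_iff.mp (hQn (BGUniq.core_le p M ha)) b).mp hb)
          (inv_mem hb)
    obtain ⟨n, hn⟩ := (BGUniq.isPGroup_core p M).exists_card_eq
    have hcop : (Nat.card P).Coprime (Nat.card Q) := by
      rw [show Nat.card P = p ^ n from hn]
      exact Nat.Coprime.pow_left n (BGUniq.opp_coprime p M).symm
    rw [Subgroup.inf_eq_bot_of_coprime hcop, Subgroup.mem_bot, mul_inv_eq_one,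
      mul_inv_eq_iff_eq_mul] at h1
    exact h1
  have hFle : fittingOf M ≤ P ⊔ Q := BGUniq.fittingOf_le_of_core_le fun s hs => by
    haveI := Fact.mk hs
    rcases eq_or_ne s p with rfl | hsp
    · exact le_sup_left
    · exact (BGUniq.core_le_opp hsp M).trans le_sup_right
  have hσle : σM ≤ P ⊔ C := by
    intro y hy
    have hy' : y ∈ ((P ⊔ Q : Subgroup G) : Set G) := hFle (hσF hy)
    rw [Subgroup.coe_mul_of_right_le_normalizer_left P Q (hQM.trans hPn)] at hy'
    obtain ⟨a, ha, b, hb, rfl⟩ := hy'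
    exact Subgroup.mul_mem_sup ha ⟨hb, by simpa using mul_mem (inv_mem (hPσ ha)) hy⟩
  -- the element `x` generating the intersection
  haveI hXc : IsCyclic ↥(fittingOf M ⊓ (fittingOf M).map (MulAut.conj g).toMonoidHom) :=
    isCyclic_of_prime_card hX
  obtain ⟨⟨x, hxX⟩, hxgen⟩ := IsCyclic.exists_generator
    (α := ↥(fittingOf M ⊓ (fittingOf M).map (MulAut.conj g).toMonoidHom))
  have hxo : orderOf x = p := by
    rw [← Subgroup.orderOf_mk x hxX, orderOf_eq_card_of_forall_mem_zpowers hxgen, hX]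
  have hxP : x ∈ P := BGUniq.mem_core_of_mem_fittingOf hxX.1 (j := 1) (by rw [hxo, pow_one])
  have hxσ : x ∈ σM := hPσ hxP
  have hx1 : x ≠ 1 := fun h0 => hp.out.ne_one (by rw [← hxo, h0, orderOf_one])
  have hxC : ¬ Subgroup.centralizer ({x} : Set G) ≤ M := by
    intro hle
    have hy : g⁻¹ * x * g ∈ fittingOf M := BGSigma.mem_map_conj.mp hxX.2
    have hyo : orderOf (g⁻¹ * x * g) = p := by
      rw [show g⁻¹ * x * g = MulAut.conj g⁻¹ x by simp, MulEquiv.orderOf_eq, hxo]
    have hyσ : g⁻¹ * x * g ∈ σM :=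
      hPσ (BGUniq.mem_core_of_mem_fittingOf hy (j := 1) (by rw [hyo, pow_one]))
    have hne : σM ≠ ⊥ := fun h0 => hx1 (Subgroup.mem_bot.mp (h0.le hxσ))
    obtain ⟨n, hn, hnx⟩ := (h.sigma_fusion M hM σM le_rfl hne
      (by rw [Subgroup.relIndex_self]; exact Nat.coprime_one_right _)).2 _ hyσ g
      (by simpa [mul_assoc] using hxσ)
    have hnx' : n * (g⁻¹ * x * g) * n⁻¹ = x := by rw [hnx]; group
    have h2 : g * n⁻¹ ∈ Subgroup.centralizer ({x} : Set G) := by
      rw [Subgroup.mem_centralizer_singleton_iff]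
      calc g * n⁻¹ * x = g * n⁻¹ * (n * (g⁻¹ * x * g) * n⁻¹) := by rw [hnx']
        _ = x * (g * n⁻¹) := by group
    exact hg (by simpa using mul_mem (hle h2) hn.1)
  -- elements of prime order of `Q` outside `σ(M)` centralise `M_σ`
  have hA : ∀ u ∈ Q, ∀ r : ℕ, r.Prime → r ∉ sigma M → orderOf u = r →
      u ∈ Subgroup.centralizer (σM : Set G) := by
    intro u hu r hr hrσ hur
    haveI := Fact.mk hr
    suffices hCu : C ≤ Subgroup.centralizer ({u} : Set G) by
      refine Subgroup.mem_centralizer_iff.mpr fun y hy => ?_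
      have hle : σM ≤ Subgroup.centralizer ({u} : Set G) := hσle.trans (sup_le (fun a ha =>
        Subgroup.mem_centralizer_singleton_iff.mpr (hPQ a ha u hu)) hCu)
      exact Subgroup.mem_centralizer_singleton_iff.mp (hle hy)
    by_contra hCu
    have hxu : x * u = u * x := hPQ x hxP u hu
    rcases h.sigma_prime_commute M hM x hxσ hx1 u
      ⟨hQM hu, Subgroup.mem_centralizer_singleton_iff.mpr hxu.symm⟩
      (fun h0 => hr.ne_one (by rw [← hur, h0, orderOf_one]))
      (fun q hq hd => by rwa [(Nat.prime_dvd_prime_iff_eq hq hr).mp (hur ▸ hd)])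
      with ⟨-, hle⟩ | ⟨hτ, -, hCuM, -⟩
    · exact hxC hle
    obtain ⟨N, ⟨hN, hxN⟩, -, hσN, -, -, hcompl, -⟩ := h.signalizer M hM x hxσ hx1 hxC
    have hrt : r ∈ tau2 M := hτ r hr hur.symm.dvd
    have hdisj : ∀ ℓ ∈ sigma N, ¬ ℓ ∣ Nat.card M := fun ℓ hℓ hd =>
      (Set.eq_empty_iff_forall_notMem.mp
        ((h.support_primes M hM x hxσ hx1 hxC N hN hxN).1 ⟨ℓ, hℓ, hd⟩).2 r) hrt
    set R := Subgroup.zpowers u with hR
    set L := ⁅C, R⁆ with hL
    have hRM : R ≤ M := Subgroup.zpowers_le.mpr (hQM hu)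
    have hCn : M ≤ Subgroup.normalizer (C : Set G) :=
      Coprime.le_normalizer_inf hQn (le_normalizer_sigmaCore M)
    have hRC : R ≤ Subgroup.normalizer (C : Set G) := hRM.trans hCn
    have hCσ : C ≤ σM := inf_le_right
    have hcopRC : (Nat.card R).Coprime (Nat.card C) := by
      rw [Nat.card_zpowers, hur]
      exact (Nat.Prime.coprime_iff_not_dvd hr).mpr fun hd =>
        hrσ (isPiSub_sigmaCore M r hr (hd.trans (Subgroup.card_dvd_of_le hCσ)))
    haveI hCab : IsMulCommutative C := by
      haveI := hCc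
      infer_instance
    have hLC : L ≤ C := Coprime.commutator_le_of_le_normalizer hRC
    have hLR : L ⊓ Subgroup.centralizer (R : Set G) = ⊥ :=
      Coprime.commutator_inf_centralizer_eq_bot R C hRC hcopRC
    have hL0 : L ≠ ⊥ := fun h0 => hCu fun c hc => by
      have := Subgroup.commutator_eq_bot_iff_le_centralizer.mp h0 hc
      exact Subgroup.mem_centralizer_singleton_iff.mpr
        (Subgroup.mem_centralizer_iff.mp this u (Subgroup.mem_zpowers u)).symm
    have hLn : M ≤ Subgroup.normalizer (L : Set G) := le_normalizer_of_le_cyclic hCc hLC hCn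
    have hLM : L ≤ M := (hLC.trans hCσ).trans (sigmaCore_le M)
    -- a minimal characteristic piece of `N_σ`
    set σN := sigmaCore N with hσN'
    have hNσM : σN ⊓ M = ⊥ := by
      refine le_bot_iff.mp fun y hy => ?_
      exact hcompl.2.2.1.le ⟨⟨hy.2, sigmaCore_le N hy.1⟩, hy.1⟩
    have hσN0 : σN ≠ ⊥ := fun h0 => by
      refine hxC ?_
      intro c hc
      have hcN : c ∈ N := hxN hc
      obtain ⟨a, ha, b, hb, rfl⟩ := hcompl.2.2.2 c hcN
      rw [h0, Subgroup.mem_bot] at hb
      subst hb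
      rw [mul_one]
      exact ha.1
    haveI : Nontrivial σN := (Subgroup.nontrivial_iff_ne_bot _).mpr hσN0
    haveI : Group.IsNilpotent σN := by
      rw [hσN]
      haveI := BGUniq.fittingHall_isNilpotent ↥N
      exact Fitting.isNilpotent_map _ inferInstance
    obtain ⟨ℓ, hℓ, hℓd⟩ := Nat.exists_prime_and_dvd (n := Nat.card (Subgroup.center σN))
      (fun h1 => Group.IsNilpotent.center_ne_bot (G := σN) (Subgroup.eq_bot_of_card_eq _ h1))
    haveI := Fact.mk hℓ
    have hℓN : ℓ ∈ sigma N := isPiSub_sigmaCore N ℓ hℓ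
      (hℓd.trans (Subgroup.card_subgroup_dvd_card _))
    let V : Subgroup G :=
      { carrier := {z | z ∈ σN ∧ (∀ w ∈ σN, w * z = z * w) ∧ z ^ ℓ = 1}
        one_mem' := ⟨one_mem _, fun w _ => by rw [mul_one, one_mul], one_pow ℓ⟩
        mul_mem' := fun {a b} ha hb => ⟨mul_mem ha.1 hb.1, fun w hw => by
            rw [← mul_assoc, ha.2.1 w hw, mul_assoc, hb.2.1 w hw, mul_assoc],
          by
            have hc : Commute a b := hb.2.1 a ha.1
            rw [hc.mul_pow, ha.2.2, hb.2.2, one_mul]⟩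
        inv_mem' := fun {a} ha => ⟨inv_mem ha.1, fun w hw =>
            ((show Commute w a from ha.2.1 w hw).inv_right).eq,
          by rw [inv_pow, ha.2.2, inv_one]⟩ }
    have hVe : IsElementaryAbelian ℓ V :=
      ⟨⟨⟨fun a b => Subtype.ext (b.2.2.1 a a.2.1)⟩⟩, fun v hv => hv.2.2⟩
    have hNV : N ≤ Subgroup.normalizer (V : Set G) := by
      refine Coprime.le_normalizer_of_conj_mem fun n hn z hz => ?_
      refine ⟨(Subgroup.mem_normalizer_iff.mp (le_normalizer_sigmaCore N hn) z).mp hz.1,
        fun w hw => ?_, by rw [conj_pow, hz.2.2, mul_one, mul_inv_cancel]⟩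
      have h1 := hz.2.1 (n⁻¹ * w * n)
        ((Subgroup.mem_normalizer_iff''.mp (le_normalizer_sigmaCore N hn) w).mp hw)
      calc w * (n * z * n⁻¹) = n * ((n⁻¹ * w * n) * z) * n⁻¹ := by group
        _ = n * (z * (n⁻¹ * w * n)) * n⁻¹ := by rw [h1]
        _ = n * z * n⁻¹ * w := by group
    obtain ⟨⟨z, hz⟩, hzo⟩ := exists_prime_orderOf_dvd_card' ℓ hℓd
    have hV0 : V ≠ ⊥ := fun h0 => by
      have hzV : (z : G) ∈ V := ⟨z.2, fun w hw =>
        congrArg Subtype.val (Subgroup.mem_center_iff.mp hz ⟨w, hw⟩), by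
          have := pow_orderOf_eq_one (⟨z, hz⟩ : Subgroup.center σN)
          rw [hzo] at this
          exact congrArg (fun t : Subgroup.center σN => ((t : σN) : G)) this⟩
      rw [h0, Subgroup.mem_bot] at hzV
      have : (⟨z, hz⟩ : Subgroup.center σN) = 1 := Subtype.ext (Subtype.ext hzV)
      rw [this, orderOf_one] at hzo
      exact hℓ.ne_one hzo.symm
    have hVσ : V ≤ σN := fun v hv => hv.1
    have hLN : L ≤ N := hLC.trans fun c hc =>
      hxN (Subgroup.mem_centralizer_singleton_iff.mpr (hPQ x hxP c hc.1).symm)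
    have hRN : R ≤ N := Subgroup.zpowers_le.mpr
      (hxN (Subgroup.mem_centralizer_singleton_iff.mpr hxu.symm))
    have hCR : Subgroup.centralizer (R : Set G) ≤ M := by
      rw [hR, Subgroup.zpowers_eq_closure, Subgroup.centralizer_closure]
      exact hCuM
    have hCL : Subgroup.centralizer (L : Set G) ≤ M :=
      (Subgroup.centralizer_le_normalizer _).trans
        (BGSigma.normalizer_eq_coatom hG hM hLM hL0 hLn).le
    refine OddLocal43.centralizer_ne_bot_of_frobenius (ℓ := ℓ) L R V hVe ?_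
      (hRM.trans hLn) ?_ ?_ (hLN.trans hNV) (hRN.trans hNV) ?_ hV0 ?_
    · exact ((Nat.Prime.coprime_iff_not_dvd hℓ).mpr fun hd => hdisj ℓ hℓN
        (hd.trans (Subgroup.card_dvd_of_le (sup_le hLM hRM)))).symm
    · exact Subgroup.inf_eq_bot_of_coprime
        (hcopRC.symm.coprime_dvd_left (Subgroup.card_dvd_of_le hLC))
    · intro v hv hv1
      have hvgen : Subgroup.zpowers v = R := by
        refine Subgroup.eq_of_le_of_card_ge (Subgroup.zpowers_le.mpr hv) ?_
        have hd : orderOf v ∣ r := by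
          rw [← hur, ← Nat.card_zpowers u]
          exact Subgroup.orderOf_dvd_natCard _ hv
        rw [Nat.card_zpowers, Nat.card_zpowers, hur]
        rcases (Nat.dvd_prime hr).mp hd with h1 | h1
        · exact absurd (orderOf_eq_one_iff.mp h1) hv1
        · exact h1.ge
      rw [← Subgroup.centralizer_closure, ← Subgroup.zpowers_eq_closure, hvgen, hLR]
    · exact le_bot_iff.mp ((inf_le_inf hVσ hCL).trans hNσM.le)
    · exact le_bot_iff.mp ((inf_le_inf hVσ hCR).trans hNσM.le)
  -- the elements of `Q` of prime power order lie in `F(M)`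
  have hQF : Q ≤ fittingOf M := by
    have htop : (fittingOf M).subgroupOf Q = ⊤ := by
      refine Transfer.eq_top_of_prime_pow_orderOf_mem fun r hr ⟨y, hy⟩ ⟨k, hk⟩ => ?_
      rw [Subgroup.orderOf_mk] at hk
      show y ∈ fittingOf M
      by_cases hrσ : r ∈ sigma M
      · exact hσF (TypeCore.mem_sigmaCore_of_prime_pow hHall (hQM hy) hr hrσ hk)
      rcases Nat.eq_zero_or_pos k with hk0 | hkpos
      · rw [hk0, pow_zero, orderOf_eq_one_iff] at hk
        rw [hk]
        exact one_mem _
      haveI := Fact.mk hr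
      set u := y ^ r ^ (k - 1) with hu
      have huo : orderOf u = r := by
        rw [hu, orderOf_pow' _ (pow_ne_zero _ hr.ne_zero), hk,
          Nat.gcd_eq_right (pow_dvd_pow r (by omega)), Nat.pow_div (by omega) hr.pos,
          show k - (k - 1) = 1 by omega, pow_one]
      have hu1 : u ≠ 1 := fun h0 => hr.ne_one (by rw [← huo, h0, orderOf_one])
      -- elements of order `r` of `Q` lie in `F(M)`
      have hsmall : ∀ w ∈ Q, orderOf w = r →
          w ∈ piCoreOf {q | q.Prime ∧ q ∉ sigma M} (fittingOf M) := by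
        intro w hw hwo
        have hwF : w ∈ fittingOf M := by
          rw [(h.fitting_eq M hM).2.1]
          exact Subgroup.mem_sup_left ⟨hQM hw, hF ▸ hA w hw r hr hrσ hwo⟩
        refine BGSigma.le_piCoreOf (N := BGUniq.core r M) (BGUniq.core_le_fittingOf r M)
          ((BGUniq.fittingOf_le M).trans (BGUniq.le_normalizer_core r M)) (fun q hq hd => ?_)
          (BGUniq.mem_core_of_mem_fittingOf hwF (j := 1) (by rw [hwo, pow_one]))
        obtain ⟨n, hn⟩ := (BGUniq.isPGroup_core r M).exists_card_eq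
        rw [show Nat.card (BGUniq.core r M) = r ^ n from hn] at hd
        rw [Set.mem_setOf_eq, (Nat.prime_dvd_prime_iff_eq hq hr).mp (hq.dvd_of_dvd_pow hd)]
        exact ⟨hr, hrσ⟩
      have huQ : u ∈ Q := pow_mem hy _
      have huF : u ∈ fittingOf M := BGSigma.piCoreOf_le _ (hsmall u huQ huo)
      -- an abelian Sylow `r`-subgroup of `M` containing `y`
      have hyp : IsPGroup r (Subgroup.zpowers (⟨y, hQM hy⟩ : M)) :=
        IsPGroup.of_card (n := k) (by rw [Nat.card_zpowers, Subgroup.orderOf_mk, hk])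
      obtain ⟨S, hyS⟩ := hyp.exists_le_sylow
      have hyS' : (⟨y, hQM hy⟩ : M) ∈ (S : Subgroup M) := hyS (Subgroup.mem_zpowers _)
      set S₀ := (S : Subgroup M).map M.subtype with hS₀
      obtain ⟨m, hm⟩ := S.isPGroup'.exists_card_eq
      obtain ⟨c, hc, hcS⟩ := Coprime.exists_conj_le_of_le_sup S₀ σM U
        ((Subgroup.map_subtype_le _).trans (le_normalizer_sigmaCore M))
        (hKU.compl.1.trans (le_normalizer_sigmaCore M))
        (by
          rw [hS₀, Subgroup.card_map_of_injective M.subtype_injective, hm]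
          exact Nat.Coprime.pow_left m ((Nat.Prime.coprime_iff_not_dvd hr).mpr
            fun hd => hrσ (isPiSub_sigmaCore M r hr hd)))
        (Or.inr (Coprime.solvable_of_le (sigmaCore_le M) (BGSigma.coatom_isSolvable hG hM)))
        ((Subgroup.map_subtype_le _).trans
          (by rw [sup_comm, TypeCore.sup_eq_of_bot hKU hK]))
      have hS₀c : IsMulCommutative (S : Subgroup M) := by
        have hSU : S₀.map (MulAut.conj c).toMonoidHom ≤ U := by
          rintro _ ⟨s, hs, rfl⟩
          exact hcS s hs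
        have hSp : IsPGroup r ((S₀.map (MulAut.conj c).toMonoidHom).subgroupOf U) :=
          ((S.isPGroup'.map _).map _).comap_subtype
        obtain ⟨T, hT⟩ := hSp.exists_le_sylow
        haveI := (h.complement_sylow M hM K U hKU r hr T).1
        refine ⟨⟨fun a b => ?_⟩⟩
        have ha : c * (a : M) * c⁻¹ ∈ U := hcS _ ⟨a, a.2, rfl⟩
        have hb : c * (b : M) * c⁻¹ ∈ U := hcS _ ⟨b, b.2, rfl⟩
        have key := congrArg (fun t : (T : Subgroup U) => ((t : U) : G))
          (mul_comm' (⟨⟨_, ha⟩, hT ⟨_, ⟨a, a.2, rfl⟩, rfl⟩⟩ : (T : Subgroup U))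
            ⟨⟨_, hb⟩, hT ⟨_, ⟨b, b.2, rfl⟩, rfl⟩⟩)
        simp only [Subgroup.coe_mul] at key
        refine Subtype.ext (Subtype.ext ?_)
        simp only [Subgroup.coe_mul]
        have := congrArg (fun t => c⁻¹ * t * c) key
        simpa [mul_assoc] using this
      -- some element of the normalizer moves `u`
      obtain ⟨t, ht, htu⟩ : ∃ t ∈ Subgroup.normalizer ((S : Subgroup M) : Set M),
          t * ⟨u, hQM huQ⟩ ≠ ⟨u, hQM huQ⟩ * t := by
        by_contra hno
        push Not at hno
        have hmem : (⟨u, hQM huQ⟩ : M) ∈ commutator M := by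
          have h1 : u ∈ ⁅M, M⁆ := hM' ▸ huF
          rw [← Subgroup.map_subtype_commutator] at h1
          obtain ⟨z, hz, hzu⟩ := h1
          have : z = ⟨u, hQM huQ⟩ := Subtype.ext hzu
          exact this ▸ hz
        have := eq_one_of_central_normalizer S hS₀c
          (z := ⟨u, hQM huQ⟩) (by
            have h2 := pow_mem hyS' (r ^ (k - 1))
            rwa [SubmonoidClass.mk_pow] at h2) hmem hno
        exact hu1 (congrArg Subtype.val this)
      -- replace `t` by an element of order prime to `r`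
      obtain ⟨v, hvS, hvo, hvu⟩ : ∃ v ∈ Subgroup.normalizer ((S : Subgroup M) : Set M),
          (orderOf v).Coprime r ∧ v * ⟨u, hQM huQ⟩ ≠ ⟨u, hQM huQ⟩ * v := by
        obtain ⟨a, b, hb, hab⟩ := Nat.exists_eq_pow_mul_and_not_dvd (orderOf_pos t).ne' r hr.ne_one
        refine ⟨t ^ r ^ a, pow_mem ht _, ?_, fun hcomm => htu ?_⟩
        · have : orderOf (t ^ r ^ a) ∣ b := orderOf_dvd_of_pow_eq_one (by
            rw [← pow_mul, ← hab, pow_orderOf_eq_one])
          exact ((Nat.Prime.coprime_iff_not_dvd hr).mpr hb).symm.coprime_dvd_left this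
        · have hrpart : t ^ b ∈ (S : Subgroup M) := by
            have hbp : IsPGroup r (Subgroup.zpowers (t ^ b)) := by
              obtain ⟨i, -, hi⟩ := (Nat.dvd_prime_pow hr).mp
                (orderOf_dvd_of_pow_eq_one (x := t ^ b) (n := r ^ a)
                  (by rw [← pow_mul, mul_comm, ← hab, pow_orderOf_eq_one]))
              exact IsPGroup.of_card (n := i) (by rw [Nat.card_zpowers, hi])
            have hsup := hbp.to_sup_of_normal_right' S.isPGroup'
              (Subgroup.zpowers_le.mpr (pow_mem ht b))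
            exact (S.is_maximal' hsup le_sup_right).le
              (Subgroup.mem_sup_left (Subgroup.mem_zpowers _))
          have hbu : t ^ b * ⟨u, hQM huQ⟩ = ⟨u, hQM huQ⟩ * t ^ b := by
            haveI := hS₀c
            have huS : (⟨u, hQM huQ⟩ : M) ∈ (S : Subgroup M) := by
              have h2 := pow_mem hyS' (r ^ (k - 1))
              rwa [SubmonoidClass.mk_pow] at h2
            exact congrArg Subtype.val
              (mul_comm' (⟨_, hrpart⟩ : (S : Subgroup M)) ⟨_, huS⟩)
          have := BGUniq.mem_of_pow_mem_of_coprime (x := t)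
            (K := Subgroup.centralizer ({⟨u, hQM huQ⟩} : Set M)) (n := r ^ a) (m := b)
            (Subgroup.mem_centralizer_singleton_iff.mpr hcomm)
            (Subgroup.mem_centralizer_singleton_iff.mpr hbu)
            (Nat.Coprime.pow_left a ((Nat.Prime.coprime_iff_not_dvd hr).mpr hb))
          exact Subgroup.mem_centralizer_singleton_iff.mp this
      set W := Q ⊓ S₀ with hW
      have hvQ : Subgroup.zpowers (v : G) ≤ Subgroup.normalizer (W : Set G) := by
        refine Coprime.le_normalizer_inf ((Subgroup.zpowers_le.mpr v.2).trans hQn) ?_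
        rw [Subgroup.zpowers_le, hS₀]
        exact Subgroup.le_normalizer_map _ ⟨v, hvS, rfl⟩
      have hWr : IsPGroup r W := (S.isPGroup'.map _).to_le inf_le_right
      obtain ⟨i, hi⟩ := hWr.exists_card_eq
      have hcopW : (Nat.card (Subgroup.zpowers (v : G))).Coprime (Nat.card W) := by
        rw [Nat.card_zpowers, Subgroup.orderOf_coe, hi]
        exact Nat.Coprime.pow_right i hvo
      have hWbot : W ⊓ Subgroup.centralizer (Subgroup.zpowers (v : G) : Set G) = ⊥ := by
        by_contra hne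
        obtain ⟨z, hzr⟩ := exists_prime_orderOf_dvd_card' r
          (G := ↥(W ⊓ Subgroup.centralizer (Subgroup.zpowers (v : G) : Set G))) (by
            obtain ⟨j, hj⟩ := (hWr.to_le (inf_le_left :
              W ⊓ Subgroup.centralizer (Subgroup.zpowers (v : G) : Set G) ≤ W)).exists_card_eq
            rw [hj]
            exact dvd_pow_self r fun h0 => hne (Subgroup.eq_bot_of_card_eq _
              (by rw [hj, h0, pow_zero])))
        have hzQ : (z : G) ∈ Q := z.2.1.1
        have hzo : orderOf (z : G) = r := by rw [Subgroup.orderOf_coe, hzr]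
        obtain ⟨e, he⟩ := mem_zpowers_of_orderOf_eq (h.fitting_sigma_prime M hM).1
          (hsmall _ hzQ hzo) (hsmall u huQ huo) (hzo.trans huo.symm)
        refine hvu (Subtype.ext ?_)
        show (v : G) * u = u * v
        rw [← he]
        exact ((show Commute (v : G) z from
          Subgroup.mem_centralizer_iff.mp z.2.2 v (Subgroup.mem_zpowers _)).zpow_right e).eq
      have hWF : W ≤ fittingOf M := by
        have h1 := Coprime.commutator_sup_centralizer _ W hvQ hcopW (Or.inl inferInstance)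
        rw [hWbot, sup_bot_eq] at h1
        rw [← h1, ← hM']
        exact Subgroup.commutator_mono ((inf_le_left : W ≤ Q).trans hQM)
          (Subgroup.zpowers_le.mpr v.2)
      exact hWF ⟨hy, ⟨⟨y, hQM hy⟩, hyS', rfl⟩⟩
    intro y hy
    have : (⟨y, hy⟩ : Q) ∈ (fittingOf M).subgroupOf Q := htop.ge (Subgroup.mem_top _)
    exact this
  -- conclusion
  haveI : Group.IsNilpotent Q := by
    haveI := BGUniq.isNilpotent_fittingOf M
    exact Group.nilpotent_of_mulEquiv (Subgroup.subgroupOfEquivOfLe hQF)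
  haveI : IsZGroup Q := ⟨fun r hr S => by
    haveI := Fact.mk hr
    set S₀ := (S : Subgroup Q).map Q.subtype with hS₀
    have hS₀p : IsPGroup r S₀ := S.isPGroup'.map _
    suffices hS₀c : IsCyclic S₀ from
      ((S : Subgroup Q).equivMapOfInjective _ Q.subtype_injective).isCyclic.mpr hS₀c
    obtain ⟨n, hn⟩ := hS₀p.exists_card_eq
    by_cases hrσ : r ∈ sigma M
    · haveI := hCc
      refine Subgroup.isCyclic_of_le (show S₀ ≤ C from ?_)
      rintro y hy
      refine ⟨Subgroup.map_subtype_le _ hy, TypeCore.mem_sigmaCore hHall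
        (hQM (Subgroup.map_subtype_le _ hy)) fun q hq hd => ?_⟩
      have := hd.trans (Subgroup.orderOf_dvd_natCard _ hy)
      rw [hn] at this
      rwa [(Nat.prime_dvd_prime_iff_eq hq hr).mp (hq.dvd_of_dvd_pow this)]
    · haveI := (h.fitting_sigma_prime M hM).1
      refine Subgroup.isCyclic_of_le
        (show S₀ ≤ piCoreOf {q | q.Prime ∧ q ∉ sigma M} (fittingOf M) from ?_)
      intro y hy
      have hyF : y ∈ fittingOf M := hQF (Subgroup.map_subtype_le _ hy)
      obtain ⟨j, hj⟩ := hS₀p ⟨y, hy⟩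
      have hyp : y ^ r ^ j = 1 := congrArg Subtype.val hj
      obtain ⟨i, -, hi⟩ := (Nat.dvd_prime_pow hr).mp (orderOf_dvd_of_pow_eq_one hyp)
      refine BGSigma.le_piCoreOf (N := BGUniq.core r M) (BGUniq.core_le_fittingOf r M)
        ((BGUniq.fittingOf_le M).trans (BGUniq.le_normalizer_core r M)) (fun q hq hd => ?_)
        (BGUniq.mem_core_of_mem_fittingOf hyF hi)
      obtain ⟨e, he⟩ := (BGUniq.isPGroup_core r M).exists_card_eq
      rw [show Nat.card (BGUniq.core r M) = r ^ e from he] at hd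
      rw [Set.mem_setOf_eq, (Nat.prime_dvd_prime_iff_eq hq hr).mp (hq.dvd_of_dvd_pow hd)]
      exact ⟨hr, hrσ⟩⟩
  exact ((pPrimeCore p ↥M).equivMapOfInjective _ M.subtype_injective).isCyclic.mpr
    (inferInstance : IsCyclic Q)

end Cfsg.Agent.BGSummary
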