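import Cfsg.Agent.BGSummary.TypeTools
import Cfsg.Agent.BGSummary.CyclicCore

/-!
The types of maximal subgroups in terms of the standard factorisation.
-/

set_option autoImplicit false

namespace Cfsg.Agent.BGSummary

open Cfsg
open scoped Pointwise
open Cfsg.Agent.BGSigma (sigmaCore_le le_normalizer_sigmaCore isPiSub_sigmaCore)

universe u

variable {G : Type u} [Group G] [Finite G] (hG : IsMinSimpleOddOrder G) (h : TypeInputs G)
include hG h

theorem ne_bot_of_bot {M K U : Subgroup G} (hM : IsCoatom M)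
    (hKU : IsSigmaDecomposition M K U) (hK : K = ⊥) : U ≠ ⊥ := by
  rintro rfl
  obtain ⟨-, -, h3, h4, -⟩ := h.fitting_core M hM
  have hsup := TypeCore.sup_eq_of_bot hKU hK
  rw [bot_sup_eq] at hsup
  exact h4.ne (le_antisymm h4.le (hsup.symm.le.trans h3))

omit hG in
theorem fittingHallOf_eq_sigma {M K U : Subgroup G} (hM : IsCoatom M)
    (hKU : IsSigmaDecomposition M K U) (hU : U ≠ ⊥) : fittingHallOf M = sigmaCore M :=
  by_contra fun hne => hU (h.fitting_ne M hM K U hKU hne).1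

/-- The pair `(K, K*)` is a self-normalizing cyclic pair. -/
theorem selfNormalizing_star {M K U : Subgroup G} (hM : IsCoatom M)
    (hKU : IsSigmaDecomposition M K U) (hK : K ≠ ⊥) :
    IsSelfNormalizingCyclic K (sigmaCore M ⊓ Subgroup.centralizer (K : Set G)) := by
  obtain ⟨N, ⟨hN, hNK, hNhall⟩, -⟩ := h.star M hM K U hKU hK
  obtain ⟨-, hcyc⟩ := h.star_inf M hM K U hKU hK N hN hNK hNhall
  obtain ⟨hTI, hnorm⟩ := h.zhat_ti M hM K U hKU hK
  obtain ⟨-, hL0, -, -⟩ := h.star_cyclic M hM K U hKU hK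
  set L := sigmaCore M ⊓ Subgroup.centralizer (K : Set G) with hL
  have hKL : K ⊓ L = ⊥ := le_bot_iff.mp ((inf_le_inf_left K inf_le_left).trans
    (Subgroup.inf_eq_bot_of_coprime (TypeCore.coprime_kappa hKU.hall)).le)
  have hcomm : ∀ a ∈ K, ∀ b ∈ L, a * b = b * a := fun a ha b hb =>
    Subgroup.mem_centralizer_iff.mp hb.2 a ha
  refine ⟨hK, hL0, hKL, hcomm, hcyc, fun X hX hne => le_antisymm (fun g hg => ?_) fun w hw => ?_⟩
  · obtain ⟨x, hx⟩ := hne
    rw [← hnorm]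
    by_contra hgN
    have := hTI g hgN x (hX hx) (hX ((Subgroup.mem_set_normalizer_iff.mp hg x).mp hx))
    exact (hX hx).2 (Or.inl (this ▸ one_mem K))
  · rw [Subgroup.mem_set_normalizer_iff]
    intro z
    haveI := hcyc
    have key : ∀ a ∈ K ⊔ L, ∀ b ∈ K ⊔ L, a * b * a⁻¹ = b := fun a ha b hb => by
      have := congrArg Subtype.val (mul_comm' (⟨a, ha⟩ : ↥(K ⊔ L)) ⟨b, hb⟩)
      simp only [Subgroup.coe_mul] at this
      rw [this, mul_inv_cancel_right]
    constructor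
    · intro hz
      rwa [key w hw z (hX hz).1]
    · intro hz
      have hwz := (hX hz).1
      have hzW : z ∈ K ⊔ L := by
        simpa [mul_assoc] using mul_mem (mul_mem (inv_mem hw) hwz) hw
      rwa [key w hw z hzW] at hz

theorem commutator_normal {M : Subgroup G} :
    M ≤ Subgroup.normalizer ((⁅M, M⁆ : Subgroup G) : Set G) :=
  Coprime.le_normalizer_commutator_left M M

/-- A complement of `M_F` in `M' = M_σ` is a Hall subgroup of `M`. -/
theorem coprime_compl {M V : Subgroup G} (hM : IsCoatom M) (hd : ⁅M, M⁆ = sigmaCore M)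
    (hV : IsComplIn (fittingHallOf M) V ⁅M, M⁆) : (Nat.card V).Coprime (V.relIndex M) := by
  rw [hd] at hV
  obtain ⟨hFσ, hVσ, -, -⟩ := id hV
  have hn : sigmaCore M ≤ Subgroup.normalizer (fittingHallOf M : Set G) :=
    (sigmaCore_le M).trans (le_normalizer_fittingHallOf M)
  have hcard := card_eq_of_complIn hV hn
  have h1 : Nat.card V * V.relIndex (sigmaCore M) =
      Nat.card (fittingHallOf M) * (fittingHallOf M).relIndex (sigmaCore M) := by
    rw [← Subgroup.relIndex_bot_left, ← Subgroup.relIndex_bot_left,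
      Subgroup.relIndex_mul_relIndex _ _ _ bot_le hVσ,
      Subgroup.relIndex_mul_relIndex _ _ _ bot_le hFσ]
  rw [hcard, mul_comm (Nat.card (fittingHallOf M))] at h1
  have h2 : (Nat.card (fittingHallOf M)).Coprime (Nat.card V) := by
    rw [← hcard]
    exact (fittingHallOf_relIndex_coprime M).coprime_dvd_right
      ⟨(sigmaCore M).relIndex M, (Subgroup.relIndex_mul_relIndex _ _ _ hFσ (sigmaCore_le M)).symm⟩
  rw [← Subgroup.relIndex_mul_relIndex V _ M hVσ (sigmaCore_le M),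
    Nat.eq_of_mul_eq_mul_left Nat.card_pos h1]
  refine Nat.Coprime.mul_right h2.symm (Nat.coprime_of_dvd fun p hp hpV hpd => ?_)
  exact (h.sigma_hall M hM).1.2.2 p hp
    (isPiSub_sigmaCore M p hp (hpV.trans (Subgroup.card_dvd_of_le hVσ))) hpd

/-- Type `P` data from a complement of `M_F` in `M'`. -/
theorem typePWith_of_compl {M K U V : Subgroup G} (hM : IsCoatom M)
    (hKU : IsSigmaDecomposition M K U) (hK : K ≠ ⊥) (hVn : Group.IsNilpotent V)
    (hKV : K ≤ Subgroup.normalizer (V : Set G))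
    (hVc : IsComplIn (fittingHallOf M) V ⁅M, M⁆) :
    IsTypePWith M K V (sigmaCore M ⊓ Subgroup.centralizer (K : Set G)) := by
  obtain ⟨hd, hLd⟩ := h.derived M hM K U hKU hK
  obtain ⟨hLc, hL0, hLF, hFc⟩ := h.star_cyclic M hM K U hKU hK
  obtain ⟨hd2, hfit, hfle⟩ := h.fitting_eq M hM
  obtain ⟨-, hFσ, hσd, -, -⟩ := h.fitting_core M hM
  set L := sigmaCore M ⊓ Subgroup.centralizer (K : Set G) with hL
  have hKM : K ≤ M := hKU.hall.1
  have hKd : ⁅M, M⁆ ⊓ K = ⊥ := by rw [hd, inf_comm]; exact TypeCore.inf_sup_eq_bot hKU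
  have hcompl : IsComplIn ⁅M, M⁆ K M := by
    refine TypeCore.complIn_of_sup (Subgroup.commutator_le_self M) hKM
      (hKM.trans (commutator_normal hG h)) hKd ?_
    rw [hd, sup_assoc, sup_comm (sigmaCore M) K]
    exact (TypeCore.sup_eq hKU.compl).ge
  refine
    { W₁_ne := hK
      W₁_cyclic := hKU.cyclic
      W₁_hall := Nat.coprime_of_dvd fun p hp hp1 hp2 => hKU.hall.2.2 p hp (hKU.hall.2.1 p hp hp1) hp2
      W₁_compl := hcompl
      U_nilpotent := hVn
      U_normal := hKV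
      U_compl := hVc
      H_not_cyclic := hFc
      derived_two_le := ?_
      fitting_eq := (sup_comm _ _).trans hfit.symm
      fitting_le := hfle (Set.nonempty_iff_ne_empty.mpr fun he =>
        hK ((TypeCore.eq_bot_iff_kappa hKU.hall).mpr he))
      W₂_le := le_inf hLF hLd
      W₂_centralizer := fun x hx hx1 => ?_
      selfNormalizing := selfNormalizing_star hG h hM hKU hK }
  · rw [sup_comm, ← hfit]
    exact hd2
  · obtain ⟨-, hcent⟩ := h.kappa_star M hM K hKU.cyclic hKU.hall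
    refine le_antisymm (fun w hw => ?_) (le_inf (inf_le_left.trans hσd) fun c hc => ?_)
    · have hw' : w ∈ ((K ⊔ L : Subgroup G) : Set G) := by
        rw [SetLike.mem_coe, ← hcent hK x hx hx1]
        exact ⟨Subgroup.commutator_le_self M hw.1, hw.2⟩
      rw [Subgroup.coe_mul_of_left_le_normalizer_right _ _
        ((Subgroup.le_centralizer_iff.mp inf_le_right).trans
          (Subgroup.centralizer_le_normalizer _))] at hw'
      obtain ⟨s, hs, t, ht, rfl⟩ := hw'
      have hsd : s ∈ (⁅M, M⁆ : Subgroup G) :=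
        (Subgroup.mul_mem_cancel_right _ ((inf_le_left.trans hσd : L ≤ _) ht)).mp hw.1
      have hs1 : s = 1 := Subgroup.mem_bot.mp (hKd.le ⟨hsd, hs⟩)
      subst hs1
      show 1 * t ∈ L
      rw [one_mul]
      exact ht
    · exact Subgroup.mem_centralizer_singleton_iff.mpr
        (Subgroup.mem_centralizer_iff.mp hc.2 x hx).symm

theorem typeII_of_data {M K U : Subgroup G} (hM : IsCoatom M)
    (hKU : IsSigmaDecomposition M K U) (hK : K ≠ ⊥) (hU : U ≠ ⊥) : IsOfTypeII M := by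
  have hF := fittingHallOf_eq_sigma h hM hKU hU
  obtain ⟨hab, hN⟩ := h.complement_abelian M hM K U hKU hK
  obtain ⟨hprime, hTI, -⟩ := h.fitting_ti M hM K U hKU hK hU
  obtain ⟨hd, -⟩ := h.derived M hM K U hKU hK
  obtain ⟨hF0, -, hσd, -, -⟩ := h.fitting_core M hM
  have hdM : ⁅M, M⁆ ≤ M := Subgroup.commutator_le_self M
  have hUσ : IsComplIn (sigmaCore M) U ⁅M, M⁆ := by
    refine TypeCore.complIn_of_sup hσd (hd ▸ le_sup_left)
      (hKU.compl.1.trans (le_normalizer_sigmaCore M)) ?_ (by rw [hd, sup_comm])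
    rw [inf_comm]
    exact le_bot_iff.mp ((inf_le_inf_left U le_sup_right).trans hKU.compl.2.2.1.le)
  have hUnil : Group.IsNilpotent U := by
    haveI := hab
    open scoped IsMulCommutative in exact CommGroup.isNilpotent
  have hUc : IsComplIn (fittingHallOf M) U ⁅M, M⁆ := by rwa [hF]
  have hP := typePWith_of_compl hG h hM hKU hK hUnil hKU.normal hUc
  have hXF : fittingHallOf ⁅M, M⁆ = fittingHallOf M := by
    refine fittingHallOf_eq_of_hall hdM (commutator_normal hG h) ?_ (hF ▸ hσd)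
    rw [card_eq_of_complIn hP.W₁_compl (commutator_normal hG h)]
    refine Nat.coprime_of_dvd fun p hp hpd hpK => hKU.hall.2.2 p hp (hKU.hall.2.1 p hp hpK) ?_
    rw [← card_eq_of_complIn hP.W₁_compl (commutator_normal hG h)] at hpK
    have h1 : Nat.card K * K.relIndex M =
        Nat.card (⁅M, M⁆ : Subgroup G) * (⁅M, M⁆ : Subgroup G).relIndex M := by
      rw [← Subgroup.relIndex_bot_left, ← Subgroup.relIndex_bot_left,
        Subgroup.relIndex_mul_relIndex _ _ _ bot_le hKU.hall.1,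
        Subgroup.relIndex_mul_relIndex _ _ _ bot_le hdM]
    rw [card_eq_of_complIn hP.W₁_compl (commutator_normal hG h), mul_comm (Nat.card K)] at h1
    rw [Nat.eq_of_mul_eq_mul_right Nat.card_pos h1]
    exact hpd
  refine ⟨K, U, _, hP, hU, hprime, hTI, hab, hN, ?_, hXF⟩
  exact isOfTypeF_of_data (Coprime.solvable_of_le hdM (BGSigma.coatom_isSolvable hG hM))
    (hG.1.of_dvd_nat (Subgroup.card_subgroup_dvd_card _)) hdM (hXF.trans hF) (hF ▸ hF0) hUσ hU
    (h.hat_abelian M hM K U hKU) (h.fpf_exponent M hM K U hKU)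

theorem typeI_of_data (hN : NonTIFitting G) {M K U : Subgroup G} (hM : IsCoatom M)
    (hKU : IsSigmaDecomposition M K U) (hK : K = ⊥) : IsOfTypeI M := by
  have hU := ne_bot_of_bot hG h hM hKU hK
  have hF := fittingHallOf_eq_sigma h hM hKU hU
  obtain ⟨hF0, -, -, -, -⟩ := h.fitting_core M hM
  have hUσ : IsComplIn (sigmaCore M) U M := by
    refine TypeCore.complIn_of_sup (sigmaCore_le M) hKU.compl.1
      (hKU.compl.1.trans (le_normalizer_sigmaCore M)) ?_
      (by rw [sup_comm, TypeCore.sup_eq_of_bot hKU hK])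
    rw [inf_comm]
    exact le_bot_iff.mp ((inf_le_inf_left U le_sup_right).trans hKU.compl.2.2.1.le)
  refine ⟨isOfTypeF_of_data (BGSigma.coatom_isSolvable hG hM) (hG.1.of_dvd_nat (Subgroup.card_subgroup_dvd_card _)) le_rfl
    hF (hF ▸ hF0) hUσ hU (h.hat_abelian M hM K U hKU) (h.fpf_exponent M hM K U hKU), ?_⟩
  by_cases hTI : IsTISubset (fittingHallOf M : Set G)
  · exact Or.inl hTI
  refine Or.inr ?_
  rw [IsTISubset] at hTI
  push Not at hTI
  obtain ⟨g, hg, x, hx, hgx, hx1⟩ := hTI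
  have hgM : g ∉ M := fun hgM => hg (le_normalizer_fittingHallOf M hgM)
  have hFF := TypeCore.fittingHallOf_le_fittingOf M
  have hX : fittingOf M ⊓ (fittingOf M).map (MulAut.conj g).toMonoidHom ≠ ⊥ := fun h0 => hx1 (by
    have h1 : g * x * g⁻¹ ∈ fittingOf M ⊓ (fittingOf M).map (MulAut.conj g).toMonoidHom :=
      Subgroup.mem_inf.mpr ⟨hFF hgx, ⟨x, hFF hx, rfl⟩⟩
    rw [h0, Subgroup.mem_bot] at h1
    exact conj_eq_one_iff.mp h1)
  obtain ⟨⟨hXF, -⟩, ⟨hM', -⟩, hcases⟩ := hN M hM K U hKU g hgM hX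
  rcases hcases with ⟨-, hab, h2, h1⟩ | ⟨p, hp, hXp, hpσ, -, -, hC, hexp⟩ |
    ⟨p, -, -, -, -, -, -, -, hK1, -⟩
  · exact Or.inl ⟨hab, h2, h1⟩
  · haveI := Fact.mk hp
    exact Or.inr ⟨hexp, p, hp, hXp ▸ Subgroup.card_dvd_of_le hXF,
      isCyclic_pPrimeCore hG h hM hKU hK hF hM' hgM hXp hpσ hC⟩
  · exact absurd hK hK1

theorem typeI_conv {M K U : Subgroup G} (hM : IsCoatom M)
    (hKU : IsSigmaDecomposition M K U) (hI : IsOfTypeI M) : K = ⊥ := by
  by_contra hK
  obtain ⟨⟨-, -, -, -, V, -, hVc, -, V₀, hV₀, hexp, hfpf⟩, -⟩ := hI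
  obtain ⟨-, hL0, hLF, -⟩ := h.star_cyclic M hM K U hKU hK
  obtain ⟨-, hFσ, -, -, -⟩ := h.fitting_core M hM
  obtain ⟨p, hp, hpK⟩ := Nat.exists_prime_and_dvd (n := Nat.card K)
    fun h1 => hK (Subgroup.eq_bot_of_card_eq K h1)
  haveI := Fact.mk hp
  have hpκ := hKU.hall.2.1 p hp hpK
  have hpV : p ∣ Nat.card V := by
    have h1 : p ∣ Nat.card (fittingHall ↥M) * Nat.card V := by
      rw [hVc.card_mul]
      exact hpκ.2.1
    refine (hp.dvd_mul.mp h1).resolve_left fun hd => hpκ.2.2.1 ?_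
    refine isPiSub_sigmaCore M p hp (dvd_trans ?_ (Subgroup.card_dvd_of_le hFσ))
    rwa [BGUniq.card_fittingHallOf]
  obtain ⟨v, hv⟩ := exists_prime_orderOf_dvd_card' p hpV
  have hpV₀ : p ∣ Nat.card V₀ := by
    refine dvd_trans ?_ (Group.exponent_dvd_nat_card (G := V₀))
    rw [hexp, ← hv]
    exact Monoid.order_dvd_exponent v
  obtain ⟨u, hu⟩ := exists_prime_orderOf_dvd_card' p hpV₀
  obtain ⟨m, hm, hmK⟩ := exists_conj_mem_hall hKU.hall hpκ (u : M).2 (n := 1)
    (by rw [Subgroup.orderOf_coe, Subgroup.orderOf_coe, hu, pow_one])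
  obtain ⟨z, hz, hz1⟩ := (Subgroup.bot_or_exists_ne_one _).resolve_left hL0
  have hzF : m⁻¹ * z * m ∈ fittingHallOf M :=
    (Subgroup.mem_normalizer_iff''.mp (le_normalizer_fittingHallOf M hm) z).mp (hLF hz)
  obtain ⟨y, hy, hyz⟩ := hzF
  have hcomm := Subgroup.mem_centralizer_iff.mp hz.2 _ hmK
  have h1 : (u : M) * y = y * u := by
    refine Subtype.ext ?_
    have hyv : ((y : M) : G) = m⁻¹ * z * m := hyz
    show ((u : M) : G) * (y : G) = (y : G) * (u : M)
    rw [hyv]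
    calc ((u : M) : G) * (m⁻¹ * z * m)
        = m⁻¹ * ((m * ((u : M) : G) * m⁻¹) * z) * m := by group
      _ = m⁻¹ * (z * (m * ((u : M) : G) * m⁻¹)) * m := by rw [hcomm]
      _ = m⁻¹ * z * m * ((u : M) : G) := by group
  have hu1 : (u : M) ≠ 1 := fun h0 => hp.ne_one (by
    rw [← hu, ← Subgroup.orderOf_coe, h0, orderOf_one])
  have hy1 := hfpf u u.2 hu1 y hy h1
  rw [hy1, map_one] at hyz
  have h2 : m⁻¹ * z * m = 1 := hyz.symm
  refine hz1 ?_
  calc z = m * (m⁻¹ * z * m) * m⁻¹ := by group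
    _ = 1 := by rw [h2]; group

theorem typeP_conv {M K U W₁ V W₂ : Subgroup G} (hM : IsCoatom M)
    (hKU : IsSigmaDecomposition M K U) (hP : IsTypePWith M W₁ V W₂) : K ≠ ⊥ := by
  intro hK
  obtain ⟨hHall, -, -⟩ := h.sigma_hall M hM
  obtain ⟨-, hFσ, hσd, -, -⟩ := h.fitting_core M hM
  obtain ⟨hW₁0, hW₂0, -, hcomm, -, -⟩ := hP.selfNormalizing
  have hWM := hP.W₁_compl.2.1
  obtain ⟨p, hp, hpd⟩ := Nat.exists_prime_and_dvd (n := Nat.card W₁)
    fun h1 => hW₁0 (Subgroup.eq_bot_of_card_eq W₁ h1)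
  haveI := Fact.mk hp
  obtain ⟨x, hx⟩ := exists_prime_orderOf_dvd_card' p hpd
  have hxo : orderOf (x : G) = p := by rw [Subgroup.orderOf_coe, hx]
  have hx1 : (x : G) ≠ 1 := fun h0 => hp.ne_one (by rw [← hxo, h0, orderOf_one])
  have hpσ : p ∉ sigma M := fun hpσ => hx1 (by
    have h1 := TypeCore.mem_sigmaCore_of_prime_pow hHall (hWM x.2) (k := 1) hp hpσ
      (by rw [hxo, pow_one])
    exact Subgroup.mem_bot.mp (hP.W₁_compl.2.2.1.le ⟨hσd h1, x.2⟩))
  obtain ⟨w, hw, hw1⟩ := (Subgroup.bot_or_exists_ne_one W₂).resolve_left hW₂0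
  have hwσ : w ∈ sigmaCore M := hFσ (hP.W₂_le hw).1
  -- a Sylow subgroup of `W₁` is one of `M`
  let Q : Sylow p W₁ := default
  have hidx : ¬ p ∣ ((Q : Subgroup W₁).map W₁.subtype).relIndex M := by
    rw [← Subgroup.relIndex_mul_relIndex _ W₁ M (Subgroup.map_subtype_le _) hWM]
    refine hp.not_dvd_mul ?_ fun hd => hp.ne_one (Nat.eq_one_of_dvd_coprimes hP.W₁_hall hpd hd)
    rw [Subgroup.relIndex, Subgroup.subgroupOf,
      Subgroup.comap_map_eq_self_of_injective W₁.subtype_injective]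
    exact Q.not_dvd_index
  let S : Sylow p M := ((Q.isPGroup'.map W₁.subtype).comap_subtype (K := M)).toSylow hidx
  haveI := hP.W₁_cyclic
  have hSc : IsCyclic (S : Subgroup M) := by
    have hle : (Q : Subgroup W₁).map W₁.subtype ≤ M := (Subgroup.map_subtype_le _).trans hWM
    haveI : IsCyclic ((Q : Subgroup W₁).map W₁.subtype) :=
      Subgroup.isCyclic_of_le (Subgroup.map_subtype_le _)
    exact (Subgroup.subgroupOfEquivOfLe hle).isCyclic.mpr inferInstance
  have hxS : (⟨x, hWM x.2⟩ : M) ∈ (S : Subgroup M) := by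
    have hxQ : x ∈ (Q : Subgroup W₁) := by
      have hX : IsPGroup p (Subgroup.zpowers x) :=
        IsPGroup.of_card (n := 1) (by rw [Nat.card_zpowers, hx, pow_one])
      obtain ⟨T, hT⟩ := hX.exists_le_sylow
      haveI : IsMulCommutative W₁ := inferInstance
      obtain ⟨c, hc⟩ := MulAction.exists_smul_eq W₁ T Q
      rw [← hc, Sylow.coe_subgroup_smul, Subgroup.mem_pointwise_smul_iff_inv_smul_mem]
      have h2 : c⁻¹ * x * c = x := by rw [mul_comm' c⁻¹ x, inv_mul_cancel_right]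
      simpa [mul_assoc, h2] using hT (Subgroup.mem_zpowers x)
    exact ⟨x, hxQ, rfl⟩
  have hκ : p ∈ kappa M := by
    refine ⟨hp, hpd.trans (Subgroup.card_dvd_of_le hWM), hpσ, fun P => ⟨?_, ?_⟩⟩
    · haveI := hSc
      exact (Sylow.equiv P S).isCyclic.mpr inferInstance
    · obtain ⟨m, hm⟩ := MulAction.exists_smul_eq M S P
      refine ⟨m * ⟨x, hWM x.2⟩ * m⁻¹, ?_, fun h0 => hx1
        (congrArg Subtype.val (conj_eq_one_iff.mp h0)),
        m * w * (m : G)⁻¹, (Subgroup.mem_normalizer_iff.mp (le_normalizer_sigmaCore M m.2) w).mp hwσ,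
        fun h0 => hw1 (conj_eq_one_iff.mp h0), ?_⟩
      · rw [← hm, Sylow.coe_subgroup_smul, Subgroup.mem_pointwise_smul_iff_inv_smul_mem]
        simpa [mul_assoc] using hxS
      · show (m : G) * x * (m : G)⁻¹ * (m * w * (m : G)⁻¹) =
          m * w * (m : G)⁻¹ * ((m : G) * x * (m : G)⁻¹)
        have := hcomm x x.2 w hw
        calc (m : G) * x * (m : G)⁻¹ * (m * w * (m : G)⁻¹)
            = m * ((x : G) * w) * (m : G)⁻¹ := by group
          _ = m * (w * x) * (m : G)⁻¹ := by rw [this]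
          _ = m * w * (m : G)⁻¹ * ((m : G) * x * (m : G)⁻¹) := by group
  rw [(TypeCore.eq_bot_iff_kappa hKU.hall).mp hK] at hκ
  exact hκ

/-- A `K`-invariant nilpotent complement of `M_F` in `M' = M_σ`. -/
theorem exists_invariant_compl {M K U : Subgroup G} (hM : IsCoatom M)
    (hKU : IsSigmaDecomposition M K U) (hd : ⁅M, M⁆ = sigmaCore M) :
    ∃ V : Subgroup G, Group.IsNilpotent V ∧ K ≤ Subgroup.normalizer (V : Set G) ∧
      IsComplIn (fittingHallOf M) V ⁅M, M⁆ := by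
  obtain ⟨-, hFσ, -, -, hnil⟩ := h.fitting_core M hM
  have hFM := BGUniq.fittingHallOf_le M
  obtain ⟨E, hE⟩ := exists_complIn_of_hall hFM (le_normalizer_fittingHallOf M)
    (fittingHallOf_relIndex_coprime M)
  have hEM := hE.2.1
  have hKM := hKU.hall.1
  obtain ⟨c, hc, hcE⟩ := Coprime.exists_conj_le_of_le_sup K (fittingHallOf M) E
    (hKM.trans (le_normalizer_fittingHallOf M)) (hEM.trans (le_normalizer_fittingHallOf M))
    ((TypeCore.coprime_kappa hKU.hall).coprime_dvd_right (Subgroup.card_dvd_of_le hFσ))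
    (Or.inr (Coprime.solvable_of_le hFM (BGSigma.coatom_isSolvable hG hM)))
    (hKM.trans (TypeCore.sup_eq hE).ge)
  set E' := E.map (MulAut.conj c⁻¹).toMonoidHom with hE'
  have hcM : c ∈ M := hFM hc
  have hE'M : E' ≤ M := by
    rintro _ ⟨e, he, rfl⟩
    exact mul_mem (mul_mem (inv_mem hcM) (hEM he)) (inv_mem (inv_mem hcM))
  have hKE' : K ≤ E' := fun k hk => ⟨c * k * c⁻¹, hcE k hk, by simp [mul_assoc]⟩
  set V := E' ⊓ sigmaCore M with hV
  have hVF : fittingHallOf M ⊓ V = ⊥ := by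
    refine le_bot_iff.mp fun y hy => ?_
    obtain ⟨hyF, hyV⟩ := Subgroup.mem_inf.mp hy
    obtain ⟨⟨e, he, rfl⟩, -⟩ := Subgroup.mem_inf.mp hyV
    have h1 : e ∈ fittingHallOf M := by
      have := (Subgroup.mem_normalizer_iff.mp (le_normalizer_fittingHallOf M hcM) _).mp hyF
      simpa [mul_assoc] using this
    have h2 : e = 1 := Subgroup.mem_bot.mp (hE.2.2.1.le ⟨h1, he⟩)
    simp [h2]
  refine ⟨V, ?_, Coprime.le_normalizer_inf (hKE'.trans Subgroup.le_normalizer)
    (hKM.trans (le_normalizer_sigmaCore M)), ?_⟩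
  · have hVd : V ≤ ⁅M, M⁆ := hd ▸ inf_le_right
    let f : V →* ↥((commutator ↥M).map (QuotientGroup.mk' (fittingHall ↥M))) :=
      MonoidHom.codRestrict ((QuotientGroup.mk' (fittingHall ↥M)).comp
        (Subgroup.inclusion ((inf_le_left : V ≤ E').trans hE'M))) _ fun v => by
          refine ⟨⟨v, ((inf_le_left : V ≤ E').trans hE'M) v.2⟩, ?_, rfl⟩
          have h1 : (v : G) ∈ ⁅M, M⁆ := hVd v.2
          rw [← Subgroup.map_subtype_commutator] at h1
          obtain ⟨z, hz, hzv⟩ := h1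
          exact (Subtype.ext hzv.symm : (⟨(v : G), _⟩ : M) = z) ▸ hz
    have hf : Function.Injective f := by
      rw [← MonoidHom.ker_eq_bot_iff, eq_bot_iff]
      intro v hv
      have h1 : QuotientGroup.mk' (fittingHall ↥M)
          (Subgroup.inclusion ((inf_le_left : V ≤ E').trans hE'M) v) = 1 :=
        congrArg Subtype.val hv
      rw [QuotientGroup.mk'_apply, QuotientGroup.eq_one_iff] at h1
      exact Subtype.ext (Subgroup.mem_bot.mp (hVF.le
        ⟨⟨_, h1, rfl⟩, v.2⟩))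
    haveI := hnil
    exact Group.nilpotent_of_mulEquiv (MonoidHom.ofInjective hf).symm
  · rw [hd]
    refine TypeCore.complIn_of_sup hFσ inf_le_right
      (((inf_le_left : V ≤ E').trans hE'M).trans (le_normalizer_fittingHallOf M)) hVF ?_
    intro y hy
    obtain ⟨a, ha, b, hb, hab⟩ := hE.2.2.2 (c * y * c⁻¹)
      (mul_mem (mul_mem hcM (sigmaCore_le M hy)) (inv_mem hcM))
    have hbσ : b ∈ sigmaCore M := by
      have h1 : c * y * c⁻¹ ∈ sigmaCore M :=
        (Subgroup.mem_normalizer_iff.mp (le_normalizer_sigmaCore M hcM) y).mp hy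
      rw [hab] at h1
      exact (Subgroup.mul_mem_cancel_left _ (hFσ ha)).mp h1
    have hyab : y = (c⁻¹ * a * c) * (c⁻¹ * b * c) := by
      calc y = c⁻¹ * (c * y * c⁻¹) * c := by group
        _ = c⁻¹ * (a * b) * c := by rw [hab]
        _ = (c⁻¹ * a * c) * (c⁻¹ * b * c) := by group
    rw [hyab]
    refine Subgroup.mul_mem_sup
      ((Subgroup.mem_normalizer_iff''.mp (le_normalizer_fittingHallOf M hcM) a).mp ha)
      (Subgroup.mem_inf.mpr ⟨⟨b, hb, by simp⟩,
        (Subgroup.mem_normalizer_iff''.mp (le_normalizer_sigmaCore M hcM) b).mp hbσ⟩)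

theorem typeIII_IV_of_data {M K U : Subgroup G} (hM : IsCoatom M)
    (hKU : IsSigmaDecomposition M K U) (hK : K ≠ ⊥) (hU : U = ⊥)
    (hF : fittingHallOf M ≠ sigmaCore M) : IsOfTypeIII M ∨ IsOfTypeIV M := by
  obtain ⟨-, hTI, hprime⟩ := h.fitting_ne M hM K U hKU hF
  have hd : ⁅M, M⁆ = sigmaCore M := by
    rw [(h.derived M hM K U hKU hK).1, hU, bot_sup_eq]
  obtain ⟨V, hVn, hKV, hVc⟩ := exists_invariant_compl hG h hM hKU hd
  have hP := typePWith_of_compl hG h hM hKU hK hVn hKV hVc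
  have hVσ : V ≤ sigmaCore M := hd ▸ hVc.2.1
  have hV0 : V ≠ ⊥ := fun h0 => hF (by
    have := TypeCore.sup_eq hVc
    rw [h0, sup_bot_eq, hd] at this
    exact this)
  have hN : Subgroup.normalizer (V : Set G) ≤ M :=
    normalizer_le_of_le_sigmaCore hVσ hVn hV0 (coprime_compl hG h hM hd hVc)
  by_cases hab : IsMulCommutative V
  · exact Or.inl ⟨K, V, _, hP, hV0, hprime, hTI, hab, hN⟩
  · exact Or.inr ⟨K, V, _, hP, hV0, hprime, hTI, hab, hN⟩

theorem typeV_of_data {M K U : Subgroup G} (hM : IsCoatom M)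
    (hKU : IsSigmaDecomposition M K U) (hK : K ≠ ⊥) (hU : U = ⊥)
    (hF : fittingHallOf M = sigmaCore M) : IsOfTypeV M := by
  have hd : ⁅M, M⁆ = fittingHallOf M := by
    rw [(h.derived M hM K U hKU hK).1, hU, bot_sup_eq, hF]
  have hbc : IsComplIn (fittingHallOf M) (⊥ : Subgroup G) ⁅M, M⁆ := by
    rw [hd]
    exact ⟨le_rfl, bot_le, inf_bot_eq _, fun m hm => ⟨m, hm, 1, one_mem _, (mul_one m).symm⟩⟩
  have hP := typePWith_of_compl hG h hM hKU hK inferInstance
    (fun k _ => by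
      rw [Subgroup.mem_normalizer_iff]
      intro z
      simp) hbc
  refine ⟨K, ⊥, _, hP, rfl, ?_⟩
  by_cases hTI : IsTISubset (fittingHallOf M : Set G)
  · exact Or.inl hTI
  refine Or.inr ?_
  rw [IsTISubset] at hTI
  push Not at hTI
  obtain ⟨g, hg, x, hx, hgx, hx1⟩ := hTI
  have hgM : g ∉ M := fun hgM => hg (le_normalizer_fittingHallOf M hgM)
  have hFF := TypeCore.fittingHallOf_le_fittingOf M
  have hX : fittingOf M ⊓ (fittingOf M).map (MulAut.conj g).toMonoidHom ≠ ⊥ := fun h0 => hx1 (by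
    have h1 : g * x * g⁻¹ ∈ fittingOf M ⊓ (fittingOf M).map (MulAut.conj g).toMonoidHom :=
      Subgroup.mem_inf.mpr ⟨hFF hgx, ⟨x, hFF hx, rfl⟩⟩
    rw [h0, Subgroup.mem_bot] at h1
    exact conj_eq_one_iff.mp h1)
  have hKcard : (fittingHallOf M).relIndex M = Nat.card K := by
    rw [← hd]
    exact card_eq_of_complIn hP.W₁_compl (commutator_normal hG h)
  obtain ⟨p, hp, hpd, hC, hdiv | ⟨hP3, hdiv⟩⟩ := h.typeP_nonti M hM K U hKU hK g hgM hX
  · exact Or.inl ⟨p, hp, hpd, hdiv, hC⟩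
  · exact Or.inr ⟨p, hp, hpd, hP3, hdiv, hC⟩

theorem typeII_conv {M K U : Subgroup G} (hM : IsCoatom M)
    (hKU : IsSigmaDecomposition M K U) (hII : IsOfTypeII M) : K ≠ ⊥ ∧ U ≠ ⊥ := by
  obtain ⟨W₁, V, W₂, hP, hV0, -, -, -, hN, -, -⟩ := hII
  have hK := typeP_conv hG h hM hKU hP
  refine ⟨hK, fun hU => hN ?_⟩
  have hd : ⁅M, M⁆ = sigmaCore M := by
    rw [(h.derived M hM K U hKU hK).1, hU, bot_sup_eq]
  exact normalizer_le_of_le_sigmaCore (hd ▸ hP.U_compl.2.1) hP.U_nilpotent hV0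
    (coprime_compl hG h hM hd hP.U_compl)

theorem typeIII_IV_conv {M K U : Subgroup G} (hM : IsCoatom M)
    (hKU : IsSigmaDecomposition M K U) (ht : IsOfTypeIII M ∨ IsOfTypeIV M) :
    K ≠ ⊥ ∧ U = ⊥ ∧ fittingHallOf M ≠ sigmaCore M := by
  obtain ⟨W₁, V, W₂, hP, hV0, hN⟩ : ∃ W₁ V W₂ : Subgroup G, IsTypePWith M W₁ V W₂ ∧ V ≠ ⊥ ∧
      Subgroup.normalizer (V : Set G) ≤ M := by
    rcases ht with ⟨W₁, V, W₂, hP, hV, -, -, -, hN⟩ | ⟨W₁, V, W₂, hP, hV, -, -, -, hN⟩ <;>
      exact ⟨W₁, V, W₂, hP, hV, hN⟩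
  have hK := typeP_conv hG h hM hKU hP
  have hd := (h.derived M hM K U hKU hK).1
  have hU : U = ⊥ := by
    by_contra hU
    have hF := fittingHallOf_eq_sigma h hM hKU hU
    obtain ⟨-, hnU⟩ := h.complement_abelian M hM K U hKU hK
    -- `V` is conjugate to `U` in `M`
    have hUM := hKU.compl.1
    have hVd := hP.U_compl.2.1
    have hVM : V ≤ M := hVd.trans (Subgroup.commutator_le_self M)
    have hUσ : U ⊓ sigmaCore M = ⊥ :=
      le_bot_iff.mp ((inf_le_inf_left U le_sup_right).trans hKU.compl.2.2.1.le)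
    have hcard : Nat.card V = (fittingHallOf M).relIndex ⁅M, M⁆ :=
      (card_eq_of_complIn hP.U_compl
        ((Subgroup.commutator_le_self M).trans (le_normalizer_fittingHallOf M))).symm
    have hcop : (Nat.card V).Coprime (Nat.card (sigmaCore M)) := by
      rw [← hF, hcard]
      refine ((fittingHallOf_relIndex_coprime M).coprime_dvd_right ?_).symm
      exact ⟨(⁅M, M⁆ : Subgroup G).relIndex M, (Subgroup.relIndex_mul_relIndex _ _ _
        hP.U_compl.1 (Subgroup.commutator_le_self M)).symm⟩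
    obtain ⟨c, hc, hcV⟩ := Coprime.exists_conj_le_of_le_sup V (sigmaCore M) U
      (hVM.trans (le_normalizer_sigmaCore M)) (hUM.trans (le_normalizer_sigmaCore M)) hcop
      (Or.inr (Coprime.solvable_of_le (sigmaCore_le M) (BGSigma.coatom_isSolvable hG hM)))
      (by rw [sup_comm, ← hd]; exact hVd)
    have hUc : IsComplIn (fittingHallOf M) U ⁅M, M⁆ := by
      rw [hF, hd]
      refine TypeCore.complIn_of_sup le_sup_right le_sup_left
        (hUM.trans (le_normalizer_sigmaCore M)) (inf_comm U _ ▸ hUσ) (sup_comm _ _).le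
    have hcardU : Nat.card V = Nat.card U := by
      rw [hcard, card_eq_of_complIn hUc
        ((Subgroup.commutator_le_self M).trans (le_normalizer_fittingHallOf M))]
    have heq : V.map (MulAut.conj c).toMonoidHom = U := by
      refine Subgroup.eq_of_le_of_card_ge (by rintro _ ⟨v, hv, rfl⟩; exact hcV v hv) ?_
      rw [Subgroup.card_map_of_injective (MulAut.conj c).injective, hcardU]
    refine hnU fun n hn => ?_
    have hcM : c ∈ M := sigmaCore_le M hc
    have h1 : c⁻¹ * n * c ∈ Subgroup.normalizer (V : Set G) := by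
      rw [Subgroup.mem_normalizer_iff]
      intro z
      have h2 := Subgroup.mem_normalizer_iff.mp hn (c * z * c⁻¹)
      rw [← heq, BGSigma.mem_map_conj, BGSigma.mem_map_conj] at h2
      simpa [mul_assoc] using h2
    simpa [mul_assoc] using mul_mem (mul_mem hcM (hN h1)) (inv_mem hcM)
  refine ⟨hK, hU, fun hF => hV0 ?_⟩
  rw [hU, bot_sup_eq, ← hF] at hd
  refine le_bot_iff.mp fun v hv => hP.U_compl.2.2.1.le ⟨?_, hv⟩
  exact hd.le (hP.U_compl.2.1 hv)

theorem typeV_conv {M K U : Subgroup G} (hM : IsCoatom M)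
    (hKU : IsSigmaDecomposition M K U) (ht : IsOfTypeV M) :
    K ≠ ⊥ ∧ U = ⊥ ∧ fittingHallOf M = sigmaCore M := by
  obtain ⟨W₁, V, W₂, hP, rfl, -⟩ := ht
  have hK := typeP_conv hG h hM hKU hP
  obtain ⟨-, hFσ, hσd, -, -⟩ := h.fitting_core M hM
  have hdF := TypeCore.sup_eq hP.U_compl
  rw [sup_bot_eq] at hdF
  have hF : fittingHallOf M = sigmaCore M := le_antisymm hFσ (hσd.trans hdF.ge)
  refine ⟨hK, ?_, hF⟩
  refine le_bot_iff.mp (le_trans (le_inf le_rfl ?_) ((inf_le_inf_left U le_sup_right).trans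
    hKU.compl.2.2.1.le))
  rw [← hF, hdF, (h.derived M hM K U hKU hK).1]
  exact le_sup_left

theorem typeI_stmt (hN : NonTIFitting G) (M : Subgroup G) (hM : IsCoatom M) (K U : Subgroup G)
    (hKU : IsSigmaDecomposition M K U) : IsOfTypeI M ↔ (K = ⊥ ∧ U ≠ ⊥) :=
  ⟨fun hI => ⟨typeI_conv hG h hM hKU hI, ne_bot_of_bot hG h hM hKU (typeI_conv hG h hM hKU hI)⟩,
    fun hK => typeI_of_data hG h hN hM hKU hK.1⟩

theorem typeII_stmt (M : Subgroup G) (hM : IsCoatom M) (K U : Subgroup G)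
    (hKU : IsSigmaDecomposition M K U) : IsOfTypeII M ↔ (K ≠ ⊥ ∧ U ≠ ⊥) :=
  ⟨typeII_conv hG h hM hKU, fun hd => typeII_of_data hG h hM hKU hd.1 hd.2⟩

theorem typeIII_IV_stmt (M : Subgroup G) (hM : IsCoatom M) (K U : Subgroup G)
    (hKU : IsSigmaDecomposition M K U) :
    (IsOfTypeIII M ∨ IsOfTypeIV M) ↔ (K ≠ ⊥ ∧ U = ⊥ ∧ fittingHallOf M ≠ sigmaCore M) :=
  ⟨typeIII_IV_conv hG h hM hKU,
    fun hd => typeIII_IV_of_data hG h hM hKU hd.1 hd.2.1 hd.2.2⟩

theorem typeV_stmt (M : Subgroup G) (hM : IsCoatom M) (K U : Subgroup G)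
    (hKU : IsSigmaDecomposition M K U) :
    IsOfTypeV M ↔ (K ≠ ⊥ ∧ U = ⊥ ∧ fittingHallOf M = sigmaCore M) :=
  ⟨typeV_conv hG h hM hKU, fun hd => typeV_of_data hG h hM hKU hd.1 hd.2.1 hd.2.2⟩

end Cfsg.Agent.BGSummary
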