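import Cfsg.Agent.BGSummary.NonTIOne
import Cfsg.Agent.BGSummary.LocalInst
import Cfsg.Agent.BGSummary.TypeConv
import Cfsg.Agent.PF12.Inputs

/-!
# The data of a maximal subgroup with `κ(M) = ∅` for Peterfalvi (12.7)
-/

set_option autoImplicit false

namespace Cfsg.Agent.BGSummary

open Cfsg

universe u

variable {G : Type u} [Group G] [Finite G]

theorem oneData (hG : IsMinSimpleOddOrder G) {M : Subgroup G} (hM : IsCoatom M)
    (hk : kappa M = ∅) : PF12.OneData M where
  typeF := Loc.typeF_of hG (localStructure hG) hM hk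
  core := (Loc.core_of_kappa_empty hG (localStructure hG) hM hk).symm
  cases := Loc.one_cases_of hG (localStructure hG) hM hk

theorem kappa_empty_of_typeI (hG : IsMinSimpleOddOrder G) {M : Subgroup G} (hM : IsCoatom M)
    (hI : IsOfTypeI M) : kappa M = ∅ := by
  obtain ⟨K, U, hKU⟩ := Loc.exists_decomposition hG (localStructure hG) hM
  exact (TypeCore.eq_bot_iff_kappa hKU.hall).mp
    (typeI_conv hG (TypeInputs.of_local hG (localStructure hG)) hM hKU hI)

/-- The centralizers of elements of `M_σ` stay in `M` when `κ(M) ≠ ∅` and `U ≠ 1`. -/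
theorem centralizer_le_of_P2 (hG : IsMinSimpleOddOrder G) {M K U : Subgroup G} (hM : IsCoatom M)
    (hKU : IsSigmaDecomposition M K U) (hK : K ≠ ⊥) (hU : U ≠ ⊥) {x : G} (hx : x ∈ sigmaCore M)
    (hx1 : x ≠ 1) : Subgroup.centralizer ({x} : Set G) ≤ M :=
  Loc.centralizer_le_of_sigma hG (localStructure hG) hM hKU hK hU hx hx1

end Cfsg.Agent.BGSummary
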