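import Cfsg.Agent.BGSummary.Basic

/-!
The summary theorems on the types of maximal subgroups.
-/

set_option autoImplicit false

namespace Cfsg.Agent.BGSummary

open Cfsg
open Cfsg.Agent.BGSigma (sigmaCore_le le_normalizer_sigmaCore isPiSub_sigmaCore)

universe u

variable {G : Type u} [Group G] [Finite G] (hG : IsMinSimpleOddOrder G) (h : SummaryInputs G)
include hG h

theorem type_core_stmt (M : Subgroup G) (hM : IsCoatom M) :
    (∀ (p : ℕ), p.Prime → ∀ (P : Sylow p ↥(typeCore M)), (P : Subgroup ↥(typeCore M)) ≠ ⊥ →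
        Subgroup.normalizer ((((P : Subgroup ↥(typeCore M)).map (typeCore M).subtype : Subgroup G)) : Set G) ≤ M) ∧
      (Nat.card (fittingHallOf M)).Coprime (fittingHallOf M).index ∧
      (Nat.card (typeCore M)).Coprime (typeCore M).index := by
  obtain ⟨hMσ, hGσ, -⟩ := h.sigma_hall M hM
  obtain ⟨-, hFle, -, -, -⟩ := h.fitting_core M hM
  have hcopσ : (Nat.card (sigmaCore M)).Coprime (sigmaCore M).index :=
    Nat.coprime_of_dvd fun q hq hd hd' => hGσ.2 q hq (hGσ.1 q hq hd) hd'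
  rw [typeCore_eq h hM]
  refine ⟨fun p hp P hP => ?_, ?_, hcopσ⟩
  · haveI := Fact.mk hp
    set P₀ : Subgroup G := (P : Subgroup ↥(sigmaCore M)).map (sigmaCore M).subtype with hP₀
    have hP₀σ : P₀ ≤ sigmaCore M := Subgroup.map_subtype_le _
    have hpσ : p ∈ sigma M := by
      obtain ⟨n, hn⟩ := P.isPGroup'.exists_card_eq
      refine hMσ.2.1 p hp ((dvd_trans (dvd_pow_self p fun h0 => hP ?_) hn.symm.dvd).trans
        (Subgroup.card_subgroup_dvd_card _))
      exact Subgroup.eq_bot_of_card_eq _ (by rw [hn, h0, pow_zero])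
    obtain ⟨-, -, Q, hQ⟩ := id hpσ
    have hidx : ¬ p ∣ P₀.relIndex M := by
      rw [← Subgroup.relIndex_mul_relIndex P₀ (sigmaCore M) M hP₀σ hMσ.1]
      refine hp.not_dvd_mul ?_ (hMσ.2.2 p hp hpσ)
      rw [hP₀, Subgroup.relIndex, Subgroup.subgroupOf,
        Subgroup.comap_map_eq_self_of_injective (sigmaCore M).subtype_injective]
      exact P.not_dvd_index
    have hP₀M : P₀ ≤ M := hP₀σ.trans (sigmaCore_le M)
    have hP₀p : IsPGroup p (P₀.subgroupOf M) := (P.isPGroup'.map _).comap_subtype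
    let S : Sylow p M := hP₀p.toSylow hidx
    have hS : ((S : Subgroup M).map M.subtype) = P₀ := Subgroup.map_subgroupOf_eq_of_le hP₀M
    obtain ⟨g, hg⟩ := MulAction.exists_smul_eq M Q S
    have hPQ : P₀ = ((Q : Subgroup M).map M.subtype).map (MulAut.conj (g : G)).toMonoidHom := by
      rw [← hS, ← hg, Subgroup.map_map]
      show ((Q : Subgroup M).map (MulAut.conj g).toMonoidHom).map M.subtype = _
      rw [Subgroup.map_map]
      rfl
    intro x hx
    rw [hPQ] at hx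
    have h1 : (g : G)⁻¹ * x * g ∈
        Subgroup.normalizer (((Q : Subgroup M).map M.subtype : Subgroup G) : Set G) := by
      rw [Subgroup.mem_normalizer_iff]
      intro z
      have h2 := Subgroup.mem_normalizer_iff.mp hx ((g : G) * z * (g : G)⁻¹)
      rw [BGSigma.mem_map_conj, BGSigma.mem_map_conj] at h2
      simpa [mul_assoc] using h2
    have := mul_mem (mul_mem g.2 (hQ h1)) (inv_mem g.2)
    simpa [mul_assoc] using this
  · have hFM := BGUniq.fittingHallOf_le M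
    rw [← Subgroup.relIndex_mul_index hFM]
    refine Nat.Coprime.mul_right ?_ ?_
    · rw [BGUniq.card_fittingHallOf, Subgroup.relIndex, fittingHallOf, Subgroup.subgroupOf,
        Subgroup.comap_map_eq_self_of_injective M.subtype_injective]
      exact BGUniq.fittingHall_coprime M
    · exact (hcopσ.coprime_dvd_left (Subgroup.card_dvd_of_le hFle)).coprime_dvd_right
        (Subgroup.index_dvd_of_le (sigmaCore_le M))

omit hG h [Finite G] in
theorem map_conj_self {M : Subgroup G} {m : G} (hm : m ∈ Subgroup.normalizer (M : Set G)) :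
    M.map (MulAut.conj m).toMonoidHom = M :=
  Subgroup.mem_normalizer_iff_map_conj_eq.mp hm

omit hG h [Finite G] in
/-- Standard factorisations are permuted by conjugation in `M`. -/
theorem decomp_conj {M K U : Subgroup G} (hKU : IsSigmaDecomposition M K U) {m : G} (hm : m ∈ M) :
    IsSigmaDecomposition M (K.map (MulAut.conj m).toMonoidHom)
      (U.map (MulAut.conj m).toMonoidHom) := by
  have hMm := map_conj_self (Subgroup.le_normalizer hm)
  have hσm := map_conj_self (le_normalizer_sigmaCore M hm)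
  refine ⟨?_, ⟨?_, fun p hp hd => ?_, fun p hp hpk => ?_⟩, ?_, ?_⟩
  · exact (K.equivMapOfInjective _ (MulAut.conj m).injective).isCyclic.mp hKU.cyclic
  · exact (Subgroup.map_mono hKU.hall.1).trans hMm.le
  · rw [Subgroup.card_map_of_injective (MulAut.conj m).injective] at hd
    exact hKU.hall.2.1 p hp hd
  · rw [← hMm, Subgroup.relIndex_map_map_of_injective _ _ (MulAut.conj m).injective]
    exact hKU.hall.2.2 p hp hpk
  · obtain ⟨h1, h2, h3, h4⟩ := hKU.compl
    rw [show K.map (MulAut.conj m).toMonoidHom ⊔ sigmaCore M =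
      (K ⊔ sigmaCore M).map (MulAut.conj m).toMonoidHom by rw [Subgroup.map_sup, hσm]]
    refine ⟨(Subgroup.map_mono h1).trans hMm.le, (Subgroup.map_mono h2).trans hMm.le, ?_, ?_⟩
    · rw [← Subgroup.map_inf _ _ _ (MulAut.conj m).injective, h3, Subgroup.map_bot]
    · intro x hx
      rw [← hMm] at hx
      obtain ⟨z, hz, rfl⟩ := hx
      obtain ⟨a, ha, b, hb, rfl⟩ := h4 z hz
      exact ⟨_, ⟨a, ha, rfl⟩, _, ⟨b, hb, rfl⟩, map_mul _ _ _⟩
  · exact (Subgroup.map_mono hKU.normal).trans (Subgroup.le_normalizer_map _)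

/-- A complement of `M_σ` in `U₀ M_σ` also occurs in a standard factorisation. -/
theorem decomp_of_complIn {M K U₀ U : Subgroup G} (hM : IsCoatom M)
    (hKU : IsSigmaDecomposition M K U₀) (hU : IsComplIn (sigmaCore M) U (U₀ ⊔ sigmaCore M)) :
    ∃ K' : Subgroup G, IsSigmaDecomposition M K' U := by
  have hUle : U ≤ U₀ ⊔ sigmaCore M := hU.2.1
  have hUM : U ≤ M := hUle.trans (le_of_decomp hKU)
  have hcop : (Nat.card U).Coprime (Nat.card (sigmaCore M)) := by
    refine Nat.coprime_of_dvd fun p hp hd hd' => ?_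
    haveI := Fact.mk hp
    obtain ⟨x, hx⟩ := exists_prime_orderOf_dvd_card' p hd
    have hpσ := isPiSub_sigmaCore M p hp hd'
    have h1 : (x : G) ∈ sigmaCore M := le_sigmaCore_of_sigma h hM (hUM x.2) fun q hq hdq => by
      rw [orderOf_submonoid, hx] at hdq
      rwa [(Nat.prime_dvd_prime_iff_eq hq hp).mp hdq]
    have h2 : (x : G) = 1 := Subgroup.mem_bot.mp (hU.2.2.1.le ⟨h1, x.2⟩)
    rw [← orderOf_submonoid, h2, orderOf_one] at hx
    exact hp.ne_one hx.symm
  obtain ⟨k, hk, hkU⟩ := Coprime.exists_conj_le_of_le_sup U (sigmaCore M) U₀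
    (hUM.trans (le_normalizer_sigmaCore M)) (hKU.compl.1.trans (le_normalizer_sigmaCore M))
    hcop (Or.inr (Coprime.solvable_of_le (sigmaCore_le M) (BGSigma.coatom_isSolvable hG hM)))
    (sup_comm U₀ (sigmaCore M) ▸ hUle)
  have hkM : k ∈ M := sigmaCore_le M hk
  have hU₀ : U₀.map (MulAut.conj k⁻¹).toMonoidHom = U := by
    refine le_antisymm ?_ fun u hu => ⟨k * u * k⁻¹, hkU u hu, by simp [mul_assoc]⟩
    rintro _ ⟨u, hu, rfl⟩
    show k⁻¹ * u * k⁻¹⁻¹ ∈ U
    rw [inv_inv]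
    obtain ⟨a, ha, b, hb, hab⟩ := hU.2.2.2 (k⁻¹ * u * k) (mul_mem (mul_mem
      (Subgroup.mem_sup_right (inv_mem hk)) (Subgroup.mem_sup_left hu)) (Subgroup.mem_sup_right hk))
    have h1 : k * a * k⁻¹ = u * (k * b * k⁻¹)⁻¹ := by
      calc k * a * k⁻¹ = k * (a * b) * k⁻¹ * (k * b * k⁻¹)⁻¹ := by group
        _ = u * (k * b * k⁻¹)⁻¹ := by rw [← hab]; group
    have h2 : k * a * k⁻¹ = 1 := Subgroup.mem_bot.mp ((inf_eq_bot hKU).le
      ⟨show k * a * k⁻¹ ∈ U₀ from h1.symm ▸ mul_mem hu (inv_mem (hkU b hb)), conj_mem_sigmaCore hkM ha⟩)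
    rw [conj_eq_one_iff] at h2
    rw [hab, h2, one_mul]
    exact hb
  exact ⟨_, hU₀ ▸ decomp_conj hKU (inv_mem hkM)⟩

theorem complement_stmt (M : Subgroup G) (hM : IsCoatom M) (U : Subgroup G)
    (hU : (IsOfTypeI M ∧ IsComplIn (fittingHallOf M) U M) ∨
      (IsOfTypeII M ∧ IsComplIn (fittingHallOf M) U ⁅M, M⁆)) :
    (∀ (p : ℕ), p.Prime → ∀ P : Sylow p U, IsMulCommutative (P : Subgroup U) ∧ PRankLE p 2 (P : Subgroup U)) ∧
      (∀ X : Set G, X ⊆ (U : Set G) \ {1} → X.Nonempty → fittingHallOf M ⊓ Subgroup.centralizer X ≠ ⊥ →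
        Subgroup.centralizer X ≤ M ∧ ∀ L : Subgroup G, IsCoatom L → Subgroup.centralizer X ≤ L → L = M) ∧
      IsTISubset (typeA M \ typeA1 M) := by
  obtain ⟨K₀, U₀, hKU₀⟩ := exists_decomp h hM
  have hF : fittingHallOf M = sigmaCore M := by
    rcases hU with ⟨ht, -⟩ | ⟨ht, -⟩
    · exact fittingHallOf_eq h hM hKU₀ (h.typeI_conv M hM K₀ U₀ hKU₀ ht).2
    · exact fittingHallOf_eq h hM hKU₀ ((h.typeII_iff M hM K₀ U₀ hKU₀).mp ht).2
  obtain ⟨K, hKU⟩ : ∃ K, IsSigmaDecomposition M K U := by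
    rcases hU with ⟨ht, hc⟩ | ⟨ht, hc⟩
    · refine decomp_of_complIn hG h hM hKU₀ ?_
      rw [sup_eq_of_bot hKU₀ (h.typeI_conv M hM K₀ U₀ hKU₀ ht).1, ← hF]
      exact hc
    · refine decomp_of_complIn hG h hM hKU₀ ?_
      rw [← (h.derived M hM K₀ U₀ hKU₀ ((h.typeII_iff M hM K₀ U₀ hKU₀).mp ht).1).1, ← hF]
      exact hc
  rw [hF]
  refine ⟨h.complement_sylow M hM K U hKU, fun X hX hne hXc => ?_, ?_⟩
  · have hcl : Subgroup.closure X ≤ U :=
      (Subgroup.closure_le U).mpr fun x hx => (hX hx).1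
    have hbot : Subgroup.closure X ≠ ⊥ := fun h0 => by
      obtain ⟨x, hx⟩ := hne
      exact (hX hx).2 (Subgroup.mem_bot.mp (h0.le (Subgroup.subset_closure hx)))
    have h1 := h.centralizer_uniq M hM K U hKU _ hcl hbot
      (by rwa [Subgroup.centralizer_closure])
    rwa [Subgroup.centralizer_closure] at h1
  · have hI : K = ⊥ → IsOfTypeI M := fun hK => by
      rcases hU with ⟨ht, -⟩ | ⟨ht, -⟩
      · exact ht
      · exact absurd hK ((h.typeII_iff M hM K U hKU).mp ht).1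
    rintro g hg x ⟨hx, hx1⟩ ⟨hgx, -⟩
    exfalso
    have hxσ : x ∉ sigmaCore M := fun hσ => by
      refine hx1 ⟨?_, (mem_typeA_imp hG h hM hKU hx).2.1⟩
      rw [typeCore_eq h hM]
      exact hσ
    refine hg ?_
    have hgM := mem_of_conj_typeA hG h hM hx hxσ hgx
    rw [Subgroup.mem_set_normalizer_iff]
    intro z
    have key : ∀ m ∈ M, ∀ w ∈ typeA M \ typeA1 M, m * w * m⁻¹ ∈ typeA M \ typeA1 M := by
      rintro m hm w ⟨hw, hw1⟩
      obtain ⟨hwU, hwne, y, hy, hy1, hwy⟩ := mem_typeA_imp hG h hM hKU hw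
      refine ⟨(mem_typeA_iff hG h hM hKU hI).mpr ⟨(Subgroup.mem_normalizer_iff.mp
        (le_normalizer_sup h hM hKU hm) w).mp hwU, fun h0 => hwne (conj_eq_one_iff.mp h0),
        m * y * m⁻¹, conj_mem_sigmaCore hm hy, fun h0 => hy1 (conj_eq_one_iff.mp h0), ?_⟩, ?_⟩
      · calc m * w * m⁻¹ * (m * y * m⁻¹) = m * (w * y) * m⁻¹ := by group
          _ = m * (y * w) * m⁻¹ := by rw [hwy]
          _ = m * y * m⁻¹ * (m * w * m⁻¹) := by group
      · rintro ⟨h2, -⟩
        refine hw1 ⟨?_, hwne⟩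
        rw [typeCore_eq h hM] at h2 ⊢
        have h3 : m⁻¹ * (m * w * m⁻¹) * m⁻¹⁻¹ ∈ sigmaCore M :=
          conj_mem_sigmaCore (inv_mem hm) h2
        simpa [mul_assoc] using h3
    exact ⟨key g hgM z, fun hz => by simpa [mul_assoc] using key g⁻¹ (inv_mem hgM) _ hz⟩

theorem type_classification_stmt (hI : TypeICriterion G) :
    (∀ M : Subgroup G, IsCoatom M → IsOfTypeI M) ∨
      ∃ W₁ W₂ S T : Subgroup G, IsSelfNormalizingCyclic W₁ W₂ ∧ IsCoatom S ∧ IsCoatom T ∧
        IsComplIn ⁅S, S⁆ W₁ S ∧ IsComplIn ⁅T, T⁆ W₂ T ∧ S ⊓ T = W₁ ⊔ W₂ ∧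
        (IsOfTypeII S ∨ IsOfTypeII T) ∧
        (IsOfTypeII S ∨ IsOfTypeIII S ∨ IsOfTypeIV S ∨ IsOfTypeV S) ∧
        (IsOfTypeII T ∨ IsOfTypeIII T ∨ IsOfTypeIV T ∨ IsOfTypeV T) ∧
        ∀ M : Subgroup G, IsCoatom M → IsOfTypeI M ∨ ∃ g : G, M = S.map (MulAut.conj g).toMonoidHom ∨ M = T.map (MulAut.conj g).toMonoidHom := by
  by_cases hall : ∀ M : Subgroup G, IsCoatom M → IsOfTypeI M
  · exact Or.inl hall
  push Not at hall
  obtain ⟨M, hM, hMI⟩ := hall
  obtain ⟨K, U, hKU⟩ := exists_decomp h hM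
  have hK : K ≠ ⊥ := fun h0 => hMI ((typeI_iff h hG hI hM hKU).mpr h0)
  obtain ⟨N, ⟨hN, hNK, hNhall⟩, -⟩ := h.star M hM K U hKU hK
  set L := sigmaCore M ⊓ Subgroup.centralizer (K : Set G) with hL
  obtain ⟨hinf, hcyc⟩ := h.star_inf M hM K U hKU hK N hN hNK hNhall
  obtain ⟨hTI, hnorm⟩ := h.zhat_ti M hM K U hKU hK
  obtain ⟨hII, hclass⟩ := h.star_class M hM K U hKU hK N hN hNK hNhall
  have hLc : IsCyclic L := by
    haveI := hcyc
    exact Subgroup.isCyclic_of_le (show L ≤ K ⊔ L from le_sup_right)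
  obtain ⟨V, hV⟩ := (h.decomp N hN L hLc hNhall).1
  have hKL : K ⊓ L = ⊥ := le_bot_iff.mp ((inf_le_inf_left K inf_le_left).trans
    (Subgroup.inf_eq_bot_of_coprime (kappa'_sigma h hKU.hall)).le)
  have hcomm : ∀ a ∈ K, ∀ b ∈ L, a * b = b * a := fun a ha b hb =>
    Subgroup.mem_centralizer_iff.mp hb.2 a ha
  have hL0 : L ≠ ⊥ := fun h0 => by
    rw [hL] at h0
    rw [h0, sup_bot_eq, Set.diff_eq_empty.mpr Set.subset_union_left, Subgroup.normalizer_empty]
      at hnorm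
    exact hM.1 (top_le_iff.mp (hnorm.le.trans hKU.hall.1))
  have hcompl : ∀ {S A B : Subgroup G}, IsCoatom S → IsSigmaDecomposition S A B → A ≠ ⊥ →
      IsComplIn ⁅S, S⁆ A S := by
    intro S A B hS hAB hA
    have hd := (h.derived S hS A B hAB hA).1
    have hsup : A ⊔ (B ⊔ sigmaCore S) = S := by
      rw [← sup_assoc, sup_comm A B, sup_assoc]
      exact isComplIn_sup hAB.compl
    refine ⟨Subgroup.commutator_le_self S, hAB.hall.1, ?_, fun z hz => ?_⟩
    · rw [hd, eq_bot_iff]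
      intro x hxx
      obtain ⟨hx', hxA⟩ := Subgroup.mem_inf.mp hxx
      have hx : x ∈ ((B ⊔ sigmaCore S : Subgroup G) : Set G) := hx'
      rw [Subgroup.coe_mul_of_left_le_normalizer_right _ _
        (hAB.compl.1.trans (le_normalizer_sigmaCore S))] at hx
      obtain ⟨b, hb, c, hc, rfl⟩ := hx
      have hb1 : b = 1 := Subgroup.mem_bot.mp (hAB.compl.2.2.1.le ⟨hb, by
        simpa using mul_mem (Subgroup.mem_sup_left hxA)
          (Subgroup.mem_sup_right (inv_mem hc) : c⁻¹ ∈ A ⊔ sigmaCore S)⟩)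
      subst hb1
      have := (Subgroup.inf_eq_bot_of_coprime (kappa'_sigma h hAB.hall)).le
        ⟨hxA, by simpa using hc⟩
      simpa using this
    · rw [hd]
      rw [← hsup, sup_comm] at hz
      have hz' : z ∈ ((B ⊔ sigmaCore S) ⊔ A : Subgroup G) := hz
      rw [← SetLike.mem_coe, Subgroup.coe_mul_of_right_le_normalizer_left _ _
        (hAB.hall.1.trans (le_normalizer_sup h hS hAB))] at hz'
      obtain ⟨a, ha, b, hb, rfl⟩ := hz'
      exact ⟨a, ha, b, hb, rfl⟩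
  refine Or.inr ⟨K, L, M, N, ?_, hM, hN, hcompl hM hKU hK, hcompl hN hV hL0, hinf, ?_,
    typeP_cases h hM hKU hK, typeP_cases h hN hV hL0, fun H hH => ?_⟩
  · refine ⟨hK, hL0, hKL, hcomm, hcyc, fun X hX hne => le_antisymm (fun g hg => ?_) fun w hw => ?_⟩
    · obtain ⟨x, hx⟩ := hne
      rw [← hnorm]
      by_contra hgN
      have := hTI g hgN x (hX hx) (hX ((Subgroup.mem_set_normalizer_iff.mp hg x).mp hx))
      exact (hX hx).2 (Or.inl (this ▸ one_mem K))
    · rw [Subgroup.mem_set_normalizer_iff]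
      intro z
      haveI := hcyc
      have key : ∀ a ∈ K ⊔ L, ∀ b ∈ K ⊔ L, a * b * a⁻¹ = b := fun a ha b hb => by
        have := congrArg Subtype.val (mul_comm' (⟨a, ha⟩ : ↥(K ⊔ L)) ⟨b, hb⟩)
        simp only [Subgroup.coe_mul] at this
        rw [this, mul_inv_cancel_right]
      constructor
      · intro hz
        rwa [key w hw z (hX hz).1]
      · intro hz
        have hwz := (hX hz).1
        have hzW : z ∈ K ⊔ L := by
          simpa [mul_assoc] using mul_mem (mul_mem (inv_mem hw) hwz) hw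
        rwa [key w hw z hzW] at hz
  · rcases hII with hU' | hV'
    · exact Or.inl ((h.typeII_iff M hM K U hKU).mpr ⟨hK, hU'⟩)
    · exact Or.inr ((h.typeII_iff N hN L V hV).mpr ⟨hL0, hV' V hV⟩)
  · obtain ⟨K', U', hKU'⟩ := exists_decomp h hH
    by_cases hk : K' = ⊥
    · exact Or.inl ((typeI_iff h hG hI hH hKU').mpr hk)
    · exact Or.inr (hclass H hH (Set.nonempty_iff_ne_empty.mpr fun he =>
        hk ((eq_bot_iff_kappa hKU'.hall).mpr he)))

end Cfsg.Agent.BGSummary
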