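import Cfsg.Agent.BGSummary.SupportFrob
import Cfsg.Agent.BGSigma.SupportR
import Cfsg.Agent.BGSummary.Types

/-!
# S1376 and S1436: the supporting subgroups of `M`
-/

set_option autoImplicit false
set_option linter.unusedSectionVars false
set_option linter.style.haveILetI false
set_option linter.unusedVariables false

namespace Cfsg.Agent.BGSummary.Support

open Cfsg Subgroup
open scoped commutatorElement
open Cfsg.Agent.BGSigma (sigmaCore_le le_normalizer_sigmaCore isPiSub_sigmaCore localInputs centralizer_anti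
  le_centralizer_self_of_comm)

universe u

variable {G : Type u} [Group G] [Finite G] (hG : IsMinSimpleOddOrder G) (h : LocalStructure G)
include hG h

/-- With `κ(N) ≠ ∅`, a factorisation of `N` with `U K = M ⊓ N` and the data of S1435 for `M`. -/
theorem Sig.exists_p2 {M : Subgroup G} (hM : IsCoatom M) {x : G} {N : Subgroup G} (d : Sig M x N)
    (hkN : (kappa N).Nonempty) :
    ∃ (K U Ms : Subgroup G) (r : ℕ) (_ : Fact r.Prime) (R : Sylow r U),
      P2Data N K U Ms ∧ r ∣ Nat.card U ∧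
      normalizer ((((R : Subgroup U).map U.subtype : Subgroup G)) : Set G) ≤ M ∧
      centralizer ((((R : Subgroup U).map U.subtype : Subgroup G)) : Set G) ≤ N := by
  have hI := localInputs hG
  obtain ⟨K₀, U₀, hKU₀⟩ := Loc.exists_decomposition hG h d.coatom
  have hK₀ : K₀ ≠ ⊥ := fun h0 => hkN.ne_empty (Loc.kappa_eq_empty hG h d.coatom hKU₀ h0)
  have hC₀ := Loc.compl_sup hKU₀
  obtain ⟨m, hm, hmE⟩ := BGTwelve.exists_conj_le_compl hG d.coatom d.compl hC₀.1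
    fun q hq hd => BGTwelve.not_mem_sigma_of_dvd hG d.coatom hC₀ hq hd
  have hmN : m ∈ N := sigmaCore_le N hm
  set K := K₀.map (MulAut.conj m).toMonoidHom with hK
  set U := U₀.map (MulAut.conj m).toMonoidHom with hU
  have hKU : IsSigmaDecomposition N K U := decomp_conj hKU₀ hmN
  have hK1 : K ≠ ⊥ := fun h0 =>
    hK₀ ((map_eq_bot_iff_of_injective _ (MulAut.conj m).injective).mp h0)
  obtain ⟨s, B₀, hs, h2, hsM, -, -⟩ := d.exists_plane hG hM
  haveI := Fact.mk hs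
  obtain ⟨B, hBU, hBe, hBc⟩ := Loc.exists_sq_le_U hG d.coatom hKU h2
  have hUE : U ≤ M ⊓ N := by
    rintro _ ⟨u, hu, rfl⟩
    exact hmE u (mem_sup_left hu)
  have hsU : s ∣ Nat.card U := (hBc ▸ dvd_pow_self s two_ne_zero).trans (card_dvd_of_le hBU)
  have hU1 : U ≠ ⊥ := fun h0 => by
    rw [h0, card_bot] at hsU
    exact hs.not_dvd_one hsU
  obtain ⟨R, hR⟩ := ((IsPGroup.of_card hBc).comap_subtype (K := U)).exists_le_sylow
  set R₀ := (R : Subgroup U).map U.subtype with hR₀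
  have hBR : B ≤ R₀ := fun b hb => ⟨⟨b, hBU hb⟩, hR hb, rfl⟩
  obtain ⟨Ms, ⟨hMs, hst, hstH⟩, -⟩ := h.star N d.coatom K U hKU hK1
  obtain ⟨E, hE⟩ := Loc.exists_compl hG hM
  have hnc : ¬ IsCyclic R₀ := fun hc => by
    haveI := hc
    exact BGTwelve.not_isCyclic_sq hBe hBc (Subgroup.isCyclic_of_le hBR)
  have hCB := (BGTwelve.tau_two_compl_stmt hG hI d.coatom d.compl h2
    ⟨hBU.trans hUE, hBe, hBc⟩).2.1.1
  exact ⟨K, U, Ms, s, ⟨hs⟩, R, ⟨d.coatom, hKU, hK1, hU1, hMs, hst, hstH⟩, hsU,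
    (h.sigma_prime M hM E hE).2.2.1 s R₀ hsM (R.isPGroup'.map _)
      ((map_subtype_le _).trans (hUE.trans inf_le_left)) hnc,
    (centralizer_anti hBR).trans (hCB.trans inf_le_left)⟩

/-- `τ₂(M) = ∅` when `κ(N) ≠ ∅`. -/
theorem Sig.tau2_empty {M : Subgroup G} (hM : IsCoatom M) {x : G} {N : Subgroup G} (d : Sig M x N)
    (hkN : (kappa N).Nonempty) {t : ℕ} : t ∉ Cfsg.tau2 M := by
  obtain ⟨K, U, Ms, r, hr, R, d', hrU, hNR, hCR⟩ := d.exists_p2 hG h hM hkN
  exact d'.tau2_empty hG h hrU R hM hNR hCR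

omit h in
theorem kappa_conj {M : Subgroup G} (hM : IsCoatom M) {g : G} {p : ℕ}
    (hp : p ∈ kappa (M.map (MulAut.conj g).toMonoidHom)) : p ∈ kappa M := by
  obtain ⟨hpp, hps, hr, P, hP, hPc, hne⟩ :=
    (BGSigma.mem_kappa_iff hG (BGSigma.isCoatom_map_conj hM g)).1 hp
  refine (BGSigma.mem_kappa_iff hG hM).2 ⟨hpp, fun h0 => hps (BGSigma.sigma_conj_iff.mpr h0),
    (BGSigma.prankLE_conj M g).1 hr, P.map (MulAut.conj g⁻¹).toMonoidHom, ?_,
    (BGSigma.card_map_conj P _).trans hPc, fun h0 => hne ?_⟩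
  · have h1 := map_mono (f := (MulAut.conj g⁻¹).toMonoidHom) hP
    rwa [BGSigma.map_conj_comp, inv_mul_cancel, BGSigma.map_conj_one] at h1
  · have h1 := congrArg (Subgroup.map (MulAut.conj g).toMonoidHom) h0
    rwa [Subgroup.map_bot, Subgroup.map_inf _ _ _ (MulAut.conj g).injective,
      ← BGSigma.map_conj_centralizer, BGSigma.map_conj_comp, mul_inv_cancel, BGSigma.map_conj_one,
      ← BGSigma.sigmaCore_map_conj hG hM g] at h1

theorem Sig.exists_conj_line {M : Subgroup G} (hM : IsCoatom M) {x : G} {N : Subgroup G}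
    (d : Sig M x N) {p : ℕ} (hpN : p ∈ sigma N) (hpM : p ∣ Nat.card M) {P : Subgroup G}
    (hPM : P ≤ M) (hPc : Nat.card P = p) :
    ∃ L : Subgroup G, IsCoatom L ∧ p ∈ sigma L ∧ P ≤ sigmaCore L ∧
      centralizer (P : Set G) ≤ L ∧ ∃ g : G, L = N.map (MulAut.conj g).toMonoidHom := by
  haveI := Fact.mk hpN.1
  obtain ⟨g, hg⟩ := h.sigma_conj N d.coatom P (BGSigma.ne_bot_of_prime_card hpN.1 hPc)
    fun q hq hd => ((Nat.prime_dvd_prime_iff_eq hq hpN.1).mp (hPc ▸ hd)) ▸ hpN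
  set L := N.map (MulAut.conj g⁻¹).toMonoidHom with hL
  have hLc : IsCoatom L := BGSigma.isCoatom_map_conj d.coatom _
  have hPσ : P ≤ sigmaCore L := by
    rw [hL, BGSigma.sigmaCore_map_conj hG d.coatom]
    have h1 := map_mono (f := (MulAut.conj g⁻¹).toMonoidHom) hg
    rwa [BGSigma.map_conj_comp, inv_mul_cancel, BGSigma.map_conj_one] at h1
  have hpL : p ∈ sigma L := BGSigma.sigma_conj_iff.mpr hpN
  have hb := d.mem_beta hG hM h hpN hpM
  have hbL : p ∈ beta L :=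
    ⟨⟨hpN.1, fun h0 => hb.1.2 ((BGSigma.prankLE_conj N _).1 h0)⟩, hb.2⟩
  exact ⟨L, hLc, hpL, hPσ, (h.beta_uniq L hLc p hpL P (hPσ.trans (sigmaCore_le L)) hPc default
    (Or.inl hbL)).1.1, g⁻¹, rfl⟩

/-- `κ(M) = ∅` when a prime of `σ(N)` divides `|M|`. -/
theorem Sig.kappa_empty {M : Subgroup G} (hM : IsCoatom M) {x : G} {N : Subgroup G}
    (d : Sig M x N) {p : ℕ} (hpN : p ∈ sigma N) (hpM : p ∣ Nat.card M) : kappa M = ∅ := by
  have hI := localInputs hG
  have hps : p ∉ sigma M := d.not_sigma hG hM hpN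
  haveI := Fact.mk hpN.1
  obtain ⟨K, U, hKU⟩ := Loc.exists_decomposition hG h hM
  have hpk : p ∉ kappa M := by
    intro hk
    have hK1 : K ≠ ⊥ := fun h0 => by
      rw [Loc.kappa_eq_empty hG h hM hKU h0] at hk
      exact hk
    obtain ⟨P, hPK, hPc⟩ := BGSigma.exists_order_prime_line hpN.1 (show p ∣ Nat.card K by
      refine by_contra fun h0 => hKU.hall.2.2 p hpN.1 hk ?_
      have h1 := BGSigma.relIndex_mul_card hKU.hall.1
      exact (hpN.1.dvd_mul.1 (h1 ▸ hpM)).resolve_right h0)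
    have hPM : P ≤ M := hPK.trans hKU.hall.1
    obtain ⟨L, hL, hpL, hPσ, hCP, g, hg⟩ := d.exists_conj_line hG h hM hpN hpM hPM hPc
    obtain ⟨-, -, -, h4⟩ := h.kappa_star_meet M hM K hKU.hall hK1
    set st := sigmaCore M ⊓ centralizer (K : Set G) with hst
    obtain ⟨l, hl, y, hy, hyo⟩ :=
      BGSigma.exists_prime_line (h.kappa_star M hM K hKU.cyclic hKU.hall).1
    haveI := Fact.mk hl
    set X := zpowers y with hX
    have hXc : Nat.card X = l := by rw [hX, Nat.card_zpowers, hyo]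
    have hlM : l ∈ sigma M :=
      isPiSub_sigmaCore M l hl (hyo ▸ Subgroup.orderOf_dvd_natCard _ hy.1)
    have hXL : X ≤ L :=
      (zpowers_le.mpr (centralizer_anti hPK hy.2) : X ≤ centralizer (P : Set G)).trans hCP
    obtain ⟨E, hE, hXE⟩ := BGSigma.exists_compl_ge hG hL hXL fun q hq hd => by
      rw [BGSigma.eq_of_dvd_card_pgroup (BGSigma.isPGroup_of_prime_card hXc) hq hd]
      exact BGSigma.sigma_disjoint hG hM hL hpL hps hlM
    obtain ⟨s, B₀, hs, h2, hsM, -, -⟩ := d.exists_plane hG hM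
    haveI := Fact.mk hs
    have h2L : s ∈ Cfsg.tau2 L := ⟨hs, fun h0 => h2.2.1 (BGSigma.sigma_of_conj (hg ▸ h0)),
      hg ▸ (BGSigma.prankLE_conj N g).2 h2.2.2.1,
      fun h0 => h2.2.2.2 ((BGSigma.prankLE_conj N g).1 (hg ▸ h0))⟩
    obtain ⟨B, hB⟩ := BGTwelve.exists_sq_le_compl hG hL hE h2L
    have hEB := BGTwelve.compl_le_normalizer_sq hG hI hL hE h2L hB
    have hYσ : B ⊔ X ≤ sigmaCore M := h4 _ (fun q hq hd => by
      rcases BGSigma.prime_dvd_sup (hXE.trans hEB) hq hd with h1 | h1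
      · rw [BGSigma.eq_of_dvd_card_pgroup (IsPGroup.of_card hB.2.2) hq h1]; exact hsM
      · rw [BGSigma.eq_of_dvd_card_pgroup (BGSigma.isPGroup_of_prime_card hXc) hq h1]; exact hlM)
      fun h0 => by
        have h1 : y ∈ (B ⊔ X) ⊓ st := ⟨mem_sup_right (mem_zpowers y), hy⟩
        rw [h0, mem_bot] at h1
        exact hl.ne_one (by rw [← hyo, h1, orderOf_one])
    obtain ⟨-, -, -, hf, -⟩ :=
      BGSigma.tau_two_stmt hG hI L hL h2L B ⟨hB.1.trans hE.1, hB.2⟩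
    have hd := BGSigma.sigmaCore_inf_sigmaCore hG hM hL hpL hps
    refine BGSigma.ne_bot_of_prime_card hpN.1 hPc (le_bot_iff.mp ((le_inf hPσ fun a ha =>
      mem_centralizer_iff.mpr fun b hb => ?_).trans hf.le))
    have hbσ : b ∈ sigmaCore M := hYσ (mem_sup_left hb)
    have haL : a ∈ sigmaCore L := hPσ ha
    have h1 : b * a * b⁻¹ * a⁻¹ ∈ sigmaCore M ⊓ sigmaCore L := by
      refine ⟨?_, (sigmaCore L).mul_mem
        ((mem_normalizer_iff.mp (le_normalizer_sigmaCore L (hE.1 (hB.1 hb))) a).mp haL)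
        ((sigmaCore L).inv_mem haL)⟩
      rw [show b * a * b⁻¹ * a⁻¹ = b * (a * b⁻¹ * a⁻¹) by group]
      exact (sigmaCore M).mul_mem hbσ
        ((mem_normalizer_iff.mp (le_normalizer_sigmaCore M (hPM ha)) _).mp
          ((sigmaCore M).inv_mem hbσ))
    rw [hd, mem_bot, mul_inv_eq_one, mul_inv_eq_iff_eq_mul] at h1
    exact h1
  refine Set.not_nonempty_iff_eq_empty.mp fun hk => ?_
  have hK1 : K ≠ ⊥ := fun h0 => hk.ne_empty (Loc.kappa_eq_empty hG h hM hKU h0)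
  have hU1 : U ≠ ⊥ := fun h0 => by
    have h1 := Loc.dvd_U_of hG hM hKU hpN.1 hpM hps hpk
    rw [h0, card_bot] at h1
    exact hpN.1.not_dvd_one h1
  exact d.not_le (Loc.centralizer_le_of_sigma hG h hM hKU hK1 hU1 d.mem_sigma d.ne_one)

/-- `τ₂(M) = ∅` when a prime of `σ(N)` divides `|M|`. -/
theorem Sig.tau2_empty_of_prime {M : Subgroup G} (hM : IsCoatom M) {x : G} {N : Subgroup G}
    (d : Sig M x N) {p : ℕ} (hpN : p ∈ sigma N) (hpM : p ∣ Nat.card M) : Cfsg.tau2 M = ∅ := by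
  have hI := localInputs hG
  have hps : p ∉ sigma M := d.not_sigma hG hM hpN
  haveI := Fact.mk hpN.1
  have hk := d.kappa_empty hG h hM hpN hpM
  refine Set.eq_empty_iff_forall_notMem.mpr fun q hq2 => ?_
  haveI := Fact.mk hq2.1
  have hqp : q ≠ p := fun h0 => d.not_tau2 hG hM h hpN hpM (h0 ▸ hq2)
  obtain ⟨E, hE⟩ := Loc.exists_compl hG hM
  obtain ⟨A, hA⟩ := BGTwelve.exists_sq_le_compl hG hM hE hq2
  have hAM : A ≤ M := hA.1.trans hE.1
  haveI := hA.2.1.1
  obtain ⟨-, -, -, hfA, -⟩ := BGSigma.tau_two_stmt hG hI M hM hq2 A ⟨hAM, hA.2⟩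
  have hqd : q ∣ Nat.card M :=
    (hA.2.2 ▸ dvd_pow_self q two_ne_zero).trans (card_dvd_of_le hAM)
  have hqN : q ∉ sigma N := fun h0 => d.not_tau2 hG hM h h0 hqd hq2
  have hqN2 : q ∉ Cfsg.tau2 N := by
    intro hq2N
    obtain ⟨A', hA'⟩ := BGTwelve.exists_sq_le_compl hG d.coatom d.compl hq2N
    obtain ⟨s, B, hs, h2, hsM, -, hB⟩ := d.exists_plane hG hM
    haveI := Fact.mk hs
    obtain ⟨-, -, -, hf, -⟩ := BGSigma.tau_two_stmt hG hI M hM hq2 A'
      ⟨hA'.1.trans inf_le_left, hA'.2⟩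
    have hsq : s ≠ q := fun h0 => hq2.2.1 (h0 ▸ hsM)
    have hBA : B ≤ centralizer (A' : Set G) := BGSigma.normal_coprime_le_centralizer hA'.1 hB.1
      (BGTwelve.compl_le_normalizer_sq hG hI d.coatom d.compl hq2N hA')
      (BGTwelve.compl_le_normalizer_sq hG hI d.coatom d.compl h2 hB)
      (by rw [hA'.2.2, hB.2.2]; exact ((Nat.coprime_primes hq2.1 hs).2 hsq.symm).pow 2 2)
    have hBσ : B ≤ sigmaCore M := BGSigma.le_sigmaCore_of_pgroup hG hM hsM
      (IsPGroup.of_card hB.2.2) (hB.1.trans inf_le_left)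
    have hB0 : B = ⊥ := le_bot_iff.mp ((le_inf hBσ hBA).trans hf.le)
    have := hB.2.2
    rw [hB0, card_bot] at this
    exact (Nat.one_lt_pow two_ne_zero hs.one_lt).ne this
  obtain ⟨P, hPE, hPc⟩ := BGSigma.exists_order_prime_line hpN.1 (show p ∣ Nat.card E by
    refine (hpN.1.dvd_mul.mp ((BGTwelve.card_compl_mul hE).symm ▸ hpM)).resolve_right fun h0 => ?_
    exact hps (isPiSub_sigmaCore M p hpN.1 h0))
  have hPM : P ≤ M := hPE.trans hE.1
  obtain ⟨L, hL, hpL, hPσ, hCP, g, hg⟩ := d.exists_conj_line hG h hM hpN hpM hPM hPc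
  have hqL : q ∉ sigma L := fun h0 => hqN (BGSigma.sigma_of_conj (hg ▸ h0))
  have hr1 : PRankLE q 1 L := by
    by_contra h1
    refine hqN2 ⟨hq2.1, hqN, ?_, fun h0 => h1 (hg ▸ (BGSigma.prankLE_conj N g).2 h0)⟩
    exact BGSigma.not_sigma_rank_two hG hI.uniq d.coatom hq2.1 hqN
  have hnA : P ≤ normalizer (A : Set G) :=
    hPE.trans (BGTwelve.compl_le_normalizer_sq hG hI hM hE hq2 hA)
  have hfP : sigmaCore M ⊓ centralizer (P : Set G) = ⊥ := by
    by_contra h0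
    rcases BGSigma.kappa_or_tau2 hG hM hpN.1 hps hPM hPc h0 with h1 | h1
    · simp [hk] at h1
    · exact d.not_tau2 hG hM h hpN hpM h1
  by_cases hPA : P ≤ centralizer (A : Set G)
  · refine (BGSigma.not_prankLE_of_elemAbelian hA.2.1 ((le_centralizer_iff.mp hPA).trans hCP) ?_) hr1
    rw [hA.2.2, pow_one]
    exact lt_self_pow₀ hq2.1.one_lt one_lt_two
  have hco : (Nat.card P).Coprime (Nat.card A) := by
    rw [hA.2.2, hPc]
    exact ((Nat.coprime_primes hpN.1 hq2.1).2 hqp.symm).pow_right 2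
  have h1 := BGSigma.commutator_le_centralizer_core hG hM ((sup_le hA.1 hPE).trans hE.1)
    (fun l hl hd => BGTwelve.not_mem_sigma_of_dvd hG hM hE hl
      (hd.trans (card_dvd_of_le (sup_le hA.1 hPE)))) hnA (hPc.symm ▸ hpN.1) hco.symm
    (hfP.le.trans bot_le)
  have hsplit := Coprime.commutator_sup_centralizer P A hnA hco
    (Or.inr (Coprime.solvable_of_le hAM (BGSigma.coatom_isSolvable hG hM)))
  obtain ⟨a, ha, ha1⟩ := (A ⊓ centralizer (P : Set G)).bot_or_exists_ne_one.resolve_left fun h0 => by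
    rw [h0, sup_bot_eq] at hsplit
    refine BGSigma.sigmaCore_ne_bot hG hI.uniq BGSigma.smallRankFrattini
      BGSigma.fittingRankTwoDerived BGSigma.rankTwoLargestPrime hM ?_
    rw [← hfA, inf_eq_left.mpr (le_centralizer_iff.mp (hsplit ▸ h1))]
  have hao : orderOf a = q := orderOf_eq_prime (hA.2.1.2 a ha.1) ha1
  obtain ⟨b, hb, hb1⟩ :=
    (P.bot_or_exists_ne_one).resolve_left (BGSigma.ne_bot_of_prime_card hpN.1 hPc)
  have hab : a ∈ L ⊓ centralizer ({b} : Set G) :=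
    ⟨hCP ha.2, mem_centralizer_singleton_iff.mpr (mem_centralizer_iff.mp ha.2 b hb).symm⟩
  have hσ : ∀ l : ℕ, l.Prime → l ∣ orderOf a → l ∉ sigma L := fun l hl hd => by
    rw [hao] at hd
    rwa [(Nat.prime_dvd_prime_iff_eq hl hq2.1).mp hd]
  rcases BGSigma.dichotomy_stmt hG L hL b (hPσ hb) hb1 a hab ha1 hσ with ⟨h3, -⟩ | ⟨h3, -⟩
  · exact d.tau2_empty hG h hM ⟨q, kappa_conj hG d.coatom (hg ▸ h3 q hq2.1 (hao ▸ dvd_rfl))⟩ hq2
  · exact (h3 q hq2.1 (hao ▸ dvd_rfl)).2.2.2 hr1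

end Cfsg.Agent.BGSummary.Support

namespace Cfsg.Agent.BGSummary.Loc

open Cfsg Subgroup
open Cfsg.Agent.BGSigma (sigmaCore_le le_normalizer_sigmaCore isPiSub_sigmaCore localInputs)

universe u

variable {G : Type u} [Group G] [Finite G] (hG : IsMinSimpleOddOrder G) (h : LocalStructure G)
include hG h

/-- S1376. -/
theorem frobenius_of {M : Subgroup G} (hM : IsCoatom M) {x : G} (hx : x ∈ sigmaCore M)
    (hx1 : x ≠ 1) (hxM : ¬ centralizer ({x} : Set G) ≤ M) {N : Subgroup G} (hN : IsCoatom N)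
    (hxN : centralizer ({x} : Set G) ≤ N) (hkN : (kappa N).Nonempty) :
    kappa M = ∅ ∧ (∃ E : Subgroup ↥M, IsFrobeniusComplement E ∧ IsCyclic E) ∧
      ¬ IsTISubset (fittingHallOf M : Set G) := by
  have d := Support.Sig.of hG hM hx hx1 hxM hN hxN
  obtain ⟨K, U, Ms, r, hr, R, d', hrU, hNR, hCR⟩ := d.exists_p2 hG h hM hkN
  obtain ⟨-, -, hnil, hk, hKM, -⟩ := d'.core_H hG h hrU R hM hNR
  obtain ⟨-, hE⟩ := d'.compl_star hG h hrU R hM hNR
  have hF := fittingHallOf_eq_sigmaCore hG h hM hnil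
  set E := M ⊓ Ms with hEdef
  refine ⟨hk, ⟨E.subgroupOf M, ?_, ?_⟩, ?_⟩
  · have hdj : ((sigmaCore M).subgroupOf M) ⊓ (E.subgroupOf M) = ⊥ := by
      rw [show (sigmaCore M).subgroupOf M ⊓ E.subgroupOf M = (sigmaCore M ⊓ E).subgroupOf M from rfl,
        inf_comm, hE.2.2.1, bot_subgroupOf]
    have hc : Subgroup.IsComplement' ((sigmaCore M).subgroupOf M) (E.subgroupOf M) := by
      refine Subgroup.isComplement'_of_disjoint_and_mul_eq_univ (disjoint_iff.mpr hdj) ?_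
      refine Set.eq_univ_of_forall fun m => ?_
      obtain ⟨a, ha, b, hb, hab⟩ := hE.2.2.2 m m.2
      refine ⟨⟨a * b * a⁻¹, mul_mem (mul_mem (hE.1 ha) (sigmaCore_le M hb)) (inv_mem (hE.1 ha))⟩,
        (mem_normalizer_iff.mp (le_normalizer_sigmaCore M (hE.1 ha)) b).mp hb, ⟨a, hE.1 ha⟩, ha,
        Subtype.ext ?_⟩
      show a * b * a⁻¹ * a = m
      rw [hab]; group
    haveI : ((sigmaCore M).subgroupOf M).Normal :=
      (normal_subgroupOf_iff_le_normalizer (sigmaCore_le M)).mpr (le_normalizer_sigmaCore M)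
    refine Frobenius.isFrobeniusComplement_of_fixedPointFree (K := (sigmaCore M).subgroupOf M) hc
      ?_ ?_ fun e he he1 => ?_
    · rw [Ne, subgroupOf_eq_bot, disjoint_iff, inf_eq_left.mpr (sigmaCore_le M)]
      exact BGSigma.sigmaCore_ne_bot hG (localInputs hG).uniq BGSigma.smallRankFrattini
        BGSigma.fittingRankTwoDerived BGSigma.rankTwoLargestPrime hM
    · rw [Ne, subgroupOf_eq_bot, disjoint_iff, inf_eq_left.mpr hE.1]
      exact fun h0 => d'.K_ne (le_bot_iff.mp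
        ((le_inf hKM (d'.le_star_sigma.trans (sigmaCore_le Ms))).trans h0.le))
    · refine (eq_bot_iff_forall _).mpr fun y hy => Subtype.ext ?_
      refine Subgroup.mem_bot.mp ((d'.regular hG h hrU R hM hNR hCR he
        (fun h0 => he1 (Subtype.ext h0))).le ⟨hy.1, mem_centralizer_singleton_iff.mpr ?_⟩)
      exact congrArg Subtype.val (mem_centralizer_singleton_iff.mp hy.2)
  · haveI := d'.cyclic_compl hG h hrU R hM hNR hCR
    exact (subgroupOfEquivOfLe hE.1).isCyclic.mpr this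
  · rw [hF]
    intro hTI
    obtain ⟨g, hg, hgM⟩ := SetLike.not_le_iff_exists.mp hxM
    refine hx1 (hTI g ?_ x hx ?_)
    · rw [normalizer_sigmaCore hG h hM]; exact hgM
    · rw [show g * x * g⁻¹ = x by rw [mem_centralizer_singleton_iff.mp hg, mul_inv_cancel_right]]
      exact hx

/-- S1436. -/
theorem support_primes_of {M : Subgroup G} (hM : IsCoatom M) {x : G} (hx : x ∈ sigmaCore M)
    (hx1 : x ≠ 1) (hxM : ¬ centralizer ({x} : Set G) ≤ M) {N : Subgroup G} (hN : IsCoatom N)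
    (hxN : centralizer ({x} : Set G) ≤ N) :
    ((∃ p ∈ sigma N, p ∣ Nat.card M) → kappa M = ∅ ∧ tau2 M = ∅) ∧
      ∀ (y : G) (N' : Subgroup G) (g : G), y ∈ sigmaCore M → y ≠ 1 →
        ¬ centralizer ({y} : Set G) ≤ M → IsCoatom N' → centralizer ({y} : Set G) ≤ N' →
        N'.map (MulAut.conj g).toMonoidHom = N →
          ∃ m ∈ M, N'.map (MulAut.conj m).toMonoidHom = N := by
  have d := Support.Sig.of hG hM hx hx1 hxM hN hxN
  refine ⟨fun ⟨p, hpN, hpM⟩ => ⟨d.kappa_empty hG h hM hpN hpM,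
    d.tau2_empty_of_prime hG h hM hpN hpM⟩, fun y N' g hy hy1 hyM hN' hyN' hg => ?_⟩
  have d' := Support.Sig.of hG hM hy hy1 hyM hN' hyN'
  set E₁ := (M ⊓ N').map (MulAut.conj g).toMonoidHom with hE₁
  have hcore : (sigmaCore N').map (MulAut.conj g).toMonoidHom = sigmaCore N := by
    rw [← BGSigma.sigmaCore_map_conj hG hN' g, hg]
  have hE₁c : IsComplIn E₁ (sigmaCore N) N := by
    refine ⟨hg ▸ map_mono inf_le_right, sigmaCore_le N, ?_, fun z hz => ?_⟩
    · rw [hE₁, ← hcore, ← Subgroup.map_inf _ _ _ (MulAut.conj g).injective, d'.compl.2.2.1,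
        Subgroup.map_bot]
    · rw [← hg] at hz
      obtain ⟨w, hw, rfl⟩ := hz
      obtain ⟨a, ha, b, hb, rfl⟩ := d'.compl.2.2.2 w hw
      exact ⟨_, ⟨a, ha, rfl⟩, _, hcore.le ⟨b, hb, rfl⟩, map_mul _ _ _⟩
  obtain ⟨n, hn, hnE⟩ := BGTwelve.exists_conj_le_compl hG hN d.compl hE₁c.1
    fun q hq hd => BGTwelve.not_mem_sigma_of_dvd hG hN hE₁c hq hd
  obtain ⟨s, B, hs, h2, hsM, -, hB⟩ := d'.exists_plane hG hM
  haveI := Fact.mk hs
  have hBσ : B ≤ sigmaCore M := BGSigma.le_sigmaCore_of_pgroup hG hM hsM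
    (IsPGroup.of_card hB.2.2) (hB.1.trans inf_le_left)
  refine ⟨n * g, by_contra fun hgM => ?_, ?_⟩
  · obtain ⟨E, hE⟩ := exists_compl hG hM
    obtain ⟨hc, -⟩ := (h.sigma_meet M hM E hE).2.2 (n * g)⁻¹ fun h0 => hgM (inv_mem_iff.mp h0)
    haveI := hc
    have hle : B ≤ sigmaCore M ⊓ M.map (MulAut.conj (n * g)⁻¹).toMonoidHom := by
      refine fun b hb => ⟨hBσ hb, BGSigma.mem_map_conj.mpr ?_⟩
      have h1 := (hnE (g * b * g⁻¹) ⟨b, hB.1 hb, rfl⟩).1
      simpa [mul_assoc] using h1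
    exact BGTwelve.not_isCyclic_sq hB.2.1 hB.2.2 (Subgroup.isCyclic_of_le hle)
  · rw [← BGSigma.map_conj_comp, hg]
    exact mem_normalizer_iff_map_conj_eq.mp (le_normalizer (sigmaCore_le N hn))

end Cfsg.Agent.BGSummary.Loc
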