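import Cfsg.Agent.BGSummary.NonTIShape
import Cfsg.Agent.BGSummary.TypeConv
import Cfsg.Agent.BGSummary.Inputs
import Cfsg.Agent.BGSummary.SupportPrimes
import Cfsg.Agent.S1350
import Cfsg.Agent.S1378

/-!
# The inputs of the classification by types, from the local structure
-/

set_option autoImplicit false
set_option linter.style.haveILetI false

namespace Cfsg.Agent.BGSummary

open Cfsg

universe u

variable {G : Type u} [Group G] [Finite G]

theorem TypeInputs.of_local (hG : IsMinSimpleOddOrder G) (h : LocalStructure G) : TypeInputs G where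
  sigma_hall := fun M hM => S1350.result hG M hM
  kappa_hall := h.kappa_hall
  decomp := h.decomp
  kappa_star := h.kappa_star
  fitting_core := fun M hM => Loc.fitting_core_of hG h hM
  fitting_eq := fun M hM => Loc.fitting_eq_of hG h hM
  fitting_ne := fun M hM K U hKU hne => Loc.fitting_ne_of hG h hM hKU hne
  complement_sylow := fun M hM K U hKU p hp P => Loc.complement_sylow_of hG h hM hKU hp P
  hat_abelian := fun M hM K U hKU => Loc.hat_abelian_of hG h hM hKU
  fpf_exponent := fun M hM K U hKU => Loc.fpf_exponent_of hG h hM hKU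
  complement_abelian := fun M hM K U hKU hK1 => Loc.complement_abelian_of hG h hM hKU hK1
  star_cyclic := fun M hM K U hKU hK1 => Loc.star_cyclic_of hG h hM hKU hK1
  derived := fun M hM K U hKU hK1 => Loc.derived_of hG h hM hKU hK1
  star := h.star
  star_inf := h.star_inf
  zhat_ti := h.zhat_ti
  fitting_ti := fun M hM K U hKU hK1 hU1 => Loc.fitting_ti_of hG h hM hKU hK1 hU1
  signalizer := h.signalizer
  sigma_prime_commute := h.sigma_prime_commute
  support_primes := fun M hM x hx hx1 hxM N hN hxN =>
    Loc.support_primes_of hG h hM hx hx1 hxM hN hxN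
  sigma_fusion := fun M hM H hH hH1 hHall => Loc.sigma_fusion_of hG h hM hH hH1 hHall
  fitting_sigma_prime := fun M hM => Loc.fitting_sigma_prime_of hG h hM
  typeP_nonti := fun M hM K U hKU hK1 g hg hX => Loc.typeP_nonti_of hG h hM hKU hK1 hg hX

theorem SummaryInputs.of_local (hG : IsMinSimpleOddOrder G) (h : LocalStructure G) :
    SummaryInputs G where
  sigma_hall := fun M hM => S1350.result hG M hM
  kappa_hall := h.kappa_hall
  decomp := h.decomp
  fitting_core := fun M hM => Loc.fitting_core_of hG h hM
  fitting_ne := fun M hM K U hKU hne => Loc.fitting_ne_of hG h hM hKU hne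
  complement_sylow := fun M hM K U hKU p hp P => Loc.complement_sylow_of hG h hM hKU hp P
  centralizer_uniq := fun M hM K U hKU X hXU hX hXc =>
    Loc.centralizer_unique_of hG h hM hKU hXU hX hXc
  derived := fun M hM K U hKU hK1 => Loc.derived_of hG h hM hKU hK1
  star := h.star
  star_inf := h.star_inf
  star_class := h.star_class
  zhat_ti := h.zhat_ti
  signalizer := h.signalizer
  frobenius := fun M hM x hx hx1 hxM N hN hxN hkN => Loc.frobenius_of hG h hM hx hx1 hxM hN hxN hkN
  sigma_partition := S1378.result hG
  typeI_conv := fun M hM K U hKU ht =>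
    have hK := BGSummary.typeI_conv hG (TypeInputs.of_local hG h) hM hKU ht
    ⟨hK, ne_bot_of_bot hG (TypeInputs.of_local hG h) hM hKU hK⟩
  typeP_conv := fun M hM K U hKU W₁ V W₂ hP =>
    BGSummary.typeP_conv hG (TypeInputs.of_local hG h) hM hKU hP
  typeII_iff := typeII_stmt hG (TypeInputs.of_local hG h)
  typeIII_IV_iff := typeIII_IV_stmt hG (TypeInputs.of_local hG h)
  typeV_iff := typeV_stmt hG (TypeInputs.of_local hG h)
  sigma_prime_commute := h.sigma_prime_commute
  star_structure := h.star_structure
  support_primes := fun M hM x hx hx1 hxM N hN hxN =>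
    Loc.support_primes_of hG h hM hx hx1 hxM hN hxN
  sigma_fusion := fun M hM H hH hH1 hHall => Loc.sigma_fusion_of hG h hM hH hH1 hHall

end Cfsg.Agent.BGSummary
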