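import Cfsg.Agent.BGSummary.NonTIShape
import Cfsg.Agent.BGSigma.Signalizer
import Cfsg.Agent.OddLocal44.NarrowAction

/-!
# The maximal subgroup over the centralizer of an element of `M_σ`

Tools for the statements S1376, S1435 and S1436: the data of BG 14.4 for the subgroup `N` over
`C(x)`, and the fact that the primes of `σ(N)` dividing `|M|` lie in `β(N)`.
-/

set_option autoImplicit false
set_option linter.unusedSectionVars false
set_option linter.style.haveILetI false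

namespace Cfsg.Agent.BGSummary.Support

open Cfsg Subgroup
open Cfsg.Agent.BGSigma (sigmaCore_le le_normalizer_sigmaCore isPiSub_sigmaCore localInputs)

universe u

variable {G : Type u} [Group G] [Finite G]

/-- An element of prime order `p` moving a narrow `s`-group of odd order has `p < s`. -/
theorem lt_of_acts_narrow (hodd : Odd (Nat.card G)) {R : Subgroup G} {s p : ℕ} [hs : Fact s.Prime]
    (hp : p.Prime) (hps : p ≠ s) (hR : IsPGroup s R) (hn : IsNarrow s R) {a : G}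
    (hao : orderOf a = p) (han : a ∈ normalizer (R : Set G))
    (hac : a ∉ centralizer (R : Set G)) : p < s := by
  have hR1 : R ≠ ⊥ := fun h0 => hac (mem_centralizer_iff.mpr fun y hy => by
    rw [h0, SetLike.mem_coe, mem_bot] at hy; simp [hy])
  have hs2 : s ≠ 2 := fun h0 => by
    have h2 : 2 ∣ Nat.card G :=
      h0 ▸ (BGSigma.dvd_card_of_ne_bot hR hR1).trans (card_subgroup_dvd_card R)
    exact absurd (even_iff_two_dvd.mpr h2) (Nat.not_even_iff_odd.mpr hodd)
  have h2 := hs.out.two_le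
  have hAc : Nat.card (zpowers a) = p := by rw [Nat.card_zpowers, hao]
  have hfaith : zpowers a ⊓ centralizer (R : Set G) = ⊥ := by
    refine eq_bot_of_card_eq _ ((Nat.dvd_prime hp).mp
      (hAc ▸ card_dvd_of_le inf_le_left) |>.resolve_right fun h1 => hac ?_)
    exact (eq_of_le_of_card_ge (inf_le_left (b := centralizer (R : Set G)))
      (h1.trans hAc.symm).ge).ge.trans inf_le_right (mem_zpowers a)
  by_cases hr : PRankLE s 2 R
  · by_cases hd : Nat.card (zpowers a) ∣ s * (s - 1)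
    · rw [hAc] at hd
      rcases hp.dvd_mul.mp hd with h | h
      · exact absurd ((Nat.prime_dvd_prime_iff_eq hp hs.out).mp h) hps
      · exact lt_of_le_of_lt (Nat.le_of_dvd (by omega) h) (by omega)
    · have h := OddLocal44.dvd_succ_of_rank_two hs2 hR hr (zpowers_le.mpr han)
        (hodd.of_dvd_nat (card_subgroup_dvd_card _)) hfaith (hAc.symm ▸ hp) hd
      rw [hAc] at h
      have := Nat.le_of_dvd (by omega) h
      omega
  · have h := OddLocal44.orderOf_dvd_sub_one hs2 hR hn hr (zpowers_le.mpr han) hfaith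
      (mem_zpowers a) (hao.symm ▸ (Nat.coprime_primes hp hs.out).mpr hps)
    rw [hao] at h
    exact lt_of_le_of_lt (Nat.le_of_dvd (by omega) h) (by omega)

/-- The subgroup `N` over `C(x)` for `x` in `M_σ` with `C(x) ⊄ M`. -/
structure Sig (M : Subgroup G) (x : G) (N : Subgroup G) : Prop where
  mem_sigma : x ∈ sigmaCore M
  ne_one : x ≠ 1
  not_le : ¬ centralizer ({x} : Set G) ≤ M
  coatom : IsCoatom N
  le : centralizer ({x} : Set G) ≤ N
  uniq : ∀ L : Subgroup G, IsCoatom L → centralizer ({x} : Set G) ≤ L → L = N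
  mem : x ∈ N
  compl : IsComplIn (M ⊓ N) (sigmaCore N) N
  nilp : Group.IsNilpotent (sigmaCore N)
  tau2 : ∀ p : ℕ, p.Prime → p ∣ orderOf x → p ∈ Cfsg.tau2 N

variable (hG : IsMinSimpleOddOrder G) {M : Subgroup G} (hM : IsCoatom M)
include hG hM

theorem Sig.of {x : G} (hx : x ∈ sigmaCore M) (hx1 : x ≠ 1)
    (hxM : ¬ centralizer ({x} : Set G) ≤ M) {N : Subgroup G} (hN : IsCoatom N)
    (hxN : centralizer ({x} : Set G) ≤ N) : Sig M x N := by
  obtain ⟨L, E, hL, hE, hME, -, hCL, hu, hxE, hnil, hτ, -⟩ :=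
    BGSigma.exists_support hG hM hx hx1 hxM
  obtain rfl := hu N hN hxN
  exact ⟨hx, hx1, hxM, hN, hxN, hu, hE.1 hxE, hME.symm ▸ hE, hnil, hτ⟩

theorem exists_sig {x : G} (hx : x ∈ sigmaCore M) (hx1 : x ≠ 1)
    (hxM : ¬ centralizer ({x} : Set G) ≤ M) : ∃ N : Subgroup G, Sig M x N := by
  obtain ⟨L, -, hL, -, -, -, hCL, -⟩ := BGSigma.exists_support hG hM hx hx1 hxM
  exact ⟨L, Sig.of hG hM hx hx1 hxM hL hCL⟩

/-- The `τ₂(N)`-plane in `M ⊓ N`; its prime lies in `σ(M)` and not in `β(M)`. -/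
theorem Sig.exists_plane {x : G} {N : Subgroup G} (d : Sig M x N) :
    ∃ (s : ℕ) (B : Subgroup G), s.Prime ∧ s ∈ Cfsg.tau2 N ∧ s ∈ sigma M ∧ s ∉ beta M ∧
      B ≤ M ⊓ N ∧ IsElementaryAbelian s B ∧ Nat.card B = s ^ 2 := by
  obtain ⟨s, hs, hd⟩ := Nat.exists_prime_and_dvd (mt orderOf_eq_one_iff.mp d.ne_one)
  haveI := Fact.mk hs
  have h2 := d.tau2 s hs hd
  obtain ⟨B, hB⟩ := BGTwelve.exists_sq_le_compl hG d.coatom d.compl h2
  have hni := (BGSigma.not_ideal_of_rank_two hG (BGSigma.uniquenessTheorem hG) d.coatom h2.2.2.1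
    h2.2.2.2).1
  exact ⟨s, B, hs, h2,
    isPiSub_sigmaCore M s hs (hd.trans (Subgroup.orderOf_dvd_natCard _ d.mem_sigma)),
    fun hb => hni hb.2, hB⟩

/-- `N` is not a conjugate of `M`. -/
theorem Sig.ne_conj {x : G} {N : Subgroup G} (d : Sig M x N) (g : G) :
    N ≠ M.map (MulAut.conj g).toMonoidHom := fun h0 => by
  obtain ⟨s, B, -, h2, hsM, -⟩ := d.exists_plane hG hM
  exact h2.2.1 (h0 ▸ BGSigma.sigma_conj_iff.mpr hsM)

theorem Sig.ne {x : G} {N : Subgroup G} (d : Sig M x N) : N ≠ M :=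
  fun h0 => d.ne_conj hG hM 1 (by rw [BGSigma.map_conj_one, h0])

theorem Sig.not_sigma {x : G} {N : Subgroup G} (d : Sig M x N) {p : ℕ} (hp : p ∈ sigma N) :
    p ∉ sigma M := fun h0 => by
  obtain ⟨g, hg⟩ := BGSigma.conj_of_sigma hG (localInputs hG) (BGSigma.twelveInputs hG) hM
    d.coatom h0 hp
  exact d.ne_conj hG hM g hg

variable (h : LocalStructure G)
include h

/-- A prime of `σ(N)` dividing `|M|` lies in `β(N)`. -/
theorem Sig.mem_beta {x : G} {N : Subgroup G} (d : Sig M x N) {p : ℕ} (hp : p ∈ sigma N)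
    (hpM : p ∣ Nat.card M) : p ∈ beta N := by
  by_contra hβN
  have hI := localInputs hG
  have hU := BGSigma.uniquenessTheorem hG
  haveI := Fact.mk hp.1
  obtain ⟨s, B, hs, h2, hsM, hsβ, hBE, hBe, hBc⟩ := d.exists_plane hG hM
  haveI := Fact.mk hs
  have hsp : s ≠ p := fun h0 => h2.2.1 (h0 ▸ hp)
  have hpβ : p ∉ beta M := fun hb =>
    d.not_sigma hG hM hp (BGSigma.mem_sigma_of_mem_alpha hG hU hM hb.1)
  have hBM : B ≤ M := hBE.trans inf_le_left
  have hBN : B ≤ N := hBE.trans inf_le_right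
  have hBp : IsPGroup s B := IsPGroup.of_card hBc
  obtain ⟨-, ⟨hCB, -⟩, -⟩ := BGTwelve.tau_two_compl_stmt hG hI d.coatom d.compl h2 ⟨hBE, hBe, hBc⟩
  -- an element of order `p` moving a Sylow `s`-subgroup of `M`
  obtain ⟨P, hPM, hPc⟩ := BGSigma.exists_order_prime_line hp.1 hpM
  obtain ⟨Q, hQM, hPQ⟩ := BGSigma.exists_invariant_sylow_derived hG hI hM hsp hpβ hpM hsM hPM
    (BGSigma.isPGroup_of_prime_card hPc)
  obtain ⟨T, hBT⟩ := (hBp.comap_subtype (K := M)).exists_le_sylow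
  set T₀ := (T : Subgroup M).map M.subtype with hT₀
  have hBT₀ : B ≤ T₀ := fun b hb => ⟨⟨b, hBM hb⟩, hBT hb, rfl⟩
  obtain ⟨m, hm, hmQ⟩ := BGTwelve.exists_conj_sylow (L := M) (S := T₀) (T := (Q : Subgroup G))
    (T.isPGroup'.map _) Q.isPGroup' (map_subtype_le _) hQM (by
      rw [Subgroup.relIndex, hT₀, subgroupOf, comap_map_eq_self_of_injective M.subtype_injective]
      exact T.not_dvd_index)
    (fun hd => Q.not_dvd_index (hd.trans (relIndex_dvd_index_of_le hQM)))
  obtain ⟨a₀, ha₀, ha₀o⟩ : ∃ a₀ ∈ P, orderOf a₀ = p := by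
    obtain ⟨⟨a, ha⟩, hao⟩ := exists_prime_orderOf_dvd_card' (G := P) p (by rw [hPc])
    exact ⟨a, ha, by rwa [Subgroup.orderOf_mk] at hao⟩
  set a := m * a₀ * m⁻¹ with ha
  have hao : orderOf a = p := by rw [ha, Loc.orderOf_conj, ha₀o]
  have haM : a ∈ M := mul_mem (mul_mem hm (hPM ha₀)) (inv_mem hm)
  have hanT : a ∈ normalizer (T₀ : Set G) := by
    rw [← hmQ]
    exact le_normalizer_map _ ⟨a₀, hPQ ha₀, rfl⟩
  have haCT : a ∉ centralizer (T₀ : Set G) := fun hc => by
    have haN : a ∈ N := (hCB (centralizer_le (SetLike.coe_subset_coe.mpr hBT₀) hc)).1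
    exact BGTwelve.not_mem_sigma_of_dvd hG d.coatom d.compl hp.1
      (hao ▸ Subgroup.orderOf_dvd_natCard _ (⟨haM, haN⟩ : a ∈ M ⊓ N)) hp
  have hTn : IsNarrow s T₀ := BGSigma.isNarrow_of_equiv
    ((T : Subgroup M).equivMapOfInjective M.subtype M.subtype_injective)
    (BGSigma.isNarrow_of_not_mem_beta hG hU hI.plength hI.narrow hI.narrowSylow hM
      (BGSigma.ne_two_of_dvd hG (H := M) hsM.2.1) hsβ T)
  have hlt : p < s := lt_of_acts_narrow hG.1 hp.1 hsp.symm (T.isPGroup'.map _) hTn hao hanT haCT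
  -- an element of order `s` moving a Sylow `p`-subgroup of `N`
  obtain ⟨S, hS⟩ := Loc.exists_sylow_eq_core hG h d.coatom d.nilp (r := p) hp
  set C := BGUniq.core p N with hC
  have hCσ : C ≤ sigmaCore N := Loc.core_le_sigma hG d.coatom hp
  have hC1 : C ≠ ⊥ := fun h0 => S.ne_bot_of_dvd_card hp.2.1
    ((map_eq_bot_iff_of_injective _ N.subtype_injective).mp (hS.trans h0))
  obtain ⟨-, -, -, hfix, -⟩ := BGSigma.tau_two_stmt hG hI N d.coatom h2 B ⟨hBN, hBe, hBc⟩
  obtain ⟨b, hb, hbC⟩ : ∃ b ∈ B, b ∉ centralizer (C : Set G) := by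
    by_contra hno
    push Not at hno
    exact hC1 (le_bot_iff.mp ((le_inf hCσ (le_centralizer_iff.mp hno)).trans hfix.le))
  have hbo : orderOf b = s := orderOf_eq_prime (hBe.2 b hb) fun h0 => hbC (h0 ▸ one_mem _)
  have hCn : IsNarrow p C := hS ▸ BGSigma.isNarrow_of_equiv
    ((S : Subgroup N).equivMapOfInjective N.subtype N.subtype_injective)
    (BGSigma.isNarrow_of_not_mem_beta hG hU hI.plength hI.narrow hI.narrowSylow d.coatom
      (BGSigma.ne_two_of_dvd hG (H := N) hp.2.1) hβN S)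
  exact absurd (lt_of_acts_narrow hG.1 hs hsp (BGUniq.isPGroup_core p N) hCn hbo
    (BGUniq.le_normalizer_core p N (hBN hb)) hbC) hlt.not_gt

/-- A prime of `σ(N)` dividing `|M|` is outside `τ₂(M)`. -/
theorem Sig.not_tau2 {x : G} {N : Subgroup G} (d : Sig M x N) {p : ℕ} (hp : p ∈ sigma N)
    (hpM : p ∣ Nat.card M) : p ∉ Cfsg.tau2 M := fun h2 => by
  haveI := Fact.mk hp.1
  exact (BGSigma.not_ideal_of_rank_two hG (BGSigma.uniquenessTheorem hG) hM h2.2.2.1 h2.2.2.2).1
    (d.mem_beta hG hM h hp hpM).2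

end Cfsg.Agent.BGSummary.Support
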