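import Cfsg.Agent.BGSummary.HatSupport
import Cfsg.Agent.S1446
import Cfsg.Agent.S1408
import Cfsg.Agent.BGSigma.Beta
import Cfsg.Agent.BGSigma.Signalizer

/-!
# Maximal subgroups with `κ(M)` nonempty and `U ≠ 1`

The statements S1365, S1372 and S1373, from the local structure.
-/

set_option autoImplicit false
set_option linter.unusedSectionVars false
set_option linter.style.haveILetI false

namespace Cfsg.Agent.BGSummary.Loc

open Cfsg Subgroup
open scoped commutatorElement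
open Cfsg.Agent.BGSigma (sigmaCore_le le_normalizer_sigmaCore isPiSub_sigmaCore localInputs)

universe u

variable {G : Type u} [Group G] [Finite G] (hG : IsMinSimpleOddOrder G) (h : LocalStructure G)
  {M : Subgroup G} (hM : IsCoatom M)
include hG h hM

theorem sigmaCore_le_derived : sigmaCore M ≤ ⁅M, M⁆ :=
  (BGSigma.sigmaCore_hall hG (BGSigma.uniquenessTheorem hG) BGSigma.smallRankFrattini
    BGSigma.fittingRankTwoDerived hM).2.2

theorem sigmaCore_ne_bot : sigmaCore M ≠ ⊥ :=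
  BGSigma.sigmaCore_ne_bot hG (BGSigma.uniquenessTheorem hG) BGSigma.smallRankFrattini
    BGSigma.fittingRankTwoDerived BGSigma.rankTwoLargestPrime hM

theorem normalizer_sigmaCore : normalizer (sigmaCore M : Set G) = M :=
  BGSigma.normalizer_eq_coatom hG hM (sigmaCore_le M) (sigmaCore_ne_bot hG h hM)
    (le_normalizer_sigmaCore M)

theorem sigmaCore_le_fittingOf (hnil : Group.IsNilpotent (sigmaCore M)) :
    sigmaCore M ≤ fittingOf M := by
  have hn : ((sigmaCore M).subgroupOf M).Normal :=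
    (normal_subgroupOf_iff_le_normalizer (sigmaCore_le M)).mpr (le_normalizer_sigmaCore M)
  have := Subgroup.map_mono (f := M.subtype) (Fitting.le_fitting hn
    (Group.nilpotent_of_mulEquiv (subgroupOfEquivOfLe (sigmaCore_le M)).symm))
  rwa [map_subgroupOf_eq_of_le (sigmaCore_le M)] at this

section

variable {K U : Subgroup G} (hKU : IsSigmaDecomposition M K U)
include hKU

/-- `U = [U, K]` when `K ≠ 1`. -/
theorem commutator_U (hK : K ≠ ⊥) : ⁅U, K⁆ = U := by
  obtain ⟨⟨k, hk⟩, hk'⟩ := (Subgroup.ne_bot_iff_exists_ne_one).mp hK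
  have hC : U ⊓ centralizer (K : Set G) = ⊥ := le_bot_iff.mp ((inf_le_inf_left U
    (centralizer_le (Set.singleton_subset_iff.mpr hk))).trans
    (h.fpf M hM K U hKU k hk fun h0 => hk' (Subtype.ext h0)).le)
  have h1 := Coprime.commutator_sup_centralizer K U hKU.normal
    (coprime_U_K hG hM hKU).symm
    (Or.inr (Coprime.solvable_of_le hKU.compl.1 (BGSigma.coatom_isSolvable hG hM)))
  rwa [hC, sup_bot_eq] at h1

theorem U_le_derived (hK : K ≠ ⊥) : U ≤ ⁅M, M⁆ :=
  (commutator_U hG h hM hKU hK).symm.le.trans (commutator_mono hKU.compl.1 hKU.hall.1)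

theorem derived_eq (hK : K ≠ ⊥) : ⁅M, M⁆ = U ⊔ sigmaCore M := by
  refine le_antisymm ?_ (sup_le (U_le_derived hG h hM hKU hK) (sigmaCore_le_derived hG h hM))
  set N := U ⊔ sigmaCore M with hN
  have hNM : N ≤ M := sup_le hKU.compl.1 (sigmaCore_le M)
  haveI hn : (N.subgroupOf M).Normal := (normal_subgroupOf_iff_le_normalizer hNM).mpr
    ((h.decomp M hM K hKU.cyclic hKU.hall).2 U hKU)
  refine commutator_le.mpr fun a ha b hb => ?_
  have hmem : ∀ x : M, ∃ k ∈ K, (x : G) * k⁻¹ ∈ N := by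
    intro x
    obtain ⟨u, hu, s, hs, hx⟩ := hKU.compl.2.2.2 x x.2
    rw [sup_comm] at hs
    obtain ⟨y, hy, k, hk, rfl⟩ := Coprime.exists_mul_of_mem_sup
      (hKU.hall.1.trans (le_normalizer_sigmaCore M)) hs
    refine ⟨k, hk, ?_⟩
    rw [hx, show u * (y * k) * k⁻¹ = u * y by group]
    exact mul_mem (mem_sup_left hu) (mem_sup_right hy)
  have hq : ∀ x : M, ∃ k : K, QuotientGroup.mk' (N.subgroupOf M) x =
      QuotientGroup.mk' (N.subgroupOf M) ⟨k, hKU.hall.1 k.2⟩ := by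
    intro x
    obtain ⟨k, hk, hxk⟩ := hmem x
    refine ⟨⟨k, hk⟩, ?_⟩
    rw [← mul_inv_eq_one, ← map_inv, ← map_mul, QuotientGroup.mk'_apply, QuotientGroup.eq_one_iff,
      mem_subgroupOf]
    exact hxk
  have key : QuotientGroup.mk' (N.subgroupOf M) ⁅(⟨a, ha⟩ : M), (⟨b, hb⟩ : M)⁆ = 1 := by
    obtain ⟨k, hk⟩ := hq ⟨a, ha⟩
    obtain ⟨l, hl⟩ := hq ⟨b, hb⟩
    haveI := hKU.cyclic
    letI := IsCyclic.commGroup (α := K)
    rw [map_commutatorElement, hk, hl, ← map_commutatorElement]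
    have h1 : (k : G) * l = l * k := congrArg Subtype.val (mul_comm k l)
    have h2 : ⁅(⟨k, hKU.hall.1 k.2⟩ : M), (⟨l, hKU.hall.1 l.2⟩ : M)⁆ = 1 :=
      commutatorElement_eq_one_iff_mul_comm.mpr (Subtype.ext h1)
    rw [h2, map_one]
  have := mem_subgroupOf.mp ((QuotientGroup.eq_one_iff (N := N.subgroupOf M) _).mp key)
  simpa [commutatorElement_def] using this

theorem star_le_derived_two (hK : K ≠ ⊥) :
    sigmaCore M ⊓ centralizer (K : Set G) ≤ ⁅⁅M, M⁆, ⁅M, M⁆⁆ := by
  set S := sigmaCore M with hS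
  set D := ⁅S, S⁆ ⊔ ⁅S, U⁆ with hD
  have hUS : U ≤ normalizer (S : Set G) := hKU.compl.1.trans (le_normalizer_sigmaCore M)
  have hES : U ⊔ K ≤ normalizer (S : Set G) :=
    (sup_le hKU.compl.1 hKU.hall.1).trans (le_normalizer_sigmaCore M)
  have hSS : ⁅S, S⁆ ≤ S := Coprime.commutator_le_of_le_normalizer le_normalizer
  have hDS : D ≤ S := sup_le hSS (Coprime.commutator_le_of_le_normalizer hUS)
  have hEn : U ⊔ K ≤ normalizer (D : Set G) := by
    refine Coprime.le_normalizer_sup ?_ ?_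
    · exact Coprime.le_normalizer_of_conj_mem fun e he x hx => by
        have := Subgroup.mem_map_of_mem (MulAut.conj e).toMonoidHom hx
        rw [map_commutator, BGSigma.map_conj_eq_self (hES he)] at this
        exact this
    · exact Coprime.le_normalizer_of_conj_mem fun e he x hx => by
        have := Subgroup.mem_map_of_mem (MulAut.conj e).toMonoidHom hx
        rw [map_commutator, BGSigma.map_conj_eq_self (hES he),
          BGSigma.map_conj_eq_self (U_normal_in_sup hKU he)] at this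
        exact this
  have hDd : D ≤ ⁅⁅M, M⁆, ⁅M, M⁆⁆ := sup_le
    (commutator_mono (sigmaCore_le_derived hG h hM) (sigmaCore_le_derived hG h hM))
    (commutator_mono (sigmaCore_le_derived hG h hM) (U_le_derived hG h hM hKU hK))
  intro x hx
  have hxD : ∀ e ∈ U ⊔ K, x⁻¹ * (e * x * e⁻¹) ∈ D := by
    intro e he
    obtain ⟨u, hu, k, hk, rfl⟩ := Coprime.exists_mul_of_mem_sup hKU.normal he
    rw [show x⁻¹ * (u * k * x * (u * k)⁻¹) = x⁻¹ * (u * (k * x * k⁻¹) * u⁻¹) by group,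
      mem_centralizer_iff.mp hx.2 k hk, mul_inv_cancel_right]
    refine mem_sup_right ?_
    have := commutator_mem_commutator (inv_mem hx.1) hu
    simpa [commutatorElement_def, mul_assoc] using this
  obtain ⟨n, hn, hc⟩ := Coprime.exists_fixed_in_coset (U ⊔ K) D hEn
    ((coprime_sup_sigma hG hM hKU).coprime_dvd_right (card_dvd_of_le hDS))
    (Or.inr (Coprime.solvable_of_le (hDS.trans (sigmaCore_le M))
      (BGSigma.coatom_isSolvable hG hM))) x hxD
  have := (h.sigma_meet M hM _ (compl_sup hKU)).1 ⟨mul_mem hx.1 (hDS hn), hc⟩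
  have hx' : x * n ∈ D := mem_sup_left this
  exact hDd ((D.mul_mem_cancel_right hn).mp hx')

variable (hK1 : K ≠ ⊥) (hU1 : U ≠ ⊥)
include hK1 hU1

theorem sigma_fixed_U : sigmaCore M ⊓ centralizer (U : Set G) = ⊥ ∧
    Group.IsNilpotent (sigmaCore M) := by
  obtain ⟨r, hr, hrd⟩ := Nat.exists_prime_and_dvd (mt card_eq_one.mp hU1)
  haveI := Fact.mk hr
  obtain ⟨hrs, hrk⟩ := not_mem_of_dvd_U hG hM hKU hr hrd
  have hrM : r ∣ Nat.card M := hrd.trans (card_dvd_of_le hKU.compl.1)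
  obtain ⟨P, hPU⟩ := exists_sylow_U hG h hM hKU (p := r) hrd
  obtain ⟨-, hf, hnil⟩ := h.p1_context M hM (fun hP1 => hrk (hP1 r hr hrM hrs)) r hrM
    (by simp [hrs, hrk]) P
  exact ⟨le_bot_iff.mp ((inf_le_inf_left _ (centralizer_le ((closure_le _).mpr
    fun x hx => hPU hx.1))).trans hf.le), hnil⟩

theorem prime_K : (Nat.card K).Prime := by
  obtain ⟨hfix, hnil⟩ := sigma_fixed_U hG h hM hKU hK1 hU1
  refine (S1446.result U K (sigmaCore M) hU1 hK1 (inf_U_K hKU) hKU.normal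
    (fun k hk hk1 => h.fpf M hM K U hKU k hk hk1)
    (Coprime.solvable_of_le (sup_le hKU.compl.1 hKU.hall.1) (BGSigma.coatom_isSolvable hG hM))
    (BGSigma.odd_card_subgroup hG _) (sigmaCore_ne_bot hG h hM) hnil
    (hKU.compl.1.trans (le_normalizer_sigmaCore M)) (hKU.hall.1.trans (le_normalizer_sigmaCore M))
    (coprime_sup_sigma hG hM hKU) hfix (h.kappa_context M hM K hKU.hall hK1).1).1

theorem mem_beta_of_sigma {q : ℕ} (hq : q ∈ sigma M) : q ∈ beta M := by
  by_contra hβ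
  haveI := Fact.mk hq.1
  have hI := localInputs hG
  obtain ⟨hfix, hnil⟩ := sigma_fixed_U hG h hM hKU hK1 hU1
  let S : Sylow q M := default
  set L := (S : Subgroup M).map M.subtype with hL
  have hLM : L ≤ M := map_subtype_le _
  have hLp : IsPGroup q L := S.isPGroup'.map _
  have hLσ : L ≤ sigmaCore M := fun x hx => by
    obtain ⟨j, hj⟩ := hLp ⟨x, hx⟩
    obtain ⟨i, -, hi⟩ := (Nat.dvd_prime_pow hq.1).mp
      (orderOf_dvd_of_pow_eq_one (congrArg Subtype.val hj : x ^ q ^ j = 1))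
    exact TypeCore.mem_sigmaCore_of_prime_pow (hall hG hM) (hLM hx) hq.1 hq hi
  have hLc : L ≤ BGUniq.core q M := fun x hx => by
    obtain ⟨j, hj⟩ := hLp ⟨x, hx⟩
    obtain ⟨i, -, hi⟩ := (Nat.dvd_prime_pow hq.1).mp
      (orderOf_dvd_of_pow_eq_one (congrArg Subtype.val hj : x ^ q ^ j = 1))
    exact BGUniq.mem_core_of_mem_fittingOf (sigmaCore_le_fittingOf hG h hM hnil (hLσ hx)) hi
  have hcL : BGUniq.core q M ≤ L := fun x hx => by
    have heq := S.is_maximal' ((BGUniq.isPGroup_core q M).comap_subtype (K := M)) (fun y hy =>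
      show (y : G) ∈ BGUniq.core q M from hLc (mem_map_of_mem M.subtype hy))
    exact ⟨⟨x, BGUniq.core_le q M hx⟩, heq.le hx, rfl⟩
  have hEL : U ⊔ K ≤ normalizer (L : Set G) := by
    rw [le_antisymm hLc hcL]
    exact (sup_le hKU.compl.1 hKU.hall.1).trans (BGUniq.le_normalizer_core q M)
  have hq2 : q ≠ 2 := BGSigma.ne_two_of_dvd hG (H := M) hq.2.1
  have hnar : IsNarrow q L := BGSigma.isNarrow_of_equiv
    ((S : Subgroup M).equivMapOfInjective M.subtype M.subtype_injective)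
    (BGSigma.isNarrow_of_not_mem_beta hG (BGSigma.uniquenessTheorem hG) hI.plength hI.narrow
      hI.narrowSylow hM hq2 hβ S)
  have hUL : U ≤ centralizer (L : Set G) := by
    intro u hu
    refine BGSigma.mem_centralizer_of_narrow hI.narrowAut hq2 hLp hnar hEL
      (Coprime.solvable_of_le (sup_le hKU.compl.1 hKU.hall.1) (BGSigma.coatom_isSolvable hG hM))
      hG.1 ?_ ?_
    · exact commutator_mono le_sup_left le_sup_right ((commutator_U hG h hM hKU hK1).ge hu)
    · refine ((Nat.Prime.coprime_iff_not_dvd hq.1).mpr fun hd => ?_).symm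
      exact (not_mem_of_dvd_U hG hM hKU hq.1 (hd.trans (Subgroup.orderOf_dvd_natCard U hu))).1 hq
  have hL1 : L ≠ ⊥ := fun h0 => S.ne_bot_of_dvd_card hq.2.1
    ((map_eq_bot_iff_of_injective _ M.subtype_injective).mp h0)
  exact hL1 (le_bot_iff.mp ((le_inf hLσ (le_centralizer_iff.mp hUL)).trans hfix.le))

theorem centralizer_le_of_sigma {x : G} (hx : x ∈ sigmaCore M) (hx1 : x ≠ 1) :
    centralizer ({x} : Set G) ≤ M := by
  by_contra hxM
  obtain ⟨N, -, hN, -, -, -, -, -, -, -, hτ, -⟩ := BGSigma.exists_support hG hM hx hx1 hxM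
  obtain ⟨r, hr, hrd⟩ := Nat.exists_prime_and_dvd (mt orderOf_eq_one_iff.mp hx1)
  have hr2 : r ∈ tau2 N := hτ r hr hrd
  haveI := Fact.mk hr
  have hni := (S1408.result hG N hN r hr2.2.1 hr2.2.2.1 hr2.2.2.2).1
  exact hni (mem_beta_of_sigma hG h hM hKU hK1 hU1
    (isPiSub_sigmaCore M r hr (hrd.trans (Subgroup.orderOf_dvd_natCard _ hx)))).2

theorem fitting_ti_of : (Nat.card K).Prime ∧ IsTISubset (fittingOf M : Set G) ∧
    sigmaCore M ≤ fittingOf M := by
  obtain ⟨hfix, hnil⟩ := sigma_fixed_U hG h hM hKU hK1 hU1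
  have hle := sigmaCore_le_fittingOf hG h hM hnil
  refine ⟨prime_K hG h hM hKU hK1 hU1, fun g hg x hx hgx => by_contra fun hx1 => hg ?_, hle⟩
  refine BGUniq.le_normalizer_fittingOf M ?_
  have hFM := BGUniq.fittingOf_le M
  by_cases hxσ : x ∈ sigmaCore M
  · have hgσ : g * x * g⁻¹ ∈ sigmaCore M := TypeCore.mem_sigmaCore (hall hG hM) (hFM hgx)
      fun p hp hd => isPiSub_sigmaCore M p hp
        ((orderOf_conj g x ▸ hd).trans (Subgroup.orderOf_dvd_natCard _ hxσ))
    obtain ⟨-, R, -, hR, huniq⟩ := h.sigma_supports M hM x hxσ hx1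
    have hC := centralizer_le_of_sigma hG h hM hKU hK1 hU1 hxσ hx1
    have hR1 : R = ⊥ := le_bot_iff.mp ((le_inf (le_inf (hR.2.1.trans hC) hR.2.1) le_rfl).trans
      hR.2.2.1.le)
    obtain ⟨r, ⟨hr, hrM⟩, -⟩ := huniq g⁻¹ (BGSigma.mem_map_conj.mpr
      (by simpa using sigmaCore_le M hgσ))
    rw [hR1, mem_bot] at hr
    subst hr
    rw [BGSigma.map_conj_one] at hrM
    have hgn : g⁻¹ ∈ normalizer (M : Set G) := mem_normalizer_iff_map_conj_eq.mpr hrM.symm
    rw [BGSigma.coatom_self_normalizing hG hM] at hgn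
    exact inv_mem_iff.mp hgn
  · obtain ⟨p, k, hp, hps, hxo⟩ : ∃ p k, p.Prime ∧ p ∉ sigma M ∧ orderOf (x ^ k) = p := by
      obtain ⟨p, hp, hd, hps⟩ : ∃ p, p.Prime ∧ p ∣ orderOf x ∧ p ∉ sigma M := by
        by_contra hno
        exact hxσ (TypeCore.mem_sigmaCore (hall hG hM) (hFM hx) fun p hp hd =>
          by_contra fun hs => hno ⟨p, hp, hd, hs⟩)
      obtain ⟨k, hk⟩ := hd
      have hk0 : k ≠ 0 := fun h0 => by rw [h0, mul_zero] at hk; exact (orderOf_pos x).ne' hk
      exact ⟨p, k, hp, hps, by rw [orderOf_pow_of_dvd hk0 ⟨p, by rw [hk, mul_comm]⟩, hk,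
        Nat.mul_div_cancel _ (Nat.pos_of_ne_zero hk0)]⟩
    haveI := Fact.mk hp
    obtain ⟨-, hτ, -⟩ := fitting_sigma_prime_of hG h hM
    set Y := piCoreOf {q | q.Prime ∧ q ∉ sigma M} (fittingOf M) with hY
    have hcY : BGUniq.core p M ≤ Y := BGSigma.le_piCoreOf (BGUniq.core_le_fittingOf p M)
      (hFM.trans (BGUniq.le_normalizer_core p M)) fun q hq hd => by
        obtain ⟨n, hn⟩ := (BGUniq.isPGroup_core p M).exists_card_eq
        rw [hn] at hd
        exact ⟨hq, (Nat.prime_dvd_prime_iff_eq hq hp).mp (hq.dvd_of_dvd_pow hd) ▸ hps⟩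
    obtain ⟨⟨y, hy⟩, hy'⟩ := (Subgroup.ne_bot_iff_exists_ne_one).mp (sigmaCore_ne_bot hG h hM)
    have hy1 : y ≠ 1 := fun h0 => hy' (Subtype.ext h0)
    have key : ∀ z ∈ fittingOf M, orderOf z = p →
        centralizer ({z} : Set G) ≤ M ∧
          ∀ L : Subgroup G, IsCoatom L → centralizer ({z} : Set G) ≤ L → L = M := by
      intro z hz hzo
      have hzY : z ∈ Y := hcY (BGUniq.mem_core_of_mem_fittingOf hz (j := 1) (by rw [hzo, pow_one]))
      refine (h.sigma_prime M hM _ (compl_sup hKU)).2.2.2 z (hFM hz)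
        (fun h0 => by rw [h0, orderOf_one] at hzo; exact hp.ne_one hzo.symm)
        (fun q hq hd => hτ q hq (hd.trans (Subgroup.orderOf_dvd_natCard _ hzY)))
        ⟨hFM hz, y, hy, hy1, ?_⟩
      refine BGUniq.mul_comm_of_normalized_coprime (BGUniq.core_le p M) (sigmaCore_le M)
        (BGUniq.le_normalizer_core p M) (le_normalizer_sigmaCore M) ?_
        (BGUniq.mem_core_of_mem_fittingOf hz (j := 1) (by rw [hzo, pow_one])) hy
      exact Nat.coprime_of_dvd fun q hq h1 h2 =>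
        (BGSigma.isPiSub_piCoreOf _ q hq (h1.trans (card_dvd_of_le hcY))).2
          (isPiSub_sigmaCore M q hq h2)
    obtain ⟨h1, -⟩ := key _ (pow_mem hx k) hxo
    obtain ⟨-, h2⟩ := key _ (pow_mem hgx k) (by rw [conj_pow, orderOf_conj, hxo])
    have := h2 _ (BGSigma.isCoatom_map_conj hM g) ?_
    · have hgn : g ∈ normalizer (M : Set G) := mem_normalizer_iff_map_conj_eq.mpr this
      rwa [BGSigma.coatom_self_normalizing hG hM] at hgn
    · intro c hc
      refine BGSigma.mem_map_conj.mpr (h1 ?_)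
      rw [conj_pow] at hc
      have := (BGTwelve.conj_mem_centralizer_iff (m := g) (x := x ^ k) (y := g⁻¹ * c * g)).mp
        (by simpa [mul_assoc] using hc)
      simpa [mul_assoc] using this

end

theorem star_prime_of {K U : Subgroup G} (hKU : IsSigmaDecomposition M K U) (hK1 : K ≠ ⊥)
    (hU : U = ⊥) : (Nat.card ↥(sigmaCore M ⊓ centralizer (K : Set G))).Prime := by
  obtain ⟨Ms, ⟨hMs, hKst, hKstH⟩, -⟩ := h.star M hM K U hKU hK1
  obtain ⟨U', hKU'⟩ := (h.decomp Ms hMs _ ((h.kappa_hall Ms hMs).2 _ hKstH) hKstH).1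
  refine prime_K hG h hMs hKU' (h.kappa_star M hM K hKU.cyclic hKU.hall).1 ?_
  exact ((h.star_class M hM K U hKU hK1 Ms hMs hKst hKstH).1.resolve_left fun h0 => h0 hU) U' hKU'

end Cfsg.Agent.BGSummary.Loc
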