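import Cfsg.Agent.BGSummary.Inputs
import Cfsg.Agent.BGSigma.Basic
import Cfsg.Agent.BGSigma.PiCore
import Cfsg.Agent.BGUniq.FittingHall
import Cfsg.Agent.Lib.Coprime.Action

/-!
Consequences of the standard factorisation `M = K U M_σ` used in the summary theorems.
-/

set_option autoImplicit false

namespace Cfsg.Agent.BGSummary

open Cfsg
open Cfsg.Agent.BGSigma (sigmaCore_le le_normalizer_sigmaCore isPiSub_sigmaCore)

universe u

variable {G : Type u} [Group G] [Finite G] (hG : IsMinSimpleOddOrder G) (h : SummaryInputs G)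

omit [Finite G] in
theorem isComplIn_symm {A B M : Subgroup G} (hAB : IsComplIn A B M) : IsComplIn B A M := by
  obtain ⟨h1, h2, h3, h4⟩ := hAB
  refine ⟨h2, h1, inf_comm A B ▸ h3, fun m hm => ?_⟩
  obtain ⟨a, ha, b, hb, hab⟩ := h4 m⁻¹ (inv_mem hm)
  exact ⟨b⁻¹, inv_mem hb, a⁻¹, inv_mem ha, by rw [← mul_inv_rev, ← hab, inv_inv]⟩

omit [Finite G] in
theorem isComplIn_sup {A B M : Subgroup G} (hAB : IsComplIn A B M) : A ⊔ B = M := by
  obtain ⟨h1, h2, -, h4⟩ := hAB
  refine le_antisymm (sup_le h1 h2) fun m hm => ?_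
  obtain ⟨a, ha, b, hb, rfl⟩ := h4 m hm
  exact Subgroup.mul_mem_sup ha hb

omit [Finite G] in
theorem conj_mem_sigmaCore {M : Subgroup G} {m y : G} (hm : m ∈ M) (hy : y ∈ sigmaCore M) :
    m * y * m⁻¹ ∈ sigmaCore M :=
  (Subgroup.mem_normalizer_iff.mp (le_normalizer_sigmaCore M hm) y).mp hy

omit [Finite G] in
theorem conj_mem_centralizer_singleton {a x m : G}
    (ha : a ∈ Subgroup.centralizer ({x} : Set G)) :
    m * a * m⁻¹ ∈ Subgroup.centralizer ({m * x * m⁻¹} : Set G) := by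
  rw [Subgroup.mem_centralizer_singleton_iff] at ha ⊢
  calc m * a * m⁻¹ * (m * x * m⁻¹) = m * (a * x) * m⁻¹ := by group
    _ = m * (x * a) * m⁻¹ := by rw [ha]
    _ = m * x * m⁻¹ * (m * a * m⁻¹) := by group

include h

theorem exists_decomp {M : Subgroup G} (hM : IsCoatom M) :
    ∃ K U : Subgroup G, IsSigmaDecomposition M K U := by
  obtain ⟨⟨K, hK⟩, hc⟩ := h.kappa_hall M hM
  obtain ⟨U, hU⟩ := (h.decomp M hM K (hc K hK) hK).1
  exact ⟨K, U, hU⟩

omit h

theorem eq_bot_iff_kappa {M K : Subgroup G} (hK : IsPiHallOf (kappa M) K M) :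
    K = ⊥ ↔ kappa M = ∅ := by
  constructor
  · rintro rfl
    refine Set.eq_empty_of_forall_notMem fun p hp => hK.2.2 p hp.1 hp ?_
    rw [Subgroup.relIndex_bot_left]
    exact hp.2.1
  · intro he
    refine Subgroup.eq_bot_of_card_eq _ (Nat.eq_one_iff_not_exists_prime_dvd.mpr fun p hp hd => ?_)
    have := hK.2.1 p hp hd
    rw [he] at this
    exact this

include h

theorem le_sigmaCore_of_sigma {M : Subgroup G} (hM : IsCoatom M) {x : G} (hx : x ∈ M)
    (hσ : ∀ p : ℕ, p.Prime → p ∣ orderOf x → p ∈ sigma M) : x ∈ sigmaCore M := by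
  have hn : ((sigmaCore M).subgroupOf M).Normal :=
    (Subgroup.normal_subgroupOf_iff_le_normalizer (sigmaCore_le M)).mpr (le_normalizer_sigmaCore M)
  refine BGUniq.mem_of_pow_mem_of_coprime (n := orderOf x)
    (m := ((sigmaCore M).subgroupOf M).index) (by rw [pow_orderOf_eq_one]; exact one_mem _)
    (Subgroup.pow_index_mem ((sigmaCore M).subgroupOf M) ⟨x, hx⟩) ?_
  exact Nat.coprime_of_dvd fun p hp hd hd' => (h.sigma_hall M hM).1.2.2 p hp (hσ p hp hd) hd'

/-- A prime order power of an element of `M` outside `M_σ`. -/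
theorem exists_prime_power {M : Subgroup G} (hM : IsCoatom M) {x : G} (hx : x ∈ M)
    (hxσ : x ∉ sigmaCore M) :
    ∃ (r k : ℕ), r.Prime ∧ r ∉ sigma M ∧ orderOf (x ^ k) = r := by
  by_contra hno
  refine hxσ (le_sigmaCore_of_sigma h hM hx fun r hr hd => ?_)
  by_contra hrσ
  refine hno ⟨r, orderOf x / r, hr, hrσ, ?_⟩
  exact orderOf_pow_orderOf_div (orderOf_pos x).ne' hd

omit h

theorem coprime_card_sigmaCore {M : Subgroup G} {r : ℕ} (hr : r.Prime) (hrσ : r ∉ sigma M) :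
    r.Coprime (Nat.card (sigmaCore M)) :=
  (Nat.Prime.coprime_iff_not_dvd hr).mpr fun hd => hrσ (isPiSub_sigmaCore M r hr hd)

omit [Finite G] in
theorem le_of_decomp {M K U : Subgroup G} (hKU : IsSigmaDecomposition M K U) :
    U ⊔ sigmaCore M ≤ M :=
  sup_le hKU.compl.1 (sigmaCore_le M)

theorem inf_eq_bot {M K U : Subgroup G} (hKU : IsSigmaDecomposition M K U) :
    U ⊓ sigmaCore M = ⊥ :=
  le_bot_iff.mp ((inf_le_inf_left U le_sup_right).trans hKU.compl.2.2.1.le)

include h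

theorem sigma'_of_le {M K U : Subgroup G} (hM : IsCoatom M) (hKU : IsSigmaDecomposition M K U) :
    ∀ p : ℕ, p.Prime → p ∣ Nat.card U → p ∉ sigma M := by
  intro p hp hd hpσ
  haveI := Fact.mk hp
  obtain ⟨x, hx⟩ := exists_prime_orderOf_dvd_card' p hd
  have h1 : (x : G) ∈ sigmaCore M := le_sigmaCore_of_sigma h hM (hKU.compl.1 x.2) fun q hq hdq => by
    rw [orderOf_submonoid, hx] at hdq
    rwa [(Nat.prime_dvd_prime_iff_eq hq hp).mp hdq]
  have h2 : (x : G) = 1 := Subgroup.mem_bot.mp ((inf_eq_bot hKU).le ⟨x.2, h1⟩)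
  rw [← orderOf_submonoid, h2, orderOf_one] at hx
  exact hp.ne_one hx.symm

theorem coprime_complement {M K U : Subgroup G} (hM : IsCoatom M)
    (hKU : IsSigmaDecomposition M K U) : (Nat.card U).Coprime (Nat.card (sigmaCore M)) :=
  Nat.coprime_of_dvd fun p hp hd hd' => sigma'_of_le h hM hKU p hp hd (isPiSub_sigmaCore M p hp hd')

theorem kappa'_sigma {M K : Subgroup G} (hK : IsPiHallOf (kappa M) K M) :
    (Nat.card K).Coprime (Nat.card (sigmaCore M)) :=
  Nat.coprime_of_dvd fun p hp hd hd' =>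
    (hK.2.1 p hp hd).2.2.1 (isPiSub_sigmaCore M p hp hd')

include hG

theorem ne_bot_of_kappa_empty {M K U : Subgroup G} (hM : IsCoatom M)
    (hKU : IsSigmaDecomposition M K U) (hK : K = ⊥) : U ≠ ⊥ := by
  rintro rfl
  obtain ⟨-, -, h3, h4, -⟩ := h.fitting_core M hM
  have hsup := isComplIn_sup hKU.compl
  rw [hK, bot_sup_eq, bot_sup_eq] at hsup
  exact h4.ne (le_antisymm h4.le (hsup.symm.le.trans h3))

omit hG

theorem fittingHallOf_eq {M K U : Subgroup G} (hM : IsCoatom M)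
    (hKU : IsSigmaDecomposition M K U) (hU : U ≠ ⊥) : fittingHallOf M = sigmaCore M :=
  by_contra fun hne => hU (h.fitting_ne M hM K U hKU hne).1

omit h in
theorem sup_eq_of_bot {M K U : Subgroup G} (hKU : IsSigmaDecomposition M K U) (hK : K = ⊥) :
    U ⊔ sigmaCore M = M := by
  have := isComplIn_sup hKU.compl
  rwa [hK, bot_sup_eq] at this

theorem typeI_iff {M K U : Subgroup G} (hG : IsMinSimpleOddOrder G) (hI : TypeICriterion G)
    (hM : IsCoatom M) (hKU : IsSigmaDecomposition M K U) : IsOfTypeI M ↔ K = ⊥ :=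
  ⟨fun ht => (h.typeI_conv M hM K U hKU ht).1,
    fun hK => hI M hM K U hKU hK (ne_bot_of_kappa_empty hG h hM hKU hK)⟩

theorem typeP_cases {M K U : Subgroup G} (hM : IsCoatom M) (hKU : IsSigmaDecomposition M K U)
    (hK : K ≠ ⊥) : IsOfTypeII M ∨ IsOfTypeIII M ∨ IsOfTypeIV M ∨ IsOfTypeV M := by
  by_cases hU : U = ⊥
  · by_cases hF : fittingHallOf M = sigmaCore M
    · exact Or.inr (Or.inr (Or.inr ((h.typeV_iff M hM K U hKU).mpr ⟨hK, hU, hF⟩)))
    · rcases (h.typeIII_IV_iff M hM K U hKU).mpr ⟨hK, hU, hF⟩ with h3 | h4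
      · exact Or.inr (Or.inl h3)
      · exact Or.inr (Or.inr (Or.inl h4))
  · exact Or.inl ((h.typeII_iff M hM K U hKU).mpr ⟨hK, hU⟩)

theorem typeCore_eq {M : Subgroup G} (hM : IsCoatom M) : typeCore M = sigmaCore M := by
  obtain ⟨K, U, hKU⟩ := exists_decomp h hM
  rw [typeCore]
  split_ifs with ht
  · obtain ⟨hK, hU, -⟩ := (h.typeIII_IV_iff M hM K U hKU).mp ht
    rw [(h.derived M hM K U hKU hK).1, hU, bot_sup_eq]
  · by_contra hne
    obtain ⟨hU, -, hK⟩ := h.fitting_ne M hM K U hKU hne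
    refine ht ((h.typeIII_IV_iff M hM K U hKU).mpr ⟨fun h0 => ?_, hU, hne⟩)
    rw [h0, Subgroup.card_bot] at hK
    exact Nat.not_prime_one hK

include hG

/-- The description of `A(M)` through the standard factorisation. -/
theorem mem_typeA_iff {M K U : Subgroup G} (hM : IsCoatom M) (hKU : IsSigmaDecomposition M K U)
    (hI : K = ⊥ → IsOfTypeI M) {a : G} :
    a ∈ typeA M ↔
      a ∈ U ⊔ sigmaCore M ∧ a ≠ 1 ∧ ∃ y ∈ sigmaCore M, y ≠ 1 ∧ a * y = y * a := by
  by_cases hK : K = ⊥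
  · rw [typeA, if_pos (hI hK), sup_eq_of_bot hKU hK,
      fittingHallOf_eq h hM hKU (ne_bot_of_kappa_empty hG h hM hKU hK)]
    exact Iff.rfl
  · rw [typeA, if_neg fun ht => hK (h.typeI_conv M hM K U hKU ht).1, typeCore_eq h hM,
      (h.derived M hM K U hKU hK).1]
    exact Iff.rfl

/-- The elements of `A(M)` lie in `U M_σ` and have a fixed point in `M_σ`. -/
theorem mem_typeA_imp {M K U : Subgroup G} (hM : IsCoatom M) (hKU : IsSigmaDecomposition M K U)
    {a : G} (ha : a ∈ typeA M) :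
    a ∈ U ⊔ sigmaCore M ∧ a ≠ 1 ∧ ∃ y ∈ sigmaCore M, y ≠ 1 ∧ a * y = y * a := by
  by_cases hI : K = ⊥ → IsOfTypeI M
  · exact (mem_typeA_iff hG h hM hKU hI).mp ha
  push Not at hI
  obtain ⟨hK, hI⟩ := hI
  rw [typeA, if_neg hI] at ha
  obtain ⟨had, ha1, y, hy, hy1, hay⟩ := ha
  rw [typeCore_eq h hM] at hy
  refine ⟨?_, ha1, y, hy, hy1, hay⟩
  rw [sup_eq_of_bot hKU hK]
  exact Subgroup.commutator_le_self M had

theorem typeA_subset {M : Subgroup G} (hM : IsCoatom M) {a : G} (ha : a ∈ typeA M) : a ∈ M := by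
  obtain ⟨K, U, hKU⟩ := exists_decomp h hM
  exact le_of_decomp hKU (mem_typeA_imp hG h hM hKU ha).1

omit hG

theorem le_normalizer_sup {M K U : Subgroup G} (hM : IsCoatom M)
    (hKU : IsSigmaDecomposition M K U) :
    M ≤ Subgroup.normalizer ((U ⊔ sigmaCore M : Subgroup G) : Set G) :=
  (h.decomp M hM K hKU.cyclic hKU.hall).2 U hKU

/-- The centralizer of a prime order element of `U M_σ` outside `M_σ` with a fixed point in
`M_σ`. -/
theorem centralizer_uniq_of_mem {M K U : Subgroup G} (hM : IsCoatom M)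
    (hKU : IsSigmaDecomposition M K U) {x : G} (hx : x ∈ U ⊔ sigmaCore M) {r : ℕ} (hr : r.Prime)
    (hrσ : r ∉ sigma M) (hxr : orderOf x = r) {y : G} (hy : y ∈ sigmaCore M) (hy1 : y ≠ 1)
    (hxy : x * y = y * x) :
    Subgroup.centralizer ({x} : Set G) ≤ M ∧ ∀ L : Subgroup G, IsCoatom L →
      Subgroup.centralizer ({x} : Set G) ≤ L → L = M := by
  have hxM : x ∈ M := le_of_decomp hKU hx
  obtain ⟨k, hk, hkA⟩ := Coprime.exists_conj_le_of_le_sup (Subgroup.zpowers x) (sigmaCore M) U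
    ((Subgroup.zpowers_le.mpr hxM).trans (le_normalizer_sigmaCore M))
    (hKU.compl.1.trans (le_normalizer_sigmaCore M))
    (by rw [Nat.card_zpowers, hxr]; exact coprime_card_sigmaCore hr hrσ)
    (Or.inl inferInstance) (by rw [Subgroup.zpowers_le, sup_comm]; exact hx)
  have hu := hkA x (Subgroup.mem_zpowers x)
  have hkM : k ∈ M := sigmaCore_le M hk
  have hX : Subgroup.zpowers (k * x * k⁻¹) ≠ ⊥ := by
    rw [Ne, Subgroup.zpowers_eq_bot, mul_inv_eq_one, mul_eq_left]
    intro h1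
    rw [h1, orderOf_one] at hxr
    exact hr.ne_one hxr.symm
  have hXc : sigmaCore M ⊓ Subgroup.centralizer (Subgroup.zpowers (k * x * k⁻¹) : Set G) ≠ ⊥ := by
    intro h0
    refine hy1 (conj_eq_one_iff.mp (Subgroup.mem_bot.mp (h0.le (x := k * y * k⁻¹)
      ⟨conj_mem_sigmaCore hkM hy, ?_⟩)))
    rw [Subgroup.zpowers_eq_closure, Subgroup.centralizer_closure]
    exact conj_mem_centralizer_singleton (Subgroup.mem_centralizer_singleton_iff.mpr hxy.symm)
  obtain ⟨h1, h2⟩ := h.centralizer_uniq M hM K U hKU _ (Subgroup.zpowers_le.mpr hu) hX hXc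
  rw [Subgroup.zpowers_eq_closure, Subgroup.centralizer_closure] at h1 h2
  refine ⟨fun c hc => ?_, fun L hL hle => ?_⟩
  · have := h1 (conj_mem_centralizer_singleton (m := k) hc)
    have h3 := mul_mem (mul_mem (inv_mem hkM) this) hkM
    simpa [mul_assoc] using h3
  · have hL' : IsCoatom (L.map (MulAut.conj k).toMonoidHom) :=
      (OrderIso.isCoatom_iff (MulEquiv.mapSubgroup (MulAut.conj k)) L).mpr hL
    have := h2 _ hL' fun c hc => by
      rw [BGSigma.mem_map_conj]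
      refine hle ?_
      have h4 := conj_mem_centralizer_singleton (m := k⁻¹) hc
      simpa [mul_assoc] using h4
    ext z
    have h5 : z ∈ L ↔ k * z * k⁻¹ ∈ L.map (MulAut.conj k).toMonoidHom := by
      rw [BGSigma.mem_map_conj]
      simp [mul_assoc]
    rw [h5, this]
    exact ⟨fun hz => by simpa [mul_assoc] using mul_mem (mul_mem (inv_mem hkM) hz) hkM,
      fun hz => mul_mem (mul_mem hkM hz) (inv_mem hkM)⟩

include hG

/-- Conjugates inside `A(M)` of an element outside `M_σ` come from `M`. -/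
theorem mem_of_conj_typeA {M : Subgroup G} (hM : IsCoatom M) {x g : G} (hx : x ∈ typeA M)
    (hxσ : x ∉ sigmaCore M) (hgx : g * x * g⁻¹ ∈ typeA M) : g ∈ M := by
  obtain ⟨K, U, hKU⟩ := exists_decomp h hM
  obtain ⟨hx1, -, y, hy, hy1, hxy⟩ := mem_typeA_imp hG h hM hKU hx
  obtain ⟨hg1, -, z, hz, hz1, hgz⟩ := mem_typeA_imp hG h hM hKU hgx
  obtain ⟨r, n, hr, hrσ, hxn⟩ := exists_prime_power h hM (le_of_decomp hKU hx1) hxσ
  obtain ⟨hC, -⟩ := centralizer_uniq_of_mem h hM hKU (pow_mem hx1 n) hr hrσ hxn hy hy1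
    ((show Commute x y from hxy).pow_left n).eq
  obtain ⟨-, hu⟩ := centralizer_uniq_of_mem h hM hKU (pow_mem hg1 n) hr hrσ
    (by rw [conj_pow]; exact (MulEquiv.orderOf_eq (MulAut.conj g) _).trans hxn) hz hz1
    ((show Commute _ z from hgz).pow_left n).eq
  rw [conj_pow] at hu
  have hco : IsCoatom (M.map (MulAut.conj g).toMonoidHom) :=
    (OrderIso.isCoatom_iff (MulEquiv.mapSubgroup (MulAut.conj g)) M).mpr hM
  have heq := hu _ hco fun c hc => by
    rw [BGSigma.mem_map_conj]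
    refine hC ?_
    have h4 := conj_mem_centralizer_singleton (m := g⁻¹) hc
    simpa [mul_assoc] using h4
  rw [← BGSigma.coatom_self_normalizing hG hM]
  exact Subgroup.mem_normalizer_iff_map_conj_eq.mpr heq

end Cfsg.Agent.BGSummary
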