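import Cfsg.Agent.BGSummary.FittingHallStructure

/-!
# The chief layer of the normal Sylow subgroup of a non-nilpotent `M_σ`

The statement S1437, from the local structure.
-/

set_option autoImplicit false
set_option linter.unusedSectionVars false
set_option linter.style.haveILetI false
set_option linter.deprecated false

namespace Cfsg.Agent.BGSummary.Loc

open Cfsg Subgroup
open scoped commutatorElement
open Cfsg.Agent.BGSigma (sigmaCore_le le_normalizer_sigmaCore isPiSub_sigmaCore localInputs)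

universe u

variable {G : Type u} [Group G] [Finite G]

/-- Two nilpotent subgroups that commute elementwise generate a nilpotent subgroup. -/
theorem isNilpotent_sup_of_commute {A B : Subgroup G} (hA : Group.IsNilpotent A)
    (hB : Group.IsNilpotent B) (hc : ∀ a ∈ A, ∀ b ∈ B, Commute a b) :
    Group.IsNilpotent ↥(A ⊔ B) := by
  haveI := hA
  haveI := hB
  let φ : A × B →* G := MonoidHom.noncommCoprod A.subtype B.subtype fun a b => hc a a.2 b b.2
  have hr : φ.range = A ⊔ B := by
    refine (MonoidHom.noncommCoprod_range _ _ _).trans ?_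
    rw [range_subtype, range_subtype]
  rw [← hr]
  exact Group.nilpotent_of_surjective φ.rangeRestrict φ.rangeRestrict_surjective

variable (hG : IsMinSimpleOddOrder G) (h : LocalStructure G) {M : Subgroup G} (hM : IsCoatom M)
  (hnil : ¬ Group.IsNilpotent (sigmaCore M)) {K U : Subgroup G}
  (hKU : IsSigmaDecomposition M K U) {q : ℕ} [hqf : Fact q.Prime]
  (hq : Nat.card ↥(sigmaCore M ⊓ centralizer (K : Set G)) = q)
include hG h hM hnil hKU hq

local notation "Q" => BGUniq.core q (sigmaCore M)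

theorem q_comm {D : Subgroup G} (hD : IsComplIn Q D (sigmaCore M)) {x d : G}
    (hx : x ∈ (Q : Subgroup G)) (hd : d ∈ D) : (orderOf x).Coprime (orderOf d) := by
  have hn := (sigmaCore_le M).trans (core_le_normalizer hG h hM hnil hKU hq)
  have h1 := core_coprime hG h hM hnil hKU hq
  rw [card_eq_of_complIn hD hn] at h1
  exact (h1.coprime_dvd_left (Subgroup.orderOf_dvd_natCard _ hx)).coprime_dvd_right
    (Subgroup.orderOf_dvd_natCard _ hd)

theorem not_le_centralizer_core {D : Subgroup G} (hD : IsComplIn Q D (sigmaCore M)) :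
    ¬ D ≤ centralizer ((Q : Subgroup G) : Set G) := by
  intro hle
  refine hnil ?_
  have := isNilpotent_sup_of_commute (BGUniq.isPGroup_core q (sigmaCore M)).isNilpotent
    (compl_nilpotent hG h hM hnil hKU hq hD)
    (fun a ha b hb => mem_centralizer_iff.mp (hle hb) a ha)
  rwa [TypeCore.sup_eq hD] at this

theorem frattini_le_core : OddLocal43.frattiniOf (Q : Subgroup G) ≤ Q :=
  OddLocal43.frattiniOf_le _

theorem le_normalizer_frattini :
    M ≤ normalizer ((OddLocal43.frattiniOf (Q : Subgroup G) : Subgroup G) : Set G) :=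
  (core_le_normalizer hG h hM hnil hKU hq).trans (OddLocal43.normalizes_map_characteristic _)

theorem star_inf_frattini :
    (sigmaCore M ⊓ centralizer (K : Set G)) ⊓ OddLocal43.frattiniOf (Q : Subgroup G) = ⊥ := by
  by_contra hne
  set st := sigmaCore M ⊓ centralizer (K : Set G) with hst
  set Φ := OddLocal43.frattiniOf (Q : Subgroup G) with hΦ
  have hΦM : Φ ≤ M := (frattini_le_core hG h hM hnil hKU hq).trans (core_le_M hG h hM hnil hKU hq)
  have hle : st ≤ Φ := by
    rcases (Nat.dvd_prime hqf.out).mp (hq ▸ card_dvd_of_le (inf_le_left : st ⊓ Φ ≤ st)) with h1 | h1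
    · exact absurd (card_eq_one.mp h1) hne
    · exact (eq_of_le_of_card_ge inf_le_left (by rw [h1, hq])).ge.trans inf_le_right
  haveI : (Φ.subgroupOf M).Normal := (normal_subgroupOf_iff_le_normalizer hΦM).mpr
    (le_normalizer_frattini hG h hM hnil hKU hq)
  have hnq := isNilpotent_map hG h hM hnil hKU (Φ.subgroupOf M)
    (fun _ hx => BGUniq.core_le q (sigmaCore M) (frattini_le_core hG h hM hnil hKU hq hx))
    (fun _ hx => hle hx)
  obtain ⟨D, hD, -⟩ := exists_invariant_compl hG h hM hnil hKU hq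
  refine not_le_centralizer_core hG h hM hnil hKU hq hD ?_
  refine Coprime.le_centralizer_of_frattini D Q
    (hD.2.1.trans ((sigmaCore_le M).trans (core_le_normalizer hG h hM hnil hKU hq))) ?_ ?_
  · have hn := (sigmaCore_le M).trans (core_le_normalizer hG h hM hnil hKU hq)
    have h1 := core_coprime hG h hM hnil hKU hq
    rw [card_eq_of_complIn hD hn] at h1
    exact h1.symm.coprime_dvd_right (card_subgroup_dvd_card _)
  · intro d hd x hx
    set f := QuotientGroup.mk' (Φ.subgroupOf M) with hf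
    let d' : M := ⟨d, sigmaCore_le M (hD.2.1 hd)⟩
    let x' : M := ⟨x, core_le_M hG h hM hnil hKU hq hx⟩
    let S := (sigmaCore M).subgroupOf M
    have hd' : d' ∈ S := hD.2.1 hd
    have hx' : x' ∈ S := BGUniq.core_le q (sigmaCore M) hx
    have hc : Commute (⟨f d', mem_map_of_mem f hd'⟩ : S.map f) ⟨f x', mem_map_of_mem f hx'⟩ := by
      refine Transfer.nilpotent_commute_of_coprime hnq ?_
      rw [Subgroup.orderOf_mk, Subgroup.orderOf_mk]
      refine Nat.Coprime.coprime_dvd_left ((orderOf_map_dvd f d').trans (Subgroup.orderOf_mk d _).dvd)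
        (Nat.Coprime.coprime_dvd_right ((orderOf_map_dvd f x').trans (Subgroup.orderOf_mk x _).dvd)
          (q_comm hG h hM hnil hKU hq hD hx hd).symm)
    have h2 : f (d' * x' * d'⁻¹ * x'⁻¹) = 1 := by
      have h3 : f d' * f x' = f x' * f d' := congrArg Subtype.val hc.eq
      rw [map_mul, map_mul, map_mul, map_inv, map_inv, h3]; group
    exact mem_subgroupOf.mp ((QuotientGroup.eq_one_iff (N := Φ.subgroupOf M) _).mp h2)

theorem frattini_le_centralizer {D : Subgroup G} (hD : IsComplIn Q D (sigmaCore M))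
    (hKD : K ≤ normalizer (D : Set G)) :
    OddLocal43.frattiniOf (Q : Subgroup G) ≤ centralizer (D : Set G) := by
  set Φ := OddLocal43.frattiniOf (Q : Subgroup G) with hΦ
  have hΦQ : Φ ≤ Q := frattini_le_core hG h hM hnil hKU hq
  set X := Φ ⊔ D with hX
  have hXσ : X ≤ sigmaCore M := sup_le (hΦQ.trans (BGUniq.core_le q _)) hD.2.1
  have hKX : K ≤ normalizer (X : Set G) := Coprime.le_normalizer_sup
    (hKU.hall.1.trans (le_normalizer_frattini hG h hM hnil hKU hq)) hKD
  have hDΦ : D ≤ normalizer (Φ : Set G) :=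
    hD.2.1.trans ((sigmaCore_le M).trans (le_normalizer_frattini hG h hM hnil hKU hq))
  have hXfix : X ⊓ (sigmaCore M ⊓ centralizer (K : Set G)) = ⊥ := by
    refine le_bot_iff.mp (le_trans (fun x hx => ?_) (star_inf_frattini hG h hM hnil hKU hq).le)
    refine ⟨hx.2, ?_⟩
    obtain ⟨a, ha, d, hd, rfl⟩ := Coprime.exists_mul_of_mem_sup hDΦ hx.1
    have hd' : d ∈ (Q : Subgroup G) ⊓ D :=
      ⟨((Q : Subgroup G).mul_mem_cancel_left (hΦQ ha)).mp
        (star_le_core hG h hM hnil hKU hq hx.2), hd⟩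
    rw [hD.2.2.1, mem_bot] at hd'
    rw [hd', mul_one]; exact ha
  by_cases hX1 : X = ⊥
  · rw [le_bot_iff.mp (le_sup_left.trans hX1.le : Φ ≤ ⊥)]; exact bot_le
  obtain ⟨p, hp, hpd⟩ := Nat.exists_prime_and_dvd
    (mt card_eq_one.mp (K_ne_bot hG h hM hnil hKU))
  haveI := Fact.mk hp
  obtain ⟨⟨k, hk⟩, hko⟩ := exists_prime_orderOf_dvd_card' (G := K) p hpd
  rw [Subgroup.orderOf_mk] at hko
  have hk1 : k ≠ 1 := fun h0 => by rw [h0, orderOf_one] at hko; exact hp.ne_one hko.symm
  have hnX : Group.IsNilpotent X := by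
    refine OddLocal43.isNilpotent_of_frobenius X (zpowers k) hX1 (zpowers_ne_bot.mpr hk1)
      ((zpowers_le).mpr (hKX hk)) ?_ fun r hr hr1 => ?_
    · exact le_bot_iff.mp ((inf_le_inf hXσ ((zpowers_le).mpr hk)).trans
        (inf_eq_bot_of_coprime (coprime_K hG h hM hnil hKU).symm).le)
    · refine le_bot_iff.mp (le_trans (le_inf inf_le_left ?_) hXfix.le)
      rw [← fixed_eq hG h hM hnil hKU ((zpowers_le).mpr hk hr) hr1]
      exact inf_le_inf_right _ hXσ
  intro a ha
  refine mem_centralizer_iff.mpr fun d hd => ?_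
  have := Transfer.nilpotent_commute_of_coprime hnX
    (x := (⟨d, mem_sup_right hd⟩ : X)) (y := ⟨a, mem_sup_left ha⟩) (by
      rw [Subgroup.orderOf_mk, Subgroup.orderOf_mk]
      exact (q_comm hG h hM hnil hKU hq hD (hΦQ ha) hd).symm)
  exact congrArg Subtype.val this.eq

theorem le_normalizer_fixed {D : Subgroup G} (hD : IsComplIn Q D (sigmaCore M))
    (hKD : K ≤ normalizer (D : Set G)) :
    M ≤ normalizer (((Q : Subgroup G) ⊓ centralizer (D : Set G) : Subgroup G) : Set G) := by
  set Q₀ := (Q : Subgroup G) ⊓ centralizer (D : Set G) with hQ₀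
  have hΦ : OddLocal43.frattiniOf (Q : Subgroup G) ≤ Q₀ :=
    le_inf (frattini_le_core hG h hM hnil hKU hq) (frattini_le_centralizer hG h hM hnil hKU hq hD hKD)
  have hQM := core_le_M hG h hM hnil hKU hq
  have hn := core_le_normalizer hG h hM hnil hKU hq
  have hQn : (Q : Subgroup G) ≤ normalizer (Q₀ : Set G) :=
    Coprime.le_normalizer_of_conj_mem fun x hx y hy => by
      have h1 : x * y * x⁻¹ * y⁻¹ ∈ Q₀ := hΦ ⟨⁅(⟨x, hx⟩ : Q), (⟨y, hy.1⟩ : Q)⁆,
        PGroup.comm_mem_frattini (BGUniq.isPGroup_core q _) _ _, rfl⟩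
      simpa using mul_mem h1 hy
  rw [← TypeCore.sup_eq (compl_K hG h hM hnil hKU), ← TypeCore.sup_eq hD]
  refine sup_le ?_ (sup_le hQn ?_)
  · exact Coprime.le_normalizer_inf (hKU.hall.1.trans hn) (Coprime.le_normalizer_centralizer hKD)
  · exact Coprime.le_normalizer_inf (hD.2.1.trans ((sigmaCore_le M).trans hn))
      (Coprime.le_normalizer_centralizer le_normalizer)

theorem fixed_lt {D : Subgroup G} (hD : IsComplIn Q D (sigmaCore M)) :
    (Q : Subgroup G) ⊓ centralizer (D : Set G) < Q :=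
  lt_of_le_of_ne inf_le_left fun h0 => not_le_centralizer_core hG h hM hnil hKU hq hD
    (le_centralizer_iff.mp (h0.ge.trans inf_le_right))

theorem layer {D : Subgroup G} (hD : IsComplIn Q D (sigmaCore M))
    (hKD : K ≤ normalizer (D : Set G)) {N : Subgroup G}
    (hQN : (Q : Subgroup G) ⊓ centralizer (D : Set G) < N) (hNQ : N ≤ Q)
    (hNn : M ≤ normalizer (N : Set G)) :
    (Nat.card K).Prime ∧
      Nat.card N = Nat.card ↥((Q : Subgroup G) ⊓ centralizer (D : Set G)) * q ^ Nat.card K ∧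
      ∀ a ∈ ⁅D, D⁆, ∀ x ∈ N, a * x * a⁻¹ * x⁻¹ ∈ (Q : Subgroup G) ⊓ centralizer (D : Set G) := by
  haveI := BGSigma.coatom_isSolvable hG hM
  set Q₀ := (Q : Subgroup G) ⊓ centralizer (D : Set G) with hQ₀
  have hQ₀n := le_normalizer_fixed hG h hM hnil hKU hq hD hKD
  have hQM := core_le_M hG h hM hnil hKU hq
  have hQσ : (Q : Subgroup G) ≤ sigmaCore M := BGUniq.core_le q _
  have hKM : K ≤ M := hKU.hall.1
  have hDM : D ≤ M := hD.2.1.trans (sigmaCore_le M)
  have hQ₀M : Q₀ ≤ M := inf_le_left.trans hQM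
  set N' := Q₀.subgroupOf M with hN'
  haveI : N'.Normal := (normal_subgroupOf_iff_le_normalizer hQ₀M).mpr hQ₀n
  set f := QuotientGroup.mk' N' with hf
  have hker : f.ker = N' := QuotientGroup.ker_mk' _
  set Nb := (N.subgroupOf M).map f with hNb
  set Db := (D.subgroupOf M).map f with hDb
  set Kb := (K.subgroupOf M).map f with hKb
  set Sb := ((sigmaCore M).subgroupOf M).map f with hSb
  set st := (sigmaCore M ⊓ centralizer (K : Set G)).subgroupOf M with hst
  haveI : ((N.subgroupOf M)).Normal :=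
    (normal_subgroupOf_iff_le_normalizer (hNQ.trans hQM)).mpr hNn
  haveI hNbn : Nb.Normal := Subgroup.Normal.map inferInstance f (QuotientGroup.mk'_surjective _)
  have hN'S : N' ≤ (sigmaCore M).subgroupOf M := fun _ hx => hQσ hx.1
  have hfix : ∀ r ∈ Kb, r ≠ 1 → Sb ⊓ centralizer ({r} : Set (M ⧸ N')) = st.map f := by
    rintro _ ⟨k, hk, rfl⟩ hr1
    exact map_fixed hG h hM hnil hKU N' hN'S hk fun h0 => hr1 (by rw [h0, map_one])
  have hcKσ := coprime_K hG h hM hnil hKU
  have hKb1 : Kb ≠ ⊥ := by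
    rw [hKb, ne_eq, Subgroup.map_eq_bot_iff, hker]
    intro hle
    refine K_ne_bot hG h hM hnil hKU (le_bot_iff.mp ?_)
    rw [← inf_eq_bot_of_coprime hcKσ]
    exact fun x hx => ⟨hx, hN'S (hle (show (⟨x, hKM hx⟩ : M) ∈ K.subgroupOf M from hx))⟩
  have hKb_cop : (Nat.card Kb).Coprime (Nat.card (sigmaCore M)) :=
    hcKσ.coprime_dvd_left ((card_map_dvd _ _).trans
      (Nat.card_congr (subgroupOfEquivOfLe hKM).toEquiv).dvd)
  have hDbS : Db ≤ Sb := Subgroup.map_mono fun _ hx => hD.2.1 hx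
  have hDcard : Nat.card Db ∣ Nat.card D :=
    (card_map_dvd _ _).trans (Nat.card_congr (subgroupOfEquivOfLe hDM).toEquiv).dvd
  have hQcard : (Nat.card D).Coprime (Nat.card (Q : Subgroup G)) := by
    have h1 := core_coprime hG h hM hnil hKU hq
    rw [card_eq_of_complIn hD ((sigmaCore_le M).trans (core_le_normalizer hG h hM hnil hKU hq))] at h1
    exact h1.symm
  have hstQ : Nat.card (st.map f) ∣ Nat.card (Q : Subgroup G) := by
    refine (card_map_dvd _ _).trans ?_
    rw [hst, Nat.card_congr (subgroupOfEquivOfLe (inf_le_left.trans (sigmaCore_le M))).toEquiv]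
    exact card_dvd_of_le (star_le_core hG h hM hnil hKU hq)
  have hKfpf : ∀ r ∈ Kb, r ≠ 1 → Db ⊓ centralizer ({r} : Set (M ⧸ N')) = ⊥ := by
    intro r hr hr1
    refine le_bot_iff.mp (le_trans (le_inf inf_le_left ((inf_le_inf_right _ hDbS).trans
      (hfix r hr hr1).le)) (inf_eq_bot_of_coprime ?_).le)
    exact (hQcard.coprime_dvd_left hDcard).coprime_dvd_right hstQ
  have hDb1 : Db ≠ ⊥ := by
    rw [hDb, ne_eq, Subgroup.map_eq_bot_iff, hker]
    intro hle
    refine not_le_centralizer_core hG h hM hnil hKU hq hD ?_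
    have hD1 : D = ⊥ := le_bot_iff.mp (hD.2.2.1 ▸ le_inf (fun x hx =>
      (hle (show (⟨x, hDM hx⟩ : M) ∈ D.subgroupOf M from hx) : x ∈ Q₀).1) le_rfl)
    rw [hD1]; exact bot_le
  have hNb1 : Nb ≠ ⊥ := by
    rw [hNb, ne_eq, Subgroup.map_eq_bot_iff, hker]
    intro hle
    exact hQN.not_ge fun x hx =>
      hle (show (⟨x, hQM (hNQ hx)⟩ : M) ∈ N.subgroupOf M from hx)
  have hNbcard : Nat.card Nb ∣ Nat.card (Q : Subgroup G) :=
    (card_map_dvd _ _).trans ((Nat.card_congr (subgroupOfEquivOfLe (hNQ.trans hQM)).toEquiv).dvd.trans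
      (card_dvd_of_le hNQ))
  have hKDb : Kb ≤ normalizer (Db : Set (M ⧸ N')) := by
    rintro _ ⟨k, hk, rfl⟩
    exact (D.subgroupOf M).le_normalizer_map f ⟨k, by
      rw [SetLike.mem_coe, mem_normalizer_iff]
      intro x
      simp only [mem_subgroupOf, coe_mul, coe_inv]
      exact mem_normalizer_iff.mp (hKD hk) x, rfl⟩
  have hNnorm : normalizer (Nb : Set (M ⧸ N')) = ⊤ := normalizer_eq_top_iff.mpr hNbn
  have hDKcop : (Nat.card ↥(Db ⊔ Kb)).Coprime (Nat.card Nb) := by
    have h1 : Nat.card ↥(Db ⊔ Kb) ∣ Nat.card Db * Nat.card Kb := by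
      rw [← BGSigma.relIndex_mul_card (le_sup_left : Db ≤ Db ⊔ Kb), sup_comm,
        Coprime.relIndex_sup_of_le_normalizer hKDb, mul_comm]
      exact Nat.mul_dvd_mul_left _ (relIndex_dvd_card _ _)
    refine Nat.Coprime.coprime_dvd_left h1 (Nat.Coprime.mul_left ?_ ?_)
    · exact (hQcard.coprime_dvd_left hDcard).coprime_dvd_right hNbcard
    · exact (hKb_cop.coprime_dvd_right (card_dvd_of_le hQσ)).coprime_dvd_right hNbcard
  have hCD : Nb ⊓ centralizer (Db : Set (M ⧸ N')) = ⊥ := by
    rw [hNb, hDb, OddLocal43.map_inf_centralizer N' _ _ ?_ inferInstance ?_,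
      Subgroup.map_eq_bot_iff, hker]
    · exact fun x hx => ⟨hNQ hx.1, mem_centralizer_iff.mpr fun a ha =>
        congrArg Subtype.val (mem_centralizer_iff.mp hx.2 ⟨a, hDM ha⟩ ha)⟩
    · rw [Nat.card_congr (subgroupOfEquivOfLe hDM).toEquiv, hN',
        Nat.card_congr (subgroupOfEquivOfLe hQ₀M).toEquiv]
      exact hQcard.coprime_dvd_right (card_dvd_of_le inf_le_left)
    · exact fun _ hx => hQN.le hx
  have hNn' : Group.IsNilpotent Nb := by
    obtain ⟨n, hn⟩ := (BGUniq.isPGroup_core q (sigmaCore M)).exists_card_eq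
    obtain ⟨i, -, hi⟩ := (Nat.dvd_prime_pow hqf.out).mp (hn ▸ hNbcard)
    exact (IsPGroup.of_card (p := q) hi).isNilpotent
  have hNS : Nb ≤ Sb := Subgroup.map_mono fun _ hx => hQσ (hNQ hx)
  have hprim : ∀ r ∈ Kb, r ≠ 1 → Nb ⊓ centralizer ({r} : Set (M ⧸ N')) =
      Nb ⊓ centralizer (Kb : Set (M ⧸ N')) := by
    intro r hr hr1
    refine le_antisymm (fun y hy => ⟨hy.1, mem_centralizer_iff.mpr fun a ha => ?_⟩)
      (inf_le_inf_left _ (centralizer_le (Set.singleton_subset_iff.mpr hr)))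
    rcases eq_or_ne a 1 with rfl | ha1
    · rw [one_mul, mul_one]
    have h1 : y ∈ Sb ⊓ centralizer ({a} : Set (M ⧸ N')) :=
      (hfix a ha ha1).ge ((hfix r hr hr1).le ⟨hNS hy.1, hy.2⟩)
    exact mem_centralizer_iff.mp h1.2 a rfl
  haveI : Group.IsSolvable (M ⧸ N') :=
    Group.isSolvable_of_surjective (QuotientGroup.mk'_surjective N')
  obtain ⟨hpK, hcard, hcyc⟩ := S1446.result Db Kb Nb hDb1 hKb1
    (inf_eq_bot_of_coprime ((hKb_cop.coprime_dvd_right
      (card_dvd_of_le hD.2.1)).symm.coprime_dvd_left hDcard))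
    hKDb hKfpf inferInstance
    ((BGSigma.odd_card_subgroup hG M).of_dvd_nat ((card_subgroup_dvd_card _).trans
      (card_quotient_dvd_card N')))
    hNb1 hNn' (hNnorm ▸ le_top) (hNnorm ▸ le_top) hDKcop hCD hprim
  have hKbK : Nat.card Kb = Nat.card K := by
    rw [hKb, ← relIndex_ker, hker, ← inf_relIndex_right,
      show N' ⊓ K.subgroupOf M = ⊥ from ?_, relIndex_bot_left,
      Nat.card_congr (subgroupOfEquivOfLe hKM).toEquiv]
    exact (eq_bot_iff_forall _).mpr fun x hx => Subtype.ext ((eq_bot_iff_forall _).mp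
      (inf_eq_bot_of_coprime hcKσ) x ⟨hx.2, hN'S hx.1⟩)
  have hcq : Nat.card ↥(Nb ⊓ centralizer (Kb : Set (M ⧸ N'))) = q := by
    obtain ⟨⟨r, hr⟩, hr'⟩ := (Subgroup.ne_bot_iff_exists_ne_one).mp hKb1
    have hr1 : r ≠ 1 := fun h0 => hr' (Subtype.ext h0)
    have h1 : Nat.card ↥(Nb ⊓ centralizer (Kb : Set (M ⧸ N'))) ∣ q := by
      refine (card_dvd_of_le (((hprim r hr hr1).ge.trans (inf_le_inf_right _ hNS)).trans
        (hfix r hr hr1).le)).trans ((card_map_dvd _ _).trans ?_)
      rw [hst, Nat.card_congr (subgroupOfEquivOfLe (inf_le_left.trans (sigmaCore_le M))).toEquiv, hq]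
    refine ((Nat.dvd_prime hqf.out).mp h1).resolve_left fun h0 => hNb1 ?_
    rw [h0, one_pow] at hcard
    exact card_eq_one.mp hcard
  rw [hcq, hKbK] at hcard
  refine ⟨hKbK ▸ hpK, ?_, ?_⟩
  · rw [← BGSigma.relIndex_mul_card hQN.le, mul_comm]
    congr 1
    rw [← hcard, hNb, ← relIndex_ker, hker, hN', Subgroup.relIndex_subgroupOf (hNQ.trans hQM)]
  · intro a ha x hx
    have hle := hcyc (isCyclic_of_prime_card hcq)
    rw [hDb, ← map_commutator] at hle
    have ha' : (⟨a, hDM (Coprime.commutator_le_of_le_normalizer le_normalizer ha)⟩ : M) ∈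
        ⁅D.subgroupOf M, D.subgroupOf M⁆ := by
      have h3 : a ∈ (⁅D.subgroupOf M, D.subgroupOf M⁆).map M.subtype := by
        rwa [map_commutator, map_subgroupOf_eq_of_le hDM]
      obtain ⟨b, hb, rfl⟩ := h3
      exact hb
    set x' : M := ⟨x, hQM (hNQ hx)⟩
    have h2 := mem_centralizer_iff.mp (hle (mem_map_of_mem f ha')) (f x') (mem_map_of_mem f hx)
    refine ((QuotientGroup.eq_one_iff (N := N')
      (⟨a, hDM (Coprime.commutator_le_of_le_normalizer le_normalizer ha)⟩ * x' *
        (⟨a, hDM (Coprime.commutator_le_of_le_normalizer le_normalizer ha)⟩ : M)⁻¹ * x'⁻¹)).mp ?_ :)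
    show f _ = 1
    rw [map_mul, map_mul, map_mul, map_inv, map_inv, ← h2]; group

theorem mem_beta_core : q ∈ beta M := by
  by_contra hβ
  obtain ⟨-, hnc, -⟩ := (S1414.result hG M hM).2.2.2.2 q hqf.out
    ((mem_sigma_q hG h hM hnil hKU hq).2.1) hβ
  set S := sigmaCore M with hS
  obtain ⟨P, N, hN, hc⟩ := hnc
  haveI := hN
  set D := N.map S.subtype with hD
  have hco : (Nat.card N).Coprime q := by
    have := P.not_dvd_index
    rw [← Nat.eq_of_mul_eq_mul_right Nat.card_pos
      ((P : Subgroup S).index_mul_card.trans hc.card_mul.symm)]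
    exact ((Nat.Prime.coprime_iff_not_dvd hqf.out).mpr this).symm
  have hDQ : D ⊓ Q = ⊥ := by
    refine inf_eq_bot_of_coprime ?_
    obtain ⟨n, hn⟩ := (BGUniq.isPGroup_core q S).exists_card_eq
    rw [hn, hD, card_map_of_injective S.subtype_injective]
    exact hco.pow_right n
  have hsn : S ≤ normalizer (D : Set G) := fun x hx =>
    N.le_normalizer_map S.subtype ⟨⟨x, hx⟩, by rw [normalizer_eq_top]; trivial, rfl⟩
  have hDS : D ≤ S := map_subtype_le _
  have hcompl : IsComplIn Q D (sigmaCore M) := by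
    refine TypeCore.complIn_of_sup (BGUniq.core_le q _) hDS
      (hDS.trans ((sigmaCore_le M).trans (core_le_normalizer hG h hM hnil hKU hq)))
      (by rw [inf_comm, hDQ]) ?_
    have hrel : (Q : Subgroup G).relIndex S ∣ Nat.card D := by
      refine ((core_coprime hG h hM hnil hKU hq).symm.dvd_mul_left).mp ?_
      have hPc : Nat.card (P : Subgroup S) ∣ Nat.card (Q : Subgroup G) := by
        have h5 : Nat.card (P : Subgroup S) ∣ (Q : Subgroup G).relIndex S * Nat.card (Q : Subgroup G) := by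
          rw [BGSigma.relIndex_mul_card (BGUniq.core_le q _)]; exact card_subgroup_dvd_card _
        refine Nat.Coprime.dvd_of_dvd_mul_left ?_ h5
        obtain ⟨n, hn⟩ := P.isPGroup'.exists_card_eq
        rw [hn]
        exact Nat.Coprime.pow_left n ((Nat.Prime.coprime_iff_not_dvd hqf.out).mpr
          (not_dvd_core_relIndex hG h hM hnil hKU hq))
      refine (dvd_mul_right _ (Nat.card (Q : Subgroup G))).trans ?_
      rw [BGSigma.relIndex_mul_card (BGUniq.core_le q _), ← hc.card_mul, hD,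
        card_map_of_injective S.subtype_injective]
      exact (Nat.mul_dvd_mul_left _ hPc).trans (mul_comm _ _).dvd
    set X := (Q : Subgroup G) ⊔ D with hX
    have hXS : X ≤ S := sup_le (BGUniq.core_le q _) hDS
    refine (eq_of_le_of_card_ge hXS ?_).ge
    refine Nat.le_of_dvd Nat.card_pos ?_
    rw [← BGSigma.relIndex_mul_card (BGUniq.core_le q (sigmaCore M))]
    refine Nat.Coprime.mul_dvd_of_dvd_of_dvd (core_coprime hG h hM hnil hKU hq).symm
      (hrel.trans (card_dvd_of_le le_sup_right)) (card_dvd_of_le le_sup_left)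
  refine not_le_centralizer_core hG h hM hnil hKU hq hcompl fun d hd =>
    mem_centralizer_iff.mpr fun x hx => ?_
  exact BGUniq.mul_comm_of_normalized_coprime (BGUniq.core_le q S) hDS
    ((sigmaCore_le M).trans (core_le_normalizer hG h hM hnil hKU hq)) hsn
    (by
      obtain ⟨n, hn⟩ := (BGUniq.isPGroup_core q S).exists_card_eq
      rw [hn, hD, card_map_of_injective S.subtype_injective]
      exact (hco.pow_right n).symm) hx hd

end Cfsg.Agent.BGSummary.Loc
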