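import Cfsg.Agent.BGSummary.TypePFitting
import Cfsg.Agent.S1445
import Cfsg.Agent.OddLocal43.NilpotentAction
import Cfsg.Agent.OddLocal43.Coprime
import Cfsg.Agent.Lib.Transfer.Hall
import Cfsg.Agent.S1414

/-!
# The structure of `M_σ` when it is not nilpotent

The statements S1355 and S1437, from the local structure.
-/

set_option autoImplicit false
set_option linter.unusedSectionVars false
set_option linter.style.haveILetI false

namespace Cfsg.Agent.BGSummary.Loc

open Cfsg Subgroup
open scoped commutatorElement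
open Cfsg.Agent.BGSigma (sigmaCore_le le_normalizer_sigmaCore isPiSub_sigmaCore localInputs)

universe u

variable {G : Type u} [Group G] [Finite G]

/-- A complement of a normal subgroup is nilpotent once its image is. -/
theorem isNilpotent_of_image {Y : Type*} [Group Y] [Finite Y] {N : Subgroup Y} [N.Normal]
    {D S : Subgroup Y} (hS : Group.IsNilpotent (S.map (QuotientGroup.mk' N))) (hDS : D ≤ S)
    (hD : D ⊓ N = ⊥) : Group.IsNilpotent D := by
  haveI := hS
  set f := ((QuotientGroup.mk' N).subgroupMap S).comp (Subgroup.inclusion hDS)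
  have hinj : Function.Injective f := by
    intro a b hab
    have h1 : QuotientGroup.mk' N (a : Y) = QuotientGroup.mk' N (b : Y) := congrArg Subtype.val hab
    rw [QuotientGroup.mk'_apply, QuotientGroup.mk'_apply, QuotientGroup.eq] at h1
    have h2 : (a : Y)⁻¹ * b ∈ D ⊓ N := ⟨D.mul_mem (D.inv_mem a.2) b.2, h1⟩
    rw [hD, mem_bot, inv_mul_eq_one] at h2
    exact Subtype.ext h2
  exact Group.nilpotent_of_mulEquiv (MonoidHom.ofInjective hinj).symm

theorem centralizer_map_zpowers {Y Z : Type*} [Group Y] [Group Z] (f : Y →* Z) (k : Y) :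
    centralizer (((zpowers k).map f : Subgroup Z) : Set Z) = centralizer ({f k} : Set Z) := by
  rw [MonoidHom.map_zpowers, zpowers_eq_closure, centralizer_closure]

variable (hG : IsMinSimpleOddOrder G) (h : LocalStructure G) {M : Subgroup G} (hM : IsCoatom M)
include hG h hM

theorem fittingHallOf_le_sigmaCore : fittingHallOf M ≤ sigmaCore M := by
  intro x hx
  refine TypeCore.mem_sigmaCore (hall hG hM) (BGUniq.fittingHallOf_le M hx) fun p hp hd => ?_
  haveI := Fact.mk hp
  have hdH : p ∣ Nat.card (fittingHallOf M) := hd.trans (Subgroup.orderOf_dvd_natCard _ hx)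
  have hHM : fittingHallOf M ≤ M := BGUniq.fittingHallOf_le M
  refine ⟨hp, hdH.trans (card_dvd_of_le hHM), default, ?_⟩
  let S : Sylow p M := default
  have hSH : (S : Subgroup M).map M.subtype ≤ fittingHallOf M := by
    refine BGSigma.le_of_coprime_relIndex hHM (le_normalizer_fittingHallOf M) (map_subtype_le _) ?_
    obtain ⟨n, hn⟩ := (S.isPGroup'.map M.subtype).exists_card_eq
    rw [hn]
    refine Nat.Coprime.pow_left n ((Nat.Prime.coprime_iff_not_dvd hp).mpr fun hd' => ?_)
    exact hp.not_dvd_one ((fittingHallOf_relIndex_coprime M) ▸ Nat.dvd_gcd hdH hd')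
  have hSF : (S : Subgroup M).map M.subtype ≤ BGUniq.core p M := fun y hy => by
    obtain ⟨j, hj⟩ := (S.isPGroup'.map M.subtype) ⟨y, hy⟩
    obtain ⟨i, -, hi⟩ := (Nat.dvd_prime_pow hp).mp
      (orderOf_dvd_of_pow_eq_one (congrArg Subtype.val hj : y ^ p ^ j = 1))
    exact BGUniq.mem_core_of_mem_fittingOf
      (TypeCore.fittingHallOf_le_fittingOf M (hSH hy)) hi
  have hFS : BGUniq.core p M ≤ (S : Subgroup M).map M.subtype := fun y hy => by
    have heq := S.is_maximal' ((BGUniq.isPGroup_core p M).comap_subtype (K := M)) (fun z hz =>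
      show (z : G) ∈ BGUniq.core p M from hSF (mem_map_of_mem M.subtype hz))
    exact ⟨⟨y, BGUniq.core_le p M hy⟩, heq.le hy, rfl⟩
  rw [le_antisymm hSF hFS]
  have hne : BGUniq.core p M ≠ ⊥ := fun h0 => S.ne_bot_of_dvd_card
    (hdH.trans (card_dvd_of_le hHM))
    ((map_eq_bot_iff_of_injective _ M.subtype_injective).mp (le_bot_iff.mp (hSF.trans h0.le)))
  exact (BGSigma.normalizer_eq_coatom hG hM (BGUniq.core_le p M) hne
    (BGUniq.le_normalizer_core p M)).le

theorem fittingHallOf_eq_sigmaCore (hnil : Group.IsNilpotent (sigmaCore M)) :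
    fittingHallOf M = sigmaCore M :=
  le_antisymm (fittingHallOf_le_sigmaCore hG h hM)
    (le_fittingHallOf (sigmaCore_le M) (le_normalizer_sigmaCore M) hnil
      (coprime_of_hall (hall hG hM)))

section NotNilpotent

variable (hnil : ¬ Group.IsNilpotent (sigmaCore M)) {K U : Subgroup G}
  (hKU : IsSigmaDecomposition M K U)
include hnil hKU

theorem U_eq_bot : U = ⊥ := by
  by_contra hU
  obtain ⟨r, hr, hrd⟩ := Nat.exists_prime_and_dvd (mt card_eq_one.mp hU)
  haveI := Fact.mk hr
  obtain ⟨hrs, hrk⟩ := not_mem_of_dvd_U hG hM hKU hr hrd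
  have hrM : r ∣ Nat.card M := hrd.trans (card_dvd_of_le hKU.compl.1)
  exact hnil (h.p1_context M hM (fun hP1 => hrk (hP1 r hr hrM hrs)) r hrM
    (by simp [hrs, hrk]) default).2.2

theorem compl_K : IsComplIn K (sigmaCore M) M := by
  have := compl_sup hKU
  rwa [U_eq_bot hG h hM hnil hKU, bot_sup_eq] at this

theorem K_ne_bot : K ≠ ⊥ := fun h0 => by
  have h1 := TypeCore.sup_eq (compl_K hG h hM hnil hKU)
  rw [h0, bot_sup_eq] at h1
  have h2 := (sigmaCore_le_derived hG h hM).trans_lt (BGSigma.coatom_derived_lt hG hM)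
  exact h2.ne h1

theorem prime_star : (Nat.card ↥(sigmaCore M ⊓ centralizer (K : Set G))).Prime :=
  star_prime_of hG h hM hKU (K_ne_bot hG h hM hnil hKU) (U_eq_bot hG h hM hnil hKU)

theorem coprime_K : (Nat.card K).Coprime (Nat.card (sigmaCore M)) :=
  TypeCore.coprime_kappa hKU.hall

theorem sigma_K_eq : ⁅sigmaCore M, K⁆ = sigmaCore M :=
  (h.sigma_meet M hM K (compl_K hG h hM hnil hKU)).2.1

theorem fixed_eq {k : G} (hk : k ∈ K) (hk1 : k ≠ 1) :
    sigmaCore M ⊓ centralizer ({k} : Set G) = sigmaCore M ⊓ centralizer (K : Set G) :=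
  (h.kappa_context M hM K hKU.hall (K_ne_bot hG h hM hnil hKU)).1 k hk hk1

/-- The image of the fixed points of an element of `K` in a quotient by a subgroup of `M_σ`. -/
theorem map_fixed (N : Subgroup M) [N.Normal] (hN : N ≤ (sigmaCore M).subgroupOf M) {k : M}
    (hk : (k : G) ∈ K) (hk1 : k ≠ 1) :
    ((sigmaCore M).subgroupOf M).map (QuotientGroup.mk' N) ⊓
        centralizer ({QuotientGroup.mk' N k} : Set (M ⧸ N)) =
      ((sigmaCore M ⊓ centralizer (K : Set G)).subgroupOf M).map (QuotientGroup.mk' N) := by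
  haveI := BGSigma.coatom_isSolvable hG hM
  rw [← centralizer_map_zpowers, OddLocal43.map_inf_centralizer N (zpowers k) _ ?_ inferInstance hN]
  · congr 1
    ext y
    rw [mem_subgroupOf, ← fixed_eq hG h hM hnil hKU hk fun h0 => hk1 (Subtype.ext h0)]
    simp only [mem_inf, mem_subgroupOf, mem_centralizer_iff, Set.mem_singleton_iff, forall_eq]
    constructor
    · rintro ⟨h1, h2⟩
      exact ⟨h1, congrArg Subtype.val (h2 k (mem_zpowers k))⟩
    · rintro ⟨h1, h2⟩
      refine ⟨h1, fun a ha => ?_⟩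
      obtain ⟨i, rfl⟩ := mem_zpowers_iff.mp ha
      exact ((show Commute k y from Subtype.ext h2).zpow_left i).eq
  · refine Nat.Coprime.coprime_dvd_left ?_ ((coprime_K hG h hM hnil hKU).coprime_dvd_right ?_)
    · rw [Nat.card_zpowers, ← Subgroup.orderOf_coe]
      exact Subgroup.orderOf_dvd_natCard K hk
    · rw [← Nat.card_congr (subgroupOfEquivOfLe (sigmaCore_le M)).toEquiv]
      exact card_dvd_of_le hN

/-- A quotient of `M_σ` on which `K` has no fixed points is nilpotent. -/
theorem isNilpotent_map (N : Subgroup M) [N.Normal] (hN : N ≤ (sigmaCore M).subgroupOf M)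
    (hst : (sigmaCore M ⊓ centralizer (K : Set G)).subgroupOf M ≤ N) :
    Group.IsNilpotent (((sigmaCore M).subgroupOf M).map (QuotientGroup.mk' N)) := by
  set f := QuotientGroup.mk' N with hf
  set S := (sigmaCore M).subgroupOf M with hS
  by_cases hS1 : S.map f = ⊥
  · rw [hS1]; infer_instance
  obtain ⟨p, hp, hpd⟩ := Nat.exists_prime_and_dvd
    (mt card_eq_one.mp (K_ne_bot hG h hM hnil hKU))
  haveI := Fact.mk hp
  obtain ⟨⟨k₀, hk₀⟩, hko⟩ := exists_prime_orderOf_dvd_card' (G := K) p hpd
  rw [Subgroup.orderOf_mk] at hko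
  set k : M := ⟨k₀, hKU.hall.1 hk₀⟩ with hk
  have hko' : orderOf k = p := by rw [hk, Subgroup.orderOf_mk, hko]
  haveI hSn : S.Normal :=
    (normal_subgroupOf_iff_le_normalizer (sigmaCore_le M)).mpr (le_normalizer_sigmaCore M)
  have hfk : f k ≠ 1 := by
    intro h0
    have hkN : k ∈ N := (QuotientGroup.eq_one_iff k).mp h0
    have hkσ : k₀ ∈ K ⊓ sigmaCore M := ⟨hk₀, hN hkN⟩
    rw [inf_eq_bot_of_coprime (coprime_K hG h hM hnil hKU), mem_bot] at hkσ
    rw [hkσ, orderOf_one] at hko
    exact hp.ne_one hko.symm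
  refine OddLocal43.isNilpotent_of_frobenius (S.map f) (zpowers (f k)) hS1
    (zpowers_ne_bot.mpr hfk) ?_ ?_ fun r hr hr1 => ?_
  · haveI : (S.map f).Normal := hSn.map f (QuotientGroup.mk'_surjective N)
    rw [normalizer_eq_top]; exact le_top
  · refine inf_eq_bot_of_coprime ?_
    refine ((coprime_K hG h hM hnil hKU).symm.coprime_dvd_left ?_).coprime_dvd_right ?_
    · rw [← Nat.card_congr (subgroupOfEquivOfLe (sigmaCore_le M)).toEquiv]
      exact S.card_map_dvd f
    · rw [Nat.card_zpowers]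
      exact ((orderOf_map_dvd f k).trans (by rw [hk, Subgroup.orderOf_mk])).trans
        (Subgroup.orderOf_dvd_natCard K hk₀)
  · obtain ⟨i, hi⟩ := mem_zpowers_iff.mp hr
    rw [← map_zpow] at hi
    have hki1 : k ^ i ≠ 1 := fun h0 => hr1 (by rw [← hi, h0, map_one])
    rw [← hi, map_fixed hG h hM hnil hKU N hN (k := k ^ i) (zpow_mem hk₀ i) hki1,
      Subgroup.map_eq_bot_iff, QuotientGroup.ker_mk']
    exact hst

theorem star_le_core {q : ℕ} [Fact q.Prime]
    (hq : Nat.card ↥(sigmaCore M ⊓ centralizer (K : Set G)) = q) :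
    sigmaCore M ⊓ centralizer (K : Set G) ≤ BGUniq.core q (sigmaCore M) := by
  by_contra hle
  refine hnil ?_
  haveI := BGSigma.coatom_isSolvable hG hM
  set S := (sigmaCore M).subgroupOf M with hS
  haveI hSn : S.Normal :=
    (normal_subgroupOf_iff_le_normalizer (sigmaCore_le M)).mpr (le_normalizer_sigmaCore M)
  have hKM : K ≤ M := hKU.hall.1
  set F : Subgroup G := (fittingOf S).map M.subtype with hF
  have hFS : fittingOf S ≤ S := BGUniq.fittingOf_le S
  have hFσ : F ≤ sigmaCore M := by
    rintro _ ⟨y, hy, rfl⟩; exact hFS hy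
  have hFM : M ≤ normalizer (F : Set G) := fun x hx => by
    haveI : (fittingOf S).Normal := Thompson.map_subtype_normal_of_characteristic _ _
    exact (fittingOf S).le_normalizer_map M.subtype
      ⟨⟨x, hx⟩, by rw [normalizer_eq_top]; trivial, rfl⟩
  have hFF : F ≤ fittingOf (sigmaCore M) := by
    have hn : (F.subgroupOf (sigmaCore M)).Normal :=
      (normal_subgroupOf_iff_le_normalizer hFσ).mpr ((sigmaCore_le M).trans hFM)
    haveI := BGUniq.isNilpotent_fittingOf S
    haveI : Group.IsNilpotent F := Fitting.isNilpotent_map _ inferInstance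
    have := Subgroup.map_mono (f := (sigmaCore M).subtype) (Fitting.le_fitting hn
      (Group.nilpotent_of_mulEquiv (subgroupOfEquivOfLe hFσ).symm))
    rwa [map_subgroupOf_eq_of_le hFσ] at this
  have hmain : ⁅S, K.subgroupOf M⁆ ≤ fittingOf S := by
    refine S1445.result (BGSigma.odd_card_subgroup hG M) S (K.subgroupOf M) ?_ ?_ ?_ ?_
    · refine eq_top_iff.mpr fun x _ => ?_
      obtain ⟨a, ha, b, hb, hab⟩ :=
        (TypeCore.complIn_symm (compl_K hG h hM hnil hKU)).2.2.2 x x.2
      have hx : x = (⟨a, sigmaCore_le M ha⟩ : M) * ⟨b, hKM hb⟩ := Subtype.ext hab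
      rw [hx]
      exact mul_mem_sup ha hb
    · rw [Nat.card_congr (subgroupOfEquivOfLe (sigmaCore_le M)).toEquiv,
        Nat.card_congr (subgroupOfEquivOfLe hKM).toEquiv]
      exact (coprime_K hG h hM hnil hKU).symm
    · intro x hx hx1
      refine le_antisymm (fun y hy => ⟨hy.1, mem_centralizer_iff.mpr fun a ha => Subtype.ext ?_⟩)
        (inf_le_inf_left _ (centralizer_le (Set.singleton_subset_iff.mpr hx)))
      have hy' : (y : G) ∈ sigmaCore M ⊓ centralizer ({(x : G)} : Set G) :=
        ⟨hy.1, mem_centralizer_singleton.mpr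
          (congrArg Subtype.val (mem_centralizer_singleton.mp hy.2))⟩
      rw [fixed_eq hG h hM hnil hKU (k := (x : G)) (show (x : G) ∈ K from hx)
        fun h0 => hx1 (Subtype.ext h0)] at hy'
      exact mem_centralizer_iff.mp hy'.2 a ha
    · refine (eq_bot_iff_forall _).mpr fun y hy => by_contra fun hy1 => hle ?_
      have hy' : (y : G) ∈ sigmaCore M ⊓ centralizer (K : Set G) := by
        refine ⟨hFS hy.1, mem_centralizer_iff.mpr fun a ha => ?_⟩
        exact congrArg Subtype.val (mem_centralizer_iff.mp hy.2 ⟨a, hKM ha⟩ ha)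
      have hord : orderOf (y : G) = q :=
        ((Nat.dvd_prime Fact.out).mp (hq ▸ Subgroup.orderOf_dvd_natCard _ hy')).resolve_left
          fun h0 => hy1 (Subtype.ext (orderOf_eq_one_iff.mp h0))
      have heq : zpowers (y : G) = sigmaCore M ⊓ centralizer (K : Set G) :=
        eq_of_le_of_card_ge ((zpowers_le).mpr hy') (by rw [hq, Nat.card_zpowers, hord])
      rw [← heq, zpowers_le]
      exact BGUniq.mem_core_of_mem_fittingOf (hFF (mem_map_of_mem M.subtype hy.1)) (j := 1)
        (by rw [hord, pow_one])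
  have hσF : sigmaCore M ≤ F := by
    rw [← sigma_K_eq hG h hM hnil hKU]
    refine le_trans ?_ (Subgroup.map_mono (f := M.subtype) hmain)
    rw [map_commutator, map_subgroupOf_eq_of_le (sigmaCore_le M), map_subgroupOf_eq_of_le hKM]
  haveI := BGUniq.isNilpotent_fittingOf S
  haveI : Group.IsNilpotent F := Fitting.isNilpotent_map _ inferInstance
  rwa [le_antisymm hFσ hσF] at this

section Core

variable {q : ℕ} [hqf : Fact q.Prime]
  (hq : Nat.card ↥(sigmaCore M ⊓ centralizer (K : Set G)) = q)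
include hq

local notation "Q" => BGUniq.core q (sigmaCore M)

theorem core_le_normalizer : M ≤ normalizer ((Q : Subgroup G) : Set G) :=
  (le_normalizer_sigmaCore M).trans (Coprime.normalizer_le_normalizer_map _ _)

theorem mem_sigma_q : q ∈ sigma M :=
  isPiSub_sigmaCore M q Fact.out (hq ▸ card_dvd_of_le inf_le_left)

theorem core_le_M : Q ≤ M := (BGUniq.core_le q _).trans (sigmaCore_le M)

theorem nilpotent_image [((Q).subgroupOf M).Normal] :
    Group.IsNilpotent (((sigmaCore M).subgroupOf M).map (QuotientGroup.mk' ((Q).subgroupOf M))) :=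
  isNilpotent_map hG h hM hnil hKU ((Q).subgroupOf M) (fun _ hx => BGUniq.core_le q (sigmaCore M) hx)
    fun _ hx => star_le_core hG h hM hnil hKU hq hx

theorem not_dvd_core_relIndex : ¬ q ∣ (Q).relIndex (sigmaCore M) := by
  haveI : ((Q).subgroupOf M).Normal :=
    (normal_subgroupOf_iff_le_normalizer (core_le_M hG h hM hnil hKU hq)).mpr
      (core_le_normalizer hG h hM hnil hKU hq)
  have hnq := nilpotent_image hG h hM hnil hKU hq
  set f := QuotientGroup.mk' ((Q).subgroupOf M) with hf
  set S := (sigmaCore M).subgroupOf M with hS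
  haveI hSn : S.Normal :=
    (normal_subgroupOf_iff_le_normalizer (sigmaCore_le M)).mpr (le_normalizer_sigmaCore M)
  haveI : (S.map f).Normal := hSn.map f (QuotientGroup.mk'_surjective _)
  intro hd
  have hker : f.ker = (Q).subgroupOf M := QuotientGroup.ker_mk' _
  have hcard : Nat.card (S.map f) = (Q).relIndex (sigmaCore M) := by
    rw [← relIndex_ker, hker]
    show ((Q).subgroupOf M).relIndex S = _
    rw [hS, Subgroup.relIndex_subgroupOf (sigmaCore_le M)]
  let T : Sylow q (S.map f) := default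
  haveI := Transfer.nilpotent_sylow_normal hnq T
  haveI := Sylow.characteristic_of_normal T inferInstance
  haveI hTn : ((T : Subgroup (S.map f)).map (S.map f).subtype).Normal :=
    Thompson.map_subtype_normal_of_characteristic _ _
  set W : Subgroup M := ((T : Subgroup (S.map f)).map (S.map f).subtype).comap f with hW
  have hWp : IsPGroup q W := (T.isPGroup'.map _).comap_of_ker_isPGroup f
    (by rw [hker]; exact (BGUniq.isPGroup_core q (sigmaCore M)).comap_subtype)
  have hWS : W ≤ S := fun x hx => by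
    obtain ⟨y, hy, hyx⟩ := (map_subtype_le _ hx : f x ∈ S.map f)
    have h1 : y⁻¹ * x ∈ f.ker := by rw [MonoidHom.mem_ker, map_mul, map_inv, hyx, inv_mul_cancel]
    rw [hker] at h1
    exact ((S.mul_mem_cancel_left (inv_mem hy)).mp (BGUniq.core_le q (sigmaCore M) h1 :))
  have hWQ : W ≤ f.ker := by
    haveI : W.Normal := hTn.comap f
    have hn : ((W.map M.subtype).subgroupOf (sigmaCore M)).Normal := by
      refine (normal_subgroupOf_iff_le_normalizer ?_).mpr ((sigmaCore_le M).trans fun x hx =>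
        W.le_normalizer_map M.subtype ⟨⟨x, hx⟩, by rw [normalizer_eq_top]; trivial, rfl⟩)
      rintro _ ⟨x, hx, rfl⟩; exact hWS hx
    have h1 : (W.map M.subtype).subgroupOf (sigmaCore M) ≤ pCore q (sigmaCore M) :=
      le_sSup ⟨hn, (hWp.map M.subtype).comap_subtype⟩
    intro x hx
    rw [hker]
    exact mem_map.mpr ⟨⟨x, hWS hx⟩, h1 (show (x : G) ∈ W.map M.subtype from ⟨x, hx, rfl⟩), rfl⟩
  have hT1 : (T : Subgroup (S.map f)) = ⊥ := by
    refine (eq_bot_iff_forall _).mpr fun t ht => Subtype.ext ?_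
    obtain ⟨x, hx, hxt⟩ := t.2
    have : x ∈ W := by rw [hW, mem_comap, hxt]; exact mem_map_of_mem _ ht
    exact hxt ▸ (MonoidHom.mem_ker.mp (hWQ this))
  exact T.ne_bot_of_dvd_card (hcard ▸ hd) hT1

theorem core_coprime : (Nat.card (Q : Subgroup G)).Coprime ((Q).relIndex (sigmaCore M)) := by
  obtain ⟨n, hn⟩ := (BGUniq.isPGroup_core q (sigmaCore M)).exists_card_eq
  rw [hn]
  exact Nat.Coprime.pow_left n ((Nat.Prime.coprime_iff_not_dvd Fact.out).mpr
    (not_dvd_core_relIndex hG h hM hnil hKU hq))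

theorem core_coprime_M : (Nat.card (Q : Subgroup G)).Coprime ((Q).relIndex M) := by
  rw [← relIndex_mul_relIndex _ _ _ (BGUniq.core_le q _) (sigmaCore_le M)]
  exact Nat.Coprime.mul_right (core_coprime hG h hM hnil hKU hq)
    ((coprime_of_hall (hall hG hM)).coprime_dvd_left (card_dvd_of_le (BGUniq.core_le q _)))

theorem core_le_fittingHallOf : Q ≤ fittingHallOf M :=
  le_fittingHallOf (core_le_M hG h hM hnil hKU hq) (core_le_normalizer hG h hM hnil hKU hq)
    (BGUniq.isPGroup_core q _).isNilpotent (core_coprime_M hG h hM hnil hKU hq)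

theorem compl_nilpotent {D : Subgroup G} (hD : IsComplIn Q D (sigmaCore M)) :
    Group.IsNilpotent D := by
  haveI : ((Q).subgroupOf M).Normal :=
    (normal_subgroupOf_iff_le_normalizer (core_le_M hG h hM hnil hKU hq)).mpr
      (core_le_normalizer hG h hM hnil hKU hq)
  have hDM : D ≤ M := hD.2.1.trans (sigmaCore_le M)
  have hmeet : D.subgroupOf M ⊓ (Q).subgroupOf M = ⊥ :=
    (eq_bot_iff_forall _).mpr fun x hx => Subtype.ext
      ((eq_bot_iff_forall _).mp hD.2.2.1 x ⟨hx.2, hx.1⟩)
  haveI := isNilpotent_of_image (nilpotent_image hG h hM hnil hKU hq)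
    (fun x hx => hD.2.1 hx : D.subgroupOf M ≤ (sigmaCore M).subgroupOf M) hmeet
  exact Group.nilpotent_of_mulEquiv (subgroupOfEquivOfLe hDM)

theorem exists_invariant_compl :
    ∃ D : Subgroup G, IsComplIn Q D (sigmaCore M) ∧ K ≤ normalizer (D : Set G) := by
  obtain ⟨D, hD, hKD⟩ := Coprime.exists_invariant_hall K (sigmaCore M)
    (hKU.hall.1.trans (le_normalizer_sigmaCore M)) (coprime_K hG h hM hnil hKU)
    (Coprime.solvable_of_le (sigmaCore_le M) (BGSigma.coatom_isSolvable hG hM))
    {r | r.Prime ∧ r ≠ q}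
  refine ⟨D, TypeCore.complIn_of_sup (BGUniq.core_le q _) hD.1
    (hD.1.trans ((sigmaCore_le M).trans (core_le_normalizer hG h hM hnil hKU hq))) ?_ ?_, hKD⟩
  · refine inf_eq_bot_of_coprime ?_
    obtain ⟨n, hn⟩ := (BGUniq.isPGroup_core q (sigmaCore M)).exists_card_eq
    rw [hn]
    exact Nat.Coprime.pow_left n ((Nat.Prime.coprime_iff_not_dvd Fact.out).mpr fun hd =>
      (hD.2.1 q Fact.out hd).2 rfl)
  · set X := Q ⊔ D with hX
    have hXS : X ≤ sigmaCore M := sup_le (BGUniq.core_le q _) hD.1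
    have h1 : X.relIndex (sigmaCore M) ∣ (Q).relIndex (sigmaCore M) :=
      ⟨_, by rw [mul_comm]; exact (relIndex_mul_relIndex Q X _ le_sup_left hXS).symm⟩
    have h2 : X.relIndex (sigmaCore M) ∣ D.relIndex (sigmaCore M) :=
      ⟨_, by rw [mul_comm]; exact (relIndex_mul_relIndex D X _ le_sup_right hXS).symm⟩
    refine relIndex_eq_one.mp (Nat.eq_one_iff_not_exists_prime_dvd.mpr fun r hr hd => ?_)
    by_cases hrq : r = q
    · have h3 := hd.trans h1
      rw [hrq] at h3
      exact not_dvd_core_relIndex hG h hM hnil hKU hq h3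
    · exact hD.2.2 r hr ⟨hr, hrq⟩ (hd.trans h2)

theorem exists_conj_compl {D D' : Subgroup G} (hD : IsComplIn Q D (sigmaCore M))
    (hD' : IsComplIn Q D' (sigmaCore M)) :
    ∃ x ∈ Q, D.map (MulAut.conj x).toMonoidHom = D' := by
  have hn := (sigmaCore_le M).trans (core_le_normalizer hG h hM hnil hKU hq)
  have hcard : ∀ {E : Subgroup G}, IsComplIn Q E (sigmaCore M) →
      (Q).relIndex (sigmaCore M) = Nat.card E := fun hE => card_eq_of_complIn hE hn
  have hcop : ∀ {E : Subgroup G}, IsComplIn Q E (sigmaCore M) →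
      (Nat.card E).Coprime (Nat.card (Q : Subgroup G)) := fun hE =>
    (hcard hE) ▸ (core_coprime hG h hM hnil hKU hq).symm
  obtain ⟨x, hx, hxD⟩ := Coprime.exists_conj_le Q D D' (hD.2.1.trans hn) (hD'.2.1.trans hn)
    (hD.2.1.trans (TypeCore.sup_eq hD').ge) (hcop hD) (hcop hD')
    (Or.inr (Coprime.solvable_of_le (core_le_M hG h hM hnil hKU hq)
      (BGSigma.coatom_isSolvable hG hM)))
  refine ⟨x, hx, eq_of_le_of_card_ge (BGSigma.map_conj_le_iff.mpr hxD) ?_⟩
  rw [BGSigma.card_map_conj, ← hcard hD, ← hcard hD']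

end Core

end NotNilpotent

end Cfsg.Agent.BGSummary.Loc
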