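import Cfsg.Agent.BGSummary.FittingHallLayers

/-!
# `M_F` and `F(M)`

The statements S1355, S1356 and S1437, from the local structure.
-/

set_option autoImplicit false
set_option linter.unusedSectionVars false
set_option linter.style.haveILetI false
set_option linter.deprecated false

namespace Cfsg.Agent.BGSummary.Loc

open Cfsg Subgroup
open scoped commutatorElement
open Cfsg.Agent.BGSigma (sigmaCore_le le_normalizer_sigmaCore isPiSub_sigmaCore localInputs)

universe u

variable {G : Type u} [Group G] [Finite G]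

/-- If `S = A B` and `A` lies in the kernel, then `S` and `B` have the same image. -/
theorem map_eq_of_mul {Y Z : Type*} [Group Y] [Group Z] (f : Y →* Z) {S A B : Subgroup Y}
    (hA : A ≤ f.ker) (hB : B ≤ S) (h : ∀ s ∈ S, ∃ a ∈ A, ∃ b ∈ B, s = a * b) :
    S.map f = B.map f := by
  refine le_antisymm ?_ (map_mono hB)
  rintro _ ⟨s, hs, rfl⟩
  obtain ⟨a, ha, b, hb, rfl⟩ := h s hs
  rw [map_mul, MonoidHom.mem_ker.mp (hA ha), one_mul]
  exact mem_map_of_mem f hb

theorem isNilpotent_map' {Y Z : Type*} [Group Y] [Group Z] (f : Y →* Z) {B : Subgroup Y}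
    (hB : Group.IsNilpotent B) : Group.IsNilpotent (B.map f) := by
  haveI := hB
  exact Group.nilpotent_of_surjective (f.subgroupMap B) (f.subgroupMap_surjective B)

theorem le_fittingOf {M N : Subgroup G} (hNM : N ≤ M) (hn : M ≤ normalizer (N : Set G))
    (hnil : Group.IsNilpotent N) : N ≤ fittingOf M := by
  have := Subgroup.map_mono (f := M.subtype) (Fitting.le_fitting
    ((normal_subgroupOf_iff_le_normalizer hNM).mpr hn)
    (Group.nilpotent_of_mulEquiv (subgroupOfEquivOfLe hNM).symm))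
  rwa [map_subgroupOf_eq_of_le hNM] at this

variable (hG : IsMinSimpleOddOrder G) (h : LocalStructure G) {M : Subgroup G} (hM : IsCoatom M)
include hG h hM

theorem exists_decomposition : ∃ K U : Subgroup G, IsSigmaDecomposition M K U := by
  obtain ⟨K, hK⟩ := (h.kappa_hall M hM).1
  obtain ⟨U, hU⟩ := (h.decomp M hM K ((h.kappa_hall M hM).2 K hK) hK).1
  exact ⟨K, U, hU⟩

theorem exists_q (hnil : ¬ Group.IsNilpotent (sigmaCore M)) {K U : Subgroup G}
    (hKU : IsSigmaDecomposition M K U) :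
    ∃ q : ℕ, q.Prime ∧ Nat.card ↥(sigmaCore M ⊓ centralizer (K : Set G)) = q :=
  ⟨_, prime_star hG h hM hnil hKU, rfl⟩

theorem derived_eq_sigma (hnil : ¬ Group.IsNilpotent (sigmaCore M)) {K U : Subgroup G}
    (hKU : IsSigmaDecomposition M K U) : ⁅M, M⁆ = sigmaCore M := by
  rw [derived_eq hG h hM hKU (K_ne_bot hG h hM hnil hKU), U_eq_bot hG h hM hnil hKU, bot_sup_eq]

theorem prime_K_of_not_nilpotent (hnil : ¬ Group.IsNilpotent (sigmaCore M)) {K U : Subgroup G}
    (hKU : IsSigmaDecomposition M K U) : (Nat.card K).Prime := by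
  obtain ⟨q, hqp, hq⟩ := exists_q hG h hM hnil hKU
  haveI := Fact.mk hqp
  obtain ⟨D, hD, hKD⟩ := exists_invariant_compl hG h hM hnil hKU hq
  exact (layer hG h hM hnil hKU hq hD hKD (fixed_lt hG h hM hnil hKU hq hD) le_rfl
    (core_le_normalizer hG h hM hnil hKU hq)).1

/-- S1437. -/
theorem fitting_structure_of {K U : Subgroup G} (hKU : IsSigmaDecomposition M K U)
    (hne : fittingHallOf M ≠ sigmaCore M) :
    U = ⊥ ∧ sigmaCore M = ⁅M, M⁆ ∧ (Nat.card K).Prime ∧
      (Nat.card ↥(sigmaCore M ⊓ centralizer (K : Set G))).Prime ∧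
      Nat.card ↥(sigmaCore M ⊓ centralizer (K : Set G)) ∣ Nat.card (fittingHallOf M) ∧
      Nat.card ↥(sigmaCore M ⊓ centralizer (K : Set G)) ∈ beta M ∧
      ∃ Q : Subgroup G, Q ≤ fittingHallOf M ∧ M ≤ normalizer (Q : Set G) ∧
        IsPGroup (Nat.card ↥(sigmaCore M ⊓ centralizer (K : Set G))) Q ∧
        ¬ Nat.card ↥(sigmaCore M ⊓ centralizer (K : Set G)) ∣ Q.relIndex (sigmaCore M) ∧
        ∀ D : Subgroup G, IsComplIn Q D (sigmaCore M) →
          Group.IsNilpotent D ∧
          M ≤ normalizer ((Q ⊓ centralizer (D : Set G) : Subgroup G) : Set G) ∧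
          Q ⊓ centralizer (D : Set G) < Q ∧
          Nat.card Q = Nat.card ↥(Q ⊓ centralizer (D : Set G)) *
            Nat.card ↥(sigmaCore M ⊓ centralizer (K : Set G)) ^ Nat.card K ∧
          (∀ a ∈ Q, ∀ b ∈ Q,
            a ^ Nat.card ↥(sigmaCore M ⊓ centralizer (K : Set G)) ∈ Q ⊓ centralizer (D : Set G) ∧
            a * b * a⁻¹ * b⁻¹ ∈ Q ⊓ centralizer (D : Set G)) ∧
          ∀ N : Subgroup G, Q ⊓ centralizer (D : Set G) < N → N < Q →
            ¬ M ≤ normalizer (N : Set G) := by
  have hnil : ¬ Group.IsNilpotent (sigmaCore M) := fun hn =>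
    hne (fittingHallOf_eq_sigmaCore hG h hM hn)
  obtain ⟨q, hqp, hq⟩ := exists_q hG h hM hnil hKU
  haveI := Fact.mk hqp
  have hQn := core_le_normalizer hG h hM hnil hKU hq
  have hQF := core_le_fittingHallOf hG h hM hnil hKU hq
  refine ⟨U_eq_bot hG h hM hnil hKU, (derived_eq_sigma hG h hM hnil hKU).symm,
    prime_K_of_not_nilpotent hG h hM hnil hKU, ?_⟩
  rw [hq]
  refine ⟨hqp, ?_, mem_beta_core hG h hM hnil hKU hq, BGUniq.core q (sigmaCore M), hQF, hQn,
    BGUniq.isPGroup_core q _, not_dvd_core_relIndex hG h hM hnil hKU hq, fun D' hD' => ?_⟩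
  · rw [← hq]
    exact card_dvd_of_le ((star_le_core hG h hM hnil hKU hq).trans hQF)
  obtain ⟨D, hD, hKD⟩ := exists_invariant_compl hG h hM hnil hKU hq
  obtain ⟨x, hx, hxD⟩ := exists_conj_compl hG h hM hnil hKU hq hD hD'
  set Q := BGUniq.core q (sigmaCore M) with hQ
  have hQ₀n := le_normalizer_fixed hG h hM hnil hKU hq hD hKD
  have hxM : x ∈ M := core_le_M hG h hM hnil hKU hq hx
  have heq : Q ⊓ centralizer (D' : Set G) = Q ⊓ centralizer (D : Set G) := by
    rw [← hxD, BGSigma.map_conj_centralizer, ← BGSigma.map_conj_eq_self (hQn hxM),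
      ← map_inf _ _ _ (MulAut.conj x).injective,
      BGSigma.map_conj_eq_self (hQ₀n hxM), BGSigma.map_conj_eq_self (hQn hxM)]
  rw [heq]
  have hlt := fixed_lt hG h hM hnil hKU hq hD
  refine ⟨compl_nilpotent hG h hM hnil hKU hq hD', hQ₀n, hlt,
    (layer hG h hM hnil hKU hq hD hKD hlt le_rfl hQn).2.1, fun a ha b hb => ?_,
    fun N hN hNQ hNn => ?_⟩
  · have hΦ : OddLocal43.frattiniOf Q ≤ Q ⊓ centralizer (D : Set G) :=
      le_inf (frattini_le_core hG h hM hnil hKU hq)
        (frattini_le_centralizer hG h hM hnil hKU hq hD hKD)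
    refine ⟨hΦ (OddLocal43.pow_mem_frattiniOf (BGUniq.isPGroup_core q _) ha), ?_⟩
    exact hΦ ⟨⁅(⟨a, ha⟩ : Q), (⟨b, hb⟩ : Q)⁆,
      PGroup.comm_mem_frattini (BGUniq.isPGroup_core q _) _ _, rfl⟩
  · have h1 := (layer hG h hM hnil hKU hq hD hKD hN hNQ.le hNn).2.1
    have h2 := (layer hG h hM hnil hKU hq hD hKD hlt le_rfl hQn).2.1
    exact hNQ.ne (eq_of_le_of_card_ge hNQ.le (h2.trans h1.symm).le)

/-- S1355. -/
theorem fitting_core_of :
    fittingHallOf M ≠ ⊥ ∧ fittingHallOf M ≤ sigmaCore M ∧ sigmaCore M ≤ ⁅M, M⁆ ∧ ⁅M, M⁆ < M ∧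
      Group.IsNilpotent ↥((commutator ↥M).map (QuotientGroup.mk' (fittingHall ↥M))) := by
  have hle := fittingHallOf_le_sigmaCore hG h hM
  have hder := sigmaCore_le_derived hG h hM
  set f := QuotientGroup.mk' (fittingHall ↥M) with hf
  have hker : f.ker = fittingHall ↥M := QuotientGroup.ker_mk' _
  obtain ⟨K, U, hKU⟩ := exists_decomposition hG h hM
  by_cases hnil : Group.IsNilpotent (sigmaCore M)
  · have heq := fittingHallOf_eq_sigmaCore hG h hM hnil
    refine ⟨heq ▸ sigmaCore_ne_bot hG h hM, hle, hder, BGSigma.coatom_derived_lt hG hM, ?_⟩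
    have hE := compl_sup hKU
    have hEM : U ⊔ K ≤ M := hE.1
    have htop : (⊤ : Subgroup M).map f = ((U ⊔ K).subgroupOf M).map f := by
      refine map_eq_of_mul f (A := fittingHall ↥M) hker.ge le_top fun m _ => ?_
      obtain ⟨a, ha, b, hb, hab⟩ := (TypeCore.complIn_symm hE).2.2.2 m m.2
      rw [← heq] at ha
      obtain ⟨a', ha', rfl⟩ := ha
      exact ⟨a', ha', ⟨b, hEM hb⟩, hb, Subtype.ext hab⟩
    rw [commutator_def, map_commutator, htop, ← map_commutator]
    refine isNilpotent_map' f ?_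
    haveI := (h.compl_context M hM _ hE).1
    have e1 : (⁅(U ⊔ K).subgroupOf M, (U ⊔ K).subgroupOf M⁆).map M.subtype =
        ⁅U ⊔ K, U ⊔ K⁆ := by
      rw [map_commutator, map_subgroupOf_eq_of_le hEM]
    exact Group.nilpotent_of_mulEquiv ((equivMapOfInjective _ M.subtype M.subtype_injective).trans
      (MulEquiv.subgroupCongr e1)).symm
  · obtain ⟨q, hqp, hq⟩ := exists_q hG h hM hnil hKU
    haveI := Fact.mk hqp
    have hQF := core_le_fittingHallOf hG h hM hnil hKU hq
    refine ⟨fun h0 => ?_, hle, hder, BGSigma.coatom_derived_lt hG hM, ?_⟩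
    · have := card_dvd_of_le (((star_le_core hG h hM hnil hKU hq).trans hQF).trans h0.le)
      rw [hq, card_bot] at this
      exact hqp.not_dvd_one this
    obtain ⟨D, hD, -⟩ := exists_invariant_compl hG h hM hnil hKU hq
    have hDM : D ≤ M := hD.2.1.trans (sigmaCore_le M)
    have hc : commutator ↥M = (sigmaCore M).subgroupOf M := by
      apply map_injective M.subtype_injective
      rw [map_subtype_commutator, map_subgroupOf_eq_of_le (sigmaCore_le M),
        derived_eq_sigma hG h hM hnil hKU]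
    rw [hc, map_eq_of_mul f (A := fittingHall ↥M) (B := D.subgroupOf M) hker.ge
      (fun _ hx => hD.2.1 hx) fun s hs => ?_]
    · refine isNilpotent_map' f ?_
      haveI := compl_nilpotent hG h hM hnil hKU hq hD
      exact Group.nilpotent_of_mulEquiv (subgroupOfEquivOfLe hDM).symm
    · obtain ⟨a, ha, b, hb, hab⟩ := hD.2.2.2 s hs
      obtain ⟨a', ha', rfl⟩ := hQF ha
      exact ⟨a', ha', ⟨b, hDM hb⟩, hb, Subtype.ext hab⟩

/-- The second derived subgroup of `M` lies in `F(M)`. -/
theorem derived_two_le_fittingOf : ⁅⁅M, M⁆, ⁅M, M⁆⁆ ≤ fittingOf M := by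
  obtain ⟨K, U, hKU⟩ := exists_decomposition hG h hM
  by_cases hnil : Group.IsNilpotent (sigmaCore M)
  · refine le_trans ?_ (sigmaCore_le_fittingOf hG h hM hnil)
    have hE := compl_sup hKU
    set S := (sigmaCore M).subgroupOf M with hS
    haveI hSn : S.Normal :=
      (normal_subgroupOf_iff_le_normalizer (sigmaCore_le M)).mpr (le_normalizer_sigmaCore M)
    set f := QuotientGroup.mk' S with hf
    have hker : f.ker = S := QuotientGroup.ker_mk' _
    set E := (U ⊔ K).subgroupOf M with hEdef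
    have htop : (⊤ : Subgroup M).map f = E.map f := by
      refine map_eq_of_mul f (A := S) hker.ge le_top fun m _ => ?_
      obtain ⟨a, ha, b, hb, hab⟩ := (TypeCore.complIn_symm hE).2.2.2 m m.2
      exact ⟨⟨a, sigmaCore_le M ha⟩, ha, ⟨b, hE.1 hb⟩, hb, Subtype.ext hab⟩
    haveI := (h.sigma_prime M hM _ hE).2.1
    have hEE : ⁅⁅E, E⁆, ⁅E, E⁆⁆ = ⊥ := by
      apply map_injective M.subtype_injective
      rw [map_commutator, map_commutator, map_subgroupOf_eq_of_le hE.1, Subgroup.map_bot,
        commutator_eq_bot_iff_le_centralizer]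
      exact fun x hx => mem_centralizer_iff.mpr fun y hy =>
        congrArg Subtype.val (mul_comm' (⟨y, hy⟩ : (⁅U ⊔ K, U ⊔ K⁆ : Subgroup G)) ⟨x, hx⟩)
    have h1 : ⁅⁅(⊤ : Subgroup M), (⊤ : Subgroup M)⁆, ⁅(⊤ : Subgroup M), (⊤ : Subgroup M)⁆⁆ ≤ S := by
      rw [← hker, ← Subgroup.map_eq_bot_iff, map_commutator, map_commutator, htop,
        ← map_commutator, ← map_commutator, hEE, Subgroup.map_bot]
    have h2 := map_mono (f := M.subtype) h1
    rw [map_commutator, map_commutator, map_subgroupOf_eq_of_le (sigmaCore_le M),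
      ← MonoidHom.range_eq_map, range_subtype] at h2
    exact h2
  · obtain ⟨q, hqp, hq⟩ := exists_q hG h hM hnil hKU
    haveI := Fact.mk hqp
    rw [derived_eq_sigma hG h hM hnil hKU]
    obtain ⟨D, hD, hKD⟩ := exists_invariant_compl hG h hM hnil hKU hq
    set Q := BGUniq.core q (sigmaCore M) with hQ
    have hQn := core_le_normalizer hG h hM hnil hKU hq
    have hQM := core_le_M hG h hM hnil hKU hq
    have hDD : ⁅D, D⁆ ≤ D := Coprime.commutator_le_of_le_normalizer le_normalizer
    have hlay := (layer hG h hM hnil hKU hq hD hKD (fixed_lt hG h hM hnil hKU hq hD) le_rfl hQn).2.2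
    have hDQ : ∀ a ∈ ⁅D, D⁆, ∀ x ∈ Q, Commute x a := by
      set Q₀ := Q ⊓ centralizer (D : Set G) with hQ₀
      have hQ₀n := le_normalizer_fixed hG h hM hnil hKU hq hD hKD
      intro a ha x hx
      obtain ⟨n, hn, hc⟩ := Coprime.exists_fixed_in_coset_of_normal ⁅D, D⁆ Q₀
        (hDD.trans (hD.2.1.trans ((sigmaCore_le M).trans hQ₀n)))
        (((card_eq_of_complIn hD ((sigmaCore_le M).trans hQn)) ▸
          core_coprime hG h hM hnil hKU hq).symm.coprime_dvd_left (card_dvd_of_le hDD)
          |>.coprime_dvd_right (card_dvd_of_le inf_le_left))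
        (Or.inr (Coprime.solvable_of_le (inf_le_left.trans hQM) (BGSigma.coatom_isSolvable hG hM)))
        x (hQ₀n (hQM hx)) (fun b hb => hlay b hb x hx)
      have h1 : Commute a (x * n) := mem_centralizer_iff.mp hc a ha
      have h2 : Commute a n := mem_centralizer_iff.mp hn.2 a (hDD ha)
      have h3 := h1.mul_right h2.inv_right
      rw [mul_inv_cancel_right] at h3
      exact h3.symm
    set X := Q ⊔ ⁅D, D⁆ with hX
    have hXnil : Group.IsNilpotent X := by
      haveI := compl_nilpotent hG h hM hnil hKU hq hD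
      refine isNilpotent_sup_of_commute (BGUniq.isPGroup_core q _).isNilpotent ?_
        fun x hx a ha => hDQ a ha x hx
      exact Group.nilpotent_of_mulEquiv (subgroupOfEquivOfLe hDD)
    have hXσ : X ≤ sigmaCore M := sup_le (BGUniq.core_le q _) (hDD.trans hD.2.1)
    have hXn : M ≤ normalizer (X : Set G) := by
      have hnn : ∀ {A : Subgroup G}, A ≤ normalizer (Q : Set G) → A ≤ normalizer (D : Set G) →
          A ≤ normalizer (X : Set G) := fun h1 h2 => Coprime.le_normalizer_sup h1
        (Coprime.le_normalizer_of_conj_mem fun e he y hy => by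
          have := Subgroup.mem_map_of_mem (MulAut.conj e).toMonoidHom hy
          rw [map_commutator, BGSigma.map_conj_eq_self (h2 he)] at this
          exact this)
      rw [← TypeCore.sup_eq (compl_K hG h hM hnil hKU), ← TypeCore.sup_eq hD]
      exact sup_le (hnn (hKU.hall.1.trans hQn) hKD) (sup_le
        (le_sup_left.trans le_normalizer) (hnn (hD.2.1.trans ((sigmaCore_le M).trans hQn))
          le_normalizer))
    refine le_trans ?_ (le_fittingOf (hXσ.trans (sigmaCore_le M)) hXn hXnil)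
    haveI hXnS : (X.subgroupOf (sigmaCore M)).Normal :=
      (normal_subgroupOf_iff_le_normalizer hXσ).mpr ((sigmaCore_le M).trans hXn)
    set f := QuotientGroup.mk' (X.subgroupOf (sigmaCore M)) with hf
    have hker : f.ker = X.subgroupOf (sigmaCore M) := QuotientGroup.ker_mk' _
    have htop : (⊤ : Subgroup (sigmaCore M)).map f = (D.subgroupOf (sigmaCore M)).map f := by
      refine map_eq_of_mul f (A := Q.subgroupOf (sigmaCore M))
        (hker.ge.trans' (fun _ hx => mem_sup_left (T := ⁅D, D⁆) hx)) le_top fun m _ => ?_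
      obtain ⟨a, ha, b, hb, hab⟩ := hD.2.2.2 m m.2
      exact ⟨⟨a, BGUniq.core_le q _ ha⟩, ha, ⟨b, hD.2.1 hb⟩, hb, Subtype.ext hab⟩
    have h1 : ⁅(⊤ : Subgroup (sigmaCore M)), ⊤⁆ ≤ X.subgroupOf (sigmaCore M) := by
      rw [← hker, ← Subgroup.map_eq_bot_iff, map_commutator, htop, ← map_commutator,
        Subgroup.map_eq_bot_iff, hker]
      intro z hz
      have h2 : (z : G) ∈ (⁅D.subgroupOf (sigmaCore M), D.subgroupOf (sigmaCore M)⁆).map
          (sigmaCore M).subtype := mem_map_of_mem _ hz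
      rw [map_commutator, map_subgroupOf_eq_of_le hD.2.1] at h2
      exact mem_sup_right h2
    have h2 := map_mono (f := (sigmaCore M).subtype) h1
    rwa [map_commutator, map_subgroupOf_eq_of_le hXσ,
      ← MonoidHom.range_eq_map, range_subtype] at h2

/-- `C_M(M_F)` is nilpotent. -/
theorem centralizer_le_fittingOf :
    M ⊓ centralizer (fittingHallOf M : Set G) ≤ fittingOf M := by
  obtain ⟨K, U, hKU⟩ := exists_decomposition hG h hM
  set C := M ⊓ centralizer (fittingHallOf M : Set G) with hC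
  refine le_fittingOf inf_le_left (Coprime.le_normalizer_inf le_normalizer
    (Coprime.le_normalizer_centralizer (le_normalizer_fittingHallOf M))) ?_
  by_cases hnil : Group.IsNilpotent (sigmaCore M)
  · have heq := fittingHallOf_eq_sigmaCore hG h hM hnil
    have hE := compl_sup hKU
    obtain ⟨⟨y, hy⟩, hy'⟩ := (Subgroup.ne_bot_iff_exists_ne_one).mp (sigmaCore_ne_bot hG h hM)
    have hy1 : y ≠ 1 := fun h0 => hy' (Subtype.ext h0)
    obtain ⟨A₀, hA₀c, hA₀⟩ := exists_abelian_hat hG h hM hKU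
    haveI := hA₀c
    set B := (U ⊔ K) ⊓ centralizer (sigmaCore M : Set G) with hB
    have hBA : B ≤ A₀ := fun e he => by
      have hcomm : ∀ s ∈ sigmaCore M, e * s = s * e := fun s hs =>
        (mem_centralizer_iff.mp he.2 s hs).symm
      refine hA₀ e (mem_U_of_not_kappa hKU he.1 fun p hp hd hk => ?_)
        ⟨hE.1 he.1, y, hy, hy1, hcomm y hy⟩
      haveI := Fact.mk hp
      obtain ⟨k, hk'⟩ := hd
      have hk0 : k ≠ 0 := fun h0 => by rw [h0, mul_zero] at hk'; exact (orderOf_pos e).ne' hk'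
      refine not_kappa_of_centralizes hG h hM (z := e ^ k) (pow_mem (hE.1 he.1) k) ?_
        (fun s hs => (Commute.pow_left (hcomm s hs) k).eq) hk
      rw [orderOf_pow_of_dvd hk0 ⟨p, by rw [hk', mul_comm]⟩, hk',
        Nat.mul_div_cancel _ (Nat.pos_of_ne_zero hk0)]
    have hCle : C ≤ (C ⊓ sigmaCore M) ⊔ B := by
      intro m hm
      obtain ⟨e, he, s, hs, rfl⟩ := hE.2.2.2 m hm.1
      have hcm : ∀ t ∈ sigmaCore M, Commute t (e * s) := fun t ht =>
        mem_centralizer_iff.mp hm.2 t (heq.ge ht)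
      have hes : Commute e s := by
        have h1 : s * (e * s) = e * s * s := hcm s hs
        rw [← mul_assoc] at h1
        exact (mul_right_cancel h1).symm
      set n := Nat.card (sigmaCore M) with hn
      have hsn : s ^ n = 1 :=
        orderOf_dvd_iff_pow_eq_one.mp (Subgroup.orderOf_dvd_natCard _ hs)
      have hen : e ^ n ∈ C := by
        have := pow_mem hm n
        rwa [hes.mul_pow, hsn, mul_one] at this
      have heC : e ∈ C := by
        obtain ⟨j, hj⟩ := exists_pow_eq_self_of_coprime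
          ((coprime_sup_sigma hG hM hKU).coprime_dvd_left
            (Subgroup.orderOf_dvd_natCard _ he)).symm
        rw [← hj]
        exact pow_mem hen j
      have hsC : s ∈ C := (C.mul_mem_cancel_left heC).mp hm
      rw [show e * s = s * e from hes.eq]
      exact mul_mem_sup ⟨hsC, hs⟩ ⟨he, mem_centralizer_iff.mpr fun t ht =>
        mem_centralizer_iff.mp heC.2 t (heq.ge ht)⟩
    have hsup : Group.IsNilpotent ↥((C ⊓ sigmaCore M) ⊔ B) := by
      refine isNilpotent_sup_of_commute ?_ ?_ fun a ha b hb => mem_centralizer_iff.mp hb.2 a ha.2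
      · haveI := hnil
        exact Group.nilpotent_of_mulEquiv (subgroupOfEquivOfLe inf_le_right)
      · haveI : IsMulCommutative B :=
          ⟨⟨fun a b => Subtype.ext (Subtype.ext_iff.mp
            (mul_comm' (⟨a.1, hBA a.2⟩ : A₀) ⟨b.1, hBA b.2⟩) :)⟩⟩
        letI : CommGroup B := { (inferInstance : Group B) with mul_comm := mul_comm' }
        exact CommGroup.isNilpotent
    haveI := hsup
    exact Group.nilpotent_of_mulEquiv (subgroupOfEquivOfLe hCle)
  · obtain ⟨q, hqp, hq⟩ := exists_q hG h hM hnil hKU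
    haveI := Fact.mk hqp
    have hQF := core_le_fittingHallOf hG h hM hnil hKU hq
    set Q := BGUniq.core q (sigmaCore M) with hQ
    have hQn := core_le_normalizer hG h hM hnil hKU hq
    have hQM := core_le_M hG h hM hnil hKU hq
    have hCQ : ∀ c ∈ C, ∀ x ∈ Q, Commute x c := fun c hc x hx =>
      mem_centralizer_iff.mp hc.2 x (hQF hx)
    obtain ⟨D, hD, hKD⟩ := exists_invariant_compl hG h hM hnil hKU hq
    have hlt : q < Nat.card Q := by
      obtain ⟨hp, hcard, -⟩ := layer hG h hM hnil hKU hq hD hKD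
        (fixed_lt hG h hM hnil hKU hq hD) le_rfl hQn
      calc q = q ^ 1 := (pow_one q).symm
        _ < q ^ Nat.card K := Nat.pow_lt_pow_right hqp.one_lt hp.one_lt
        _ ≤ Nat.card Q := by rw [hcard]; exact Nat.le_mul_of_pos_left _ Nat.card_pos
    have hCσ : C ≤ sigmaCore M := by
      intro c hc
      refine TypeCore.mem_sigmaCore (hall hG hM) hc.1 fun r hr hd => by_contra fun hrs => ?_
      haveI := Fact.mk hr
      have hrM : r ∣ Nat.card M := hd.trans (Subgroup.orderOf_dvd_natCard M hc.1)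
      have hrk : r ∈ kappa M := by_contra fun hk => by
        have := dvd_U_of hG hM hKU hr hrM hrs hk
        rw [U_eq_bot hG h hM hnil hKU, card_bot] at this
        exact hr.not_dvd_one this
      obtain ⟨k, hk⟩ := hd
      have hk0 : k ≠ 0 := fun h0 => by rw [h0, mul_zero] at hk; exact (orderOf_pos c).ne' hk
      have hzo : orderOf (c ^ k) = r := by
        rw [orderOf_pow_of_dvd hk0 ⟨r, by rw [hk, mul_comm]⟩, hk,
          Nat.mul_div_cancel _ (Nat.pos_of_ne_zero hk0)]
      obtain ⟨m, hm, hmK⟩ := exists_conj_mem_hall hKU.hall hrk (pow_mem hc.1 k) (n := 1)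
        (by rw [hzo, pow_one])
      have hm1 : m * c ^ k * m⁻¹ ≠ 1 := fun h0 => by
        rw [conj_eq_one_iff.mp h0, orderOf_one] at hzo; exact hr.ne_one hzo.symm
      refine absurd (hq ▸ Nat.le_of_dvd Nat.card_pos (card_dvd_of_le (?_ :
        Q ≤ sigmaCore M ⊓ centralizer (K : Set G)))) (not_le.mpr hlt)
      rw [← fixed_eq hG h hM hnil hKU hmK hm1]
      intro x hx
      refine ⟨BGUniq.core_le q _ hx, mem_centralizer_singleton.mpr ?_⟩
      have hx' : m⁻¹ * x * m ∈ Q := Coprime.conj_mem_of_mem_normalizer' (hQn hm) hx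
      have h1 := ((hCQ c hc _ hx').pow_right k).eq
      calc x * (m * c ^ k * m⁻¹) = m * ((m⁻¹ * x * m) * c ^ k) * m⁻¹ := by group
        _ = m * (c ^ k * (m⁻¹ * x * m)) * m⁻¹ := by rw [h1]
        _ = _ := by group
    haveI : ((Q).subgroupOf M).Normal := (normal_subgroupOf_iff_le_normalizer hQM).mpr hQn
    have hnq := nilpotent_image hG h hM hnil hKU hq
    haveI := hnq
    let φ : C →* (((sigmaCore M).subgroupOf M).map (QuotientGroup.mk' ((Q).subgroupOf M))) :=
      ((QuotientGroup.mk' ((Q).subgroupOf M)).comp (Subgroup.inclusion (inf_le_left : C ≤ M))).codRestrict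
        _ fun c => mem_map_of_mem _ (show (c : G) ∈ sigmaCore M from hCσ c.2)
    refine _root_.isNilpotent_of_ker_le_center φ fun c hc => mem_center_iff.mpr fun d => ?_
    have h1 : QuotientGroup.mk' ((Q).subgroupOf M) (Subgroup.inclusion inf_le_left c) = 1 :=
      congrArg Subtype.val hc
    have h2 : (c : G) ∈ Q := mem_subgroupOf.mp
      ((QuotientGroup.eq_one_iff (N := (Q).subgroupOf M) _).mp h1)
    exact Subtype.ext ((hCQ d d.2 c h2).eq).symm

/-- S1356. -/
theorem fitting_eq_of :
    ⁅⁅M, M⁆, ⁅M, M⁆⁆ ≤ fittingOf M ∧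
      fittingOf M = (M ⊓ centralizer (fittingHallOf M : Set G)) ⊔ fittingHallOf M ∧
      ((kappa M).Nonempty → fittingOf M ≤ ⁅M, M⁆) := by
  have hHM := BGUniq.fittingHallOf_le M
  have hHn := le_normalizer_fittingHallOf M
  refine ⟨derived_two_le_fittingOf hG h hM, le_antisymm ?_
    (sup_le (centralizer_le_fittingOf hG h hM) (TypeCore.fittingHallOf_le_fittingOf M)), fun hk => ?_⟩
  · refine BGUniq.fittingOf_le_of_core_le fun r hr => ?_
    haveI := Fact.mk hr
    have hcM := BGUniq.core_le r M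
    obtain ⟨n, hn⟩ := (BGUniq.isPGroup_core r M).exists_card_eq
    by_cases hd : r ∣ Nat.card (fittingHallOf M)
    · refine le_sup_of_le_right (BGSigma.le_of_coprime_relIndex hHM hHn hcM ?_)
      rw [hn]
      exact Nat.Coprime.pow_left n ((Nat.Prime.coprime_iff_not_dvd hr).mpr fun hd' =>
        hr.not_dvd_one ((fittingHallOf_relIndex_coprime M) ▸ Nat.dvd_gcd hd hd'))
    · refine le_sup_of_le_left (le_inf hcM fun x hx => mem_centralizer_iff.mpr fun y hy => ?_)
      refine BGUniq.mul_comm_of_normalized_coprime hHM hcM hHn (BGUniq.le_normalizer_core r M) ?_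
        hy hx
      rw [hn]
      exact (Nat.Coprime.pow_left n ((Nat.Prime.coprime_iff_not_dvd hr).mpr hd)).symm
  · obtain ⟨K, U, hKU⟩ := exists_decomposition hG h hM
    have hK1 : K ≠ ⊥ := fun h0 => by
      rw [(TypeCore.eq_bot_iff_kappa hKU.hall).mp h0] at hk
      exact Set.not_nonempty_empty hk
    rw [derived_eq hG h hM hKU hK1]
    have hn := (h.decomp M hM K hKU.cyclic hKU.hall).2 U hKU
    have hNM : U ⊔ sigmaCore M ≤ M := sup_le hKU.compl.1 (sigmaCore_le M)
    have hcompl : IsComplIn (U ⊔ sigmaCore M) K M := TypeCore.complIn_of_sup hNM hKU.hall.1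
      (hKU.hall.1.trans hn) (by rw [inf_comm]; exact TypeCore.inf_sup_eq_bot hKU) (by
        rw [sup_assoc, sup_comm (sigmaCore M) K, TypeCore.sup_eq hKU.compl])
    refine BGSigma.le_of_coprime_relIndex hNM hn (BGUniq.fittingOf_le M) ?_
    rw [card_eq_of_complIn hcompl hn]
    refine Nat.coprime_of_dvd fun r hr h1 h2 => ?_
    haveI := Fact.mk hr
    have hrk := hKU.hall.2.1 r hr h2
    obtain ⟨⟨z, hz⟩, hzo⟩ := exists_prime_orderOf_dvd_card' (G := fittingOf M) r h1
    rw [Subgroup.orderOf_mk] at hzo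
    obtain ⟨n, hn'⟩ := (BGUniq.isPGroup_core r M).exists_card_eq
    refine not_kappa_of_centralizes hG h hM (BGUniq.fittingOf_le M hz) hzo (fun y hy => ?_) hrk
    refine BGUniq.mul_comm_of_normalized_coprime (BGUniq.core_le r M) (sigmaCore_le M)
      (BGUniq.le_normalizer_core r M) (le_normalizer_sigmaCore M) ?_
      (BGUniq.mem_core_of_mem_fittingOf hz (j := 1) (by rw [hzo, pow_one])) hy
    rw [hn']
    exact Nat.Coprime.pow_left n ((Nat.Prime.coprime_iff_not_dvd hr).mpr fun hd =>
      hrk.2.2.1 (isPiSub_sigmaCore M r hr hd))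

end Cfsg.Agent.BGSummary.Loc
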