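import Cfsg.Agent.BGSummary.PFData
import Mathlib.NumberTheory.Multiplicity

/-!
# Type I and the shape of `F(M)` not TI, from the Frobenius property for `κ(M) = ∅`

Peterfalvi (12.7) says that a maximal subgroup with `κ(M) = ∅` is a Frobenius group with kernel
`M_F`. From it: S1380 and S1440.
-/

set_option autoImplicit false
set_option linter.unusedSectionVars false
set_option linter.style.haveILetI false

namespace Cfsg.Agent.BGSummary

open Cfsg Subgroup
open Cfsg.Agent.BGSigma (sigmaCore_le le_normalizer_sigmaCore isPiSub_sigmaCore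
  le_centralizer_self_of_comm)
open scoped commutatorElement

universe u

/-- The conclusion of Peterfalvi (12.7). -/
def FrobeniusOne (G : Type u) [Group G] : Prop :=
  ∀ M : Subgroup G, IsCoatom M → kappa M = ∅ → ∀ x ∈ fittingHallOf M, x ≠ 1 →
    M ⊓ centralizer ({x} : Set G) ≤ fittingHallOf M

variable {G : Type u} [Group G] [Finite G]

/-- In a Frobenius group, `O_{p'}(M)` lies in the kernel for `p` dividing its order. -/
theorem opp_le_kernel {M H : Subgroup G} (hHM : H ≤ M) (hHn : M ≤ normalizer (H : Set G))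
    (hf : ∀ x ∈ H, x ≠ 1 → M ⊓ centralizer ({x} : Set G) ≤ H) {p : ℕ} (hp : p.Prime)
    (hd : p ∣ Nat.card H) : BGUniq.opp p M ≤ H := by
  classical
  set Q := BGUniq.opp p M with hQ
  intro u hu
  by_contra huH
  have hQn := BGUniq.le_normalizer_opp p M
  have hmem : ∀ h : H, (h : G) * u * (h : G)⁻¹ * u⁻¹ ∈ Q ⊓ H := fun h => by
    refine ⟨Q.mul_mem ((mem_normalizer_iff.mp (hQn (hHM h.2)) u).mp hu) (Q.inv_mem hu), ?_⟩
    rw [show (h : G) * u * (h : G)⁻¹ * u⁻¹ = h * (u * (h : G)⁻¹ * u⁻¹) by group]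
    exact H.mul_mem h.2
      ((mem_normalizer_iff.mp (hHn (BGUniq.opp_le p M hu)) _).mp (H.inv_mem h.2))
  have hinj : Function.Injective
      (fun h : H => (⟨_, hmem h⟩ : ↥(Q ⊓ H : Subgroup G))) := fun a b he => by
    have h1 : (a : G) * u * (a : G)⁻¹ = b * u * (b : G)⁻¹ := mul_right_cancel (Subtype.ext_iff.mp he)
    by_contra hab
    refine huH (hf ((b : G)⁻¹ * a) (H.mul_mem (H.inv_mem b.2) a.2)
      (fun h0 => hab (Subtype.ext (inv_mul_eq_one.mp h0).symm))
      ⟨BGUniq.opp_le p M hu, mem_centralizer_singleton_iff.mpr ?_⟩)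
    calc u * ((b : G)⁻¹ * a) = (b : G)⁻¹ * (b * u * (b : G)⁻¹) * a := by group
      _ = (b : G)⁻¹ * (a * u * (a : G)⁻¹) * a := by rw [h1]
      _ = (b : G)⁻¹ * a * u := by group
  have h1 : Nat.card H ≤ Nat.card ↥(Q ⊓ H : Subgroup G) := Nat.card_le_card_of_injective _ hinj
  have h2 : Q ⊓ H = H := eq_of_le_of_card_ge inf_le_right h1
  exact hp.coprime_iff_not_dvd.mp (BGUniq.opp_coprime p M).symm
    (hd.trans (card_dvd_of_le (h2.ge.trans inf_le_left)))

/-- S1380 from the Frobenius property. -/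
theorem typeICriterion_of_frobenius (hG : IsMinSimpleOddOrder G) (hfr : FrobeniusOne G) :
    TypeICriterion G := by
  intro M hM K U hKU hK _
  have hk := (TypeCore.eq_bot_iff_kappa hKU.hall).mp hK
  have d := oneData hG hM hk
  refine ⟨d.typeF, d.cases.imp id (Or.imp id fun ⟨he, p, hp, hd, hc⟩ => ⟨he, p, hp, hd, ?_⟩)⟩
  have hle := opp_le_kernel (BGUniq.fittingHallOf_le M) (le_normalizer_fittingHallOf M)
    (hfr M hM hk) hp hd
  have hc' : IsCyclic (BGUniq.opp p (fittingHallOf M)) :=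
    ((pPrimeCore p ↥(fittingHallOf M)).equivMapOfInjective _
      (Subgroup.subtype_injective _)).isCyclic.mp hc
  have hle' : BGUniq.opp p M ≤ BGUniq.opp p (fittingHallOf M) :=
    BGUniq.le_opp hle ((BGUniq.fittingHallOf_le M).trans (BGUniq.le_normalizer_opp p M))
      (BGUniq.opp_coprime p M)
  haveI := hc'
  exact ((pPrimeCore p ↥M).equivMapOfInjective _ M.subtype_injective).isCyclic.mpr
    (Subgroup.isCyclic_of_le hle')

namespace Loc

variable (hG : IsMinSimpleOddOrder G) (h : LocalStructure G) {M : Subgroup G} (hM : IsCoatom M)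
include hG h hM

/-- For nonabelian `O_p(M)` the intersection of `F(M)` with a conjugate has order `p`. -/
theorem card_inter_eq {g : G} (hg : g ∉ M) {p : ℕ} [hp : Fact p.Prime] {x : G}
    (hx : x ∈ fittingOf M ⊓ (fittingOf M).map (MulAut.conj g).toMonoidHom) (hxo : orderOf x = p)
    (hPna : ¬ IsMulCommutative (BGUniq.core p M)) :
    Nat.card ↥(fittingOf M ⊓ (fittingOf M).map (MulAut.conj g).toMonoidHom) = p := by
  set X := fittingOf M ⊓ (fittingOf M).map (MulAut.conj g).toMonoidHom with hXdef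
  obtain ⟨hXc, -, hXd⟩ := inter_meet hG h hM hg
  have hXp : ∀ q : ℕ, q.Prime → q ∣ Nat.card X → q = p := fun q hq hd => by
    haveI := Fact.mk hq
    by_contra hqp
    obtain ⟨y, hy⟩ := exists_prime_orderOf_dvd_card' q hd
    exact hPna (core_abelian hG h hM hg (p := q) (x := (y : G)) y.2
      (by rw [Subgroup.orderOf_coe, hy]) (r := p) fun h0 => hqp h0.symm)
  obtain ⟨n, hn⟩ : ∃ n, Nat.card X = p ^ n := ⟨_, Nat.eq_prime_pow_of_unique_prime_dvd
    Nat.card_pos.ne' fun {q} hq hd => hXp q hq hd⟩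
  have hxd : p ∣ Nat.card X := hxo ▸ Subgroup.orderOf_dvd_natCard X hx
  rcases n with _ | _ | n
  · rw [hn, pow_zero] at hxd
    exact absurd hxd hp.out.not_dvd_one
  · rw [hn, zero_add, pow_one]
  exfalso
  -- an element `y` of order `p ^ 2`, with `x = y ^ p`
  haveI : IsCyclic X := hXc
  obtain ⟨γ, hγ⟩ := IsCyclic.exists_generator (α := X)
  have hγo : orderOf (γ : G) = p ^ (n + 2) := by
    rw [Subgroup.orderOf_coe, orderOf_eq_card_of_forall_mem_zpowers hγ, hn]
  set y : G := (γ : G) ^ p ^ n with hy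
  have hyX : y ∈ X := pow_mem γ.2 _
  have hyo : orderOf y = p ^ 2 := by
    rw [hy, orderOf_pow_of_dvd (pow_ne_zero _ hp.out.ne_zero) (hγo ▸ pow_dvd_pow p (by omega)), hγo,
      Nat.pow_div (by omega) hp.out.pos, show n + 2 - n = 2 by omega]
  clear_value y
  set x' : G := y ^ p with hx'
  have hx'X : x' ∈ X := pow_mem hyX _
  have hx'o : orderOf x' = p := by
    rw [hx', orderOf_pow_of_dvd hp.out.ne_zero (hyo ▸ dvd_pow_self p two_ne_zero), hyo, pow_two,
      Nat.mul_div_cancel _ hp.out.pos]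
  have hx'1 : x' ≠ 1 := ne_one_of_prime hG h hM hg hx'X hx'o
  have hxσ := (inter_le_sigma hG h hM hg hx'X).1
  obtain ⟨L, E, hL, hE, hML, -, hCL, -, -, -, hτ, -⟩ := BGSigma.exists_support hG hM hxσ hx'1
    (not_centralizer_le hG h hM hg hx'X hx'1)
  have hpL := hτ p hp.out hx'o.symm.dvd
  set P := BGUniq.core p M with hP
  have hPp : IsPGroup p P := BGUniq.isPGroup_core p M
  have hPM : P ≤ M := BGUniq.core_le p M
  set A := P ⊓ centralizer ({x'} : Set G) with hA
  have hAp : IsPGroup p A := hPp.to_le inf_le_left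
  have hAE : A ≤ E := hML ▸ le_inf (inf_le_left.trans hPM) (inf_le_right.trans hCL)
  have hAc : IsMulCommutative A := by
    haveI := hAp.isNilpotent
    refine BGTwelve.isMulCommutative_of_nilpotent_sigma' hG (BGSigma.localInputs hG) hL
      (hAE.trans hE.1) inferInstance fun q hq hd => ?_
    rw [BGSigma.eq_of_dvd_card_pgroup hAp hq hd]
    exact hpL.2.1
  have hmemP : ∀ z ∈ X, ∀ j : ℕ, orderOf z = p ^ j → z ∈ P := fun z hz j hj =>
    BGUniq.mem_core_of_mem_fittingOf hz.1 hj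
  have hyP : y ∈ P := hmemP y hyX 2 hyo
  have hyA : y ∈ A := ⟨hyP, mem_centralizer_singleton.mpr (by rw [hx']; exact Commute.self_pow y p)⟩
  have hxA : x' ∈ A := ⟨hmemP x' hx'X 1 (by rw [hx'o, pow_one]), mem_centralizer_singleton.mpr rfl⟩
  have hAP : A < P := lt_of_le_not_ge inf_le_left fun hle =>
    not_uniq_centralized hG h hM hg hx'X hx'1 (h.nonabelian_uniq p _ hPp hPna) hPM
      (hle.trans inf_le_right)
  -- an element normalizing `A` whose `p`-th power lies in `A`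
  obtain ⟨a, haP, haN, haA, hap⟩ : ∃ a ∈ P, a ∈ normalizer (A : Set G) ∧ a ∉ A ∧ a ^ p ∈ A := by
    haveI := hPp.isNilpotent
    have hlt : A.subgroupOf P < ⊤ := lt_of_le_of_ne le_top fun ht =>
      hAP.not_ge (subgroupOf_eq_top.mp ht)
    obtain ⟨b, hbN, hbA⟩ := SetLike.exists_of_lt (Group.normalizerCondition_of_isNilpotent _ hlt)
    rw [← subgroupOf_normalizer_eq hAP.le] at hbN
    obtain ⟨k, hk⟩ := hPp b
    classical
    have hex : ∃ j, (b : G) ^ p ^ j ∈ A := ⟨k, by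
      rw [show (b : G) ^ p ^ k = ((b ^ p ^ k : P) : G) from rfl, hk]; exact one_mem _⟩
    rcases hj : Nat.find hex with _ | j
    · have := Nat.find_spec hex
      rw [hj, pow_zero, pow_one] at this
      exact absurd this hbA
    refine ⟨(b : G) ^ p ^ j, pow_mem b.2 _, pow_mem hbN _, Nat.find_min hex (by omega), ?_⟩
    rw [← pow_mul, ← pow_succ, ← hj]
    exact Nat.find_spec hex
  -- `A ∩ M_σ'` is cyclic
  set D := ⁅sigmaCore M, sigmaCore M⁆ with hD
  have hPσ : P ≤ sigmaCore M := core_le_sigma hG hM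
    ((inter_meet hG h hM hg).2.1 p hp.out hxd).1
  set C := A ⊓ D with hC
  have hxD : x' ∉ D := fun hD' => hx'1 (mem_bot.mp (hXd.le ⟨hx'X, hD'⟩))
  have hCc : IsCyclic C := by
    haveI := hAc
    refine BGSigma.isCyclic_of_prankLE_one hG (M := C) ?_ (hAp.to_le inf_le_left) le_rfl
    by_contra hr1
    obtain ⟨V, hVC, hVe, hVc⟩ := BGSigma.exists_elemAbelian_sq_le hr1
    let W : Subgroup G :=
      { carrier := {b | b ∈ A ∧ b ^ p = 1}
        one_mem' := ⟨one_mem _, one_pow p⟩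
        mul_mem' := fun {b c} hb hc => ⟨A.mul_mem hb.1 hc.1, by
          have hbc : Commute b c := congrArg Subtype.val
            (mul_comm' (⟨b, hb.1⟩ : A) ⟨c, hc.1⟩)
          rw [hbc.mul_pow, hb.2, hc.2, one_mul]⟩
        inv_mem' := fun {b} hb => ⟨inv_mem hb.1, by rw [inv_pow, hb.2, inv_one]⟩ }
    have hWA : W ≤ A := fun b hb => hb.1
    have hWe : IsElementaryAbelian p W := ⟨⟨⟨fun b c => Subtype.ext
      (congrArg Subtype.val (mul_comm' (⟨b, hWA b.2⟩ : A) ⟨c, hWA c.2⟩) :)⟩⟩, fun b hb => hb.2⟩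
    have hVW : V ≤ W := fun v hv => ⟨(hVC hv).1, hVe.2 v hv⟩
    have hWV : W = V := by
      refine (eq_of_le_of_card_ge hVW ?_).symm
      rw [hVc]
      by_contra hlt
      exact BGSigma.not_prankLE_of_elemAbelian hWe ((hWA.trans hAE).trans hE.1)
        (not_le.mp hlt) hpL.2.2.1
    exact hxD (hVC (hWV.le (show x' ∈ W from ⟨hxA, by rw [← hx'o, pow_orderOf_eq_one]⟩))).2
  set w : G := a * y * a⁻¹ * y⁻¹ with hw
  have hconjA : ∀ b ∈ A, a * b * a⁻¹ ∈ A := fun b hb => (mem_normalizer_iff.mp haN b).mp hb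
  have hwA : w ∈ A := A.mul_mem (hconjA y hyA) (A.inv_mem hyA)
  have hwD : w ∈ D := commutator_mem_commutator (hPσ haP) (hPσ hyP)
  have hcomm : ∀ {b c : G}, b ∈ A → c ∈ A → Commute b c := fun {b c} hb hc => by
    haveI := hAc
    exact congrArg Subtype.val (mul_comm' (⟨b, hb⟩ : A) ⟨c, hc⟩)
  have hwp : w ^ p ≠ 1 := by
    rw [hw, (hcomm (hconjA y hyA) (A.inv_mem hyA)).mul_pow, conj_pow, inv_pow, ← hx']
    intro h0
    refine haA ⟨haP, mem_centralizer_singleton.mpr ?_⟩
    exact mul_inv_eq_iff_eq_mul.mp (mul_inv_eq_one.mp h0)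
  have hwp2 : w ^ p ^ 2 = 1 := by
    rw [hw, (hcomm (hconjA y hyA) (A.inv_mem hyA)).mul_pow, conj_pow, inv_pow, ← hyo,
      pow_orderOf_eq_one]
    group
  have hwo : orderOf w = p ^ 2 :=
    orderOf_eq_prime_pow (n := 1) (by rwa [pow_one]) hwp2
  have hCn : ∀ b ∈ C, a * b * a⁻¹ ∈ C := fun b hb => ⟨hconjA b hb.1,
    (mem_normalizer_iff.mp (Coprime.le_normalizer_commutator_left _ _ (hPσ haP)) b).mp hb.2⟩
  let σ : C →* C :=
    { toFun := fun c => ⟨a * c * a⁻¹, hCn c c.2⟩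
      map_one' := Subtype.ext (by simp)
      map_mul' := fun b c => Subtype.ext (by
        show a * ((b : G) * c) * a⁻¹ = a * b * a⁻¹ * (a * c * a⁻¹)
        group) }
  haveI := hCc
  obtain ⟨m, hm⟩ := σ.map_cyclic
  have hwm : a * w * a⁻¹ = w ^ m := by
    have := congrArg Subtype.val (hm ⟨w, hwA, hwD⟩)
    simpa [σ] using this
  have hconjw : ∀ i : ℤ, a * w ^ i * a⁻¹ = w ^ (m * i) := fun i => by
    rw [zpow_mul, ← hwm, conj_zpow]
  have hiter : ∀ j : ℕ, a ^ j * y * (a ^ j)⁻¹ = y * w ^ (∑ i ∈ Finset.range j, m ^ i) := by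
    intro j
    induction j with
    | zero => simp
    | succ j ih =>
      have h1 : a * y * a⁻¹ = y * w := by
        rw [(hcomm hyA hwA).eq, hw, inv_mul_cancel_right]
      calc a ^ (j + 1) * y * (a ^ (j + 1))⁻¹
          = a * (a ^ j * y * (a ^ j)⁻¹) * a⁻¹ := by rw [pow_succ']; group
        _ = (a * y * a⁻¹) * (a * w ^ (∑ i ∈ Finset.range j, m ^ i) * a⁻¹) := by rw [ih]; group
        _ = y * (w * w ^ (m * ∑ i ∈ Finset.range j, m ^ i)) := by rw [h1, hconjw, mul_assoc]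
        _ = y * w ^ (∑ i ∈ Finset.range (j + 1), m ^ i) := by
          rw [geom_sum_succ, zpow_add, zpow_one,
            ((Commute.refl w).zpow_right _).eq]
  have hiterw : ∀ j : ℕ, a ^ j * w * (a ^ j)⁻¹ = w ^ (m ^ j) := by
    intro j
    induction j with
    | zero => simp
    | succ j ih =>
      calc a ^ (j + 1) * w * (a ^ (j + 1))⁻¹
          = a * (a ^ j * w * (a ^ j)⁻¹) * a⁻¹ := by rw [pow_succ']; group
        _ = w ^ (m ^ (j + 1)) := by rw [ih, hconjw, pow_succ']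
  have hfix : ∀ b ∈ A, a ^ p * b * (a ^ p)⁻¹ = b := fun b hb =>
    mul_inv_eq_iff_eq_mul.mpr (hcomm hap hb).eq
  have hsum : ((p : ℤ) ^ 2) ∣ ∑ i ∈ Finset.range p, m ^ i := by
    have h1 := (hiter p).symm.trans (hfix y hyA)
    rw [mul_eq_left, ← orderOf_dvd_iff_zpow_eq_one, hwo] at h1
    exact_mod_cast h1
  have hmp : ((p : ℤ) ^ 2) ∣ m ^ p - 1 := by
    have h1 := (hiterw p).symm.trans (hfix w hwA)
    have h2 : w ^ (m ^ p - 1) = 1 := by rw [zpow_sub, h1, zpow_one, mul_inv_cancel]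
    rw [← orderOf_dvd_iff_zpow_eq_one, hwo] at h2
    exact_mod_cast h2
  have hm1 : ((p : ℤ)) ∣ m - 1 := by
    have h1 : ((p : ℤ)) ∣ m ^ p - 1 := (dvd_pow_self _ two_ne_zero).trans hmp
    rw [← ZMod.intCast_zmod_eq_zero_iff_dvd] at h1 ⊢
    push_cast at h1 ⊢
    rwa [ZMod.pow_card] at h1
  obtain ⟨t, ht⟩ := hm1
  have hodd : Odd p := hp.out.odd_of_ne_two
    (BGSigma.ne_two_of_dvd hG (H := M) ((inter_meet hG h hM hg).2.1 p hp.out hxd).1.2.1)
  have h3 := odd_sq_dvd_geom_sum₂_sub (R := ℤ) (a := 1) (b := t) hodd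
  rw [show (1 : ℤ) + (p : ℤ) * t = m by omega] at h3
  simp only [one_pow, mul_one] at h3
  have h4 : ((p : ℤ) ^ 2) ∣ (p : ℤ) := by
    have := dvd_sub hsum h3
    simpa using this
  have h5 : p ^ 2 ∣ p := by exact_mod_cast h4
  have h6 := Nat.le_of_dvd hp.out.pos h5
  nlinarith [hp.out.two_le]

/-- `M' = F(M) = M_σ` when `κ(M) = ∅` and `F(M)` is not a TI-subset. -/
theorem derived_eq_of_frobenius (hfr : FrobeniusOne G) (hk : kappa M = ∅) {g : G} (hg : g ∉ M)
    (hX : fittingOf M ⊓ (fittingOf M).map (MulAut.conj g).toMonoidHom ≠ ⊥) :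
    ⁅M, M⁆ = sigmaCore M ∧ fittingOf M = sigmaCore M := by
  obtain ⟨p, x, hp, hx, hx1, hxo⟩ := exists_prime_mem hG hX
  haveI := Fact.mk hp
  have hH := core_of_kappa_empty hG h hM hk
  have hxσ := (inter_le_sigma hG h hM hg hx).1
  have hfr' : ∀ z ∈ sigmaCore M, z ≠ 1 → M ⊓ centralizer ({z} : Set G) ≤ sigmaCore M :=
    fun z hz hz1 => hH ▸ hfr M hM hk z (hH.ge hz) hz1
  have hF : fittingOf M = sigmaCore M := by
    rw [(fitting_eq_of hG h hM).2.1, hH, sup_eq_right]
    exact (inf_le_inf_left M (centralizer_le (Set.singleton_subset_iff.mpr hxσ))).trans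
      (hfr' x hxσ hx1)
  refine ⟨le_antisymm ?_ (sigmaCore_le_derived hG h hM), hF⟩
  have hnil := isNilpotent_of_inter hG h hM hg hX
  by_cases hab : IsMulCommutative (fittingHallOf M)
  · -- `M'` is nilpotent
    have hrk := (rank_of_abelian hG h hM hg hx hxo hH hab).1
    rw [hH] at hrk
    have hn : Group.IsNilpotent ↥(commutator ↥M) := by
      refine BGSigma.fittingRankTwoDerived ↥M (BGSigma.coatom_isSolvable hG hM)
        (BGSigma.odd_card_subgroup hG M) fun r hr => ?_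
      exact (BGSigma.prankLE_congr ((fittingSubgroup ↥M).equivMapOfInjective _
        M.subtype_injective)).mpr (show PRankLE r 2 ↥(fittingOf M) by rw [hF]; exact hrk r hr)
    rw [← hF, ← Subgroup.map_subtype_commutator]
    exact Subgroup.map_mono (Fitting.le_fitting inferInstance hn)
  · -- `M` acts on a line of `M_σ` as an abelian group
    have hPna : ¬ IsMulCommutative (BGUniq.core p M) := fun hPc => hab (by
      rw [hH]
      refine ⟨⟨fun a b => Subtype.ext (commutatorElement_eq_one_iff_mul_comm.mp ?_)⟩⟩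
      have h1 := derived_sigma_le hG h hM hg hx hxo hnil (commutator_mem_commutator a.2 b.2)
      haveI := hPc
      have h2 : ⁅BGUniq.core p M, BGUniq.core p M⁆ = ⊥ :=
        commutator_eq_bot_iff_le_centralizer.mpr (le_centralizer _)
      rwa [h2, mem_bot] at h1)
    have hpd : p ∣ Nat.card (sigmaCore M) := hxo ▸ Subgroup.orderOf_dvd_natCard _ hxσ
    obtain ⟨Z, hZσ, hZc, hZn⟩ := exists_normal_line hG h hM hg hx hxo hPna hpd
    haveI : IsCyclic Z := isCyclic_of_prime_card hZc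
    obtain ⟨z, hz, hz1⟩ :=
      (Z.bot_or_exists_ne_one).resolve_left (BGSigma.ne_bot_of_prime_card hp hZc)
    refine commutator_le.mpr fun b hb c hc => hfr' z (hZσ hz) hz1
      ⟨commutator_mem_commutator hb hc |> fun hbc => commutator_le_self M hbc, ?_⟩
    let B : normalizer (Z : Set G) := ⟨b, hZn hb⟩
    let C : normalizer (Z : Set G) := ⟨c, hZn hc⟩
    have h1 : Z.normalizerMonoidHom ⁅B, C⁆ = 1 := by
      rw [map_commutatorElement, commutatorElement_eq_one_iff_mul_comm]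
      apply (IsCyclic.mulAutMulEquiv Z).injective
      rw [map_mul, map_mul, mul_comm]
    have h2 := congrArg Subtype.val (DFunLike.congr_fun h1 ⟨z, hz⟩)
    exact mem_centralizer_singleton_iff.mpr (mul_inv_eq_iff_eq_mul.mp h2)

end Loc

/-- S1440 from the Frobenius property. -/
theorem nonTIFitting_of_frobenius (hG : IsMinSimpleOddOrder G) (hfr : FrobeniusOne G) :
    NonTIFitting G := by
  intro M hM K U hKU g hg hX
  have h := localStructure hG
  obtain ⟨p, x, hp, hx, hx1, hxo⟩ := Loc.exists_prime_mem hG hX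
  haveI := Fact.mk hp
  have hnil := Loc.isNilpotent_of_inter hG h hM hg hX
  have hH := Loc.fittingHallOf_eq_sigmaCore hG h hM hnil
  have hxσ := (Loc.inter_le_sigma hG h hM hg hx).1
  obtain ⟨hXc, hXs, -⟩ := Loc.inter_meet hG h hM hg
  have hps := hXs p hp (hxo ▸ Subgroup.orderOf_dvd_natCard _ hx)
  have hU : K ≠ ⊥ → U = ⊥ := fun hK => by
    by_contra hU
    obtain ⟨-, hTI, -⟩ := Loc.fitting_ti_of hG h hM hKU hK hU
    refine hx1 (hTI g⁻¹ (fun hn => hg ?_) x hx.1 (by simpa using BGSigma.mem_map_conj.mp hx.2))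
    have hF0 : fittingOf M ≠ ⊥ := fun h0 => hX (by rw [h0, bot_inf_eq])
    exact inv_mem_iff.mp ((BGSigma.normalizer_eq_coatom hG hM (BGUniq.fittingOf_le M) hF0
      (BGUniq.le_normalizer_fittingOf M)) ▸ hn)
  have hcore : ⁅M, M⁆ = sigmaCore M ∧ fittingOf M = sigmaCore M := by
    by_cases hK : K = ⊥
    · exact Loc.derived_eq_of_frobenius hG h hM hfr ((TypeCore.eq_bot_iff_kappa hKU.hall).mp hK)
        hg hX
    · have hd : ⁅M, M⁆ = sigmaCore M := by
        rw [Loc.derived_eq hG h hM hKU hK, hU hK, bot_sup_eq]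
      refine ⟨hd, le_antisymm ?_ (Loc.sigmaCore_le_fittingOf hG h hM hnil)⟩
      exact hd ▸ (Loc.fitting_eq_of hG h hM).2.2
        (Set.nonempty_iff_ne_empty.mpr fun he => hK ((TypeCore.eq_bot_iff_kappa hKU.hall).mpr he))
  refine ⟨⟨hH ▸ (Loc.inter_le_sigma hG h hM hg).trans inf_le_left, hXc⟩, ⟨hcore.1.trans hcore.2.symm,
    le_antisymm (hcore.2.le.trans le_sup_left)
      (sup_le hcore.2.ge (BGSigma.piCoreOf_le _))⟩, ?_⟩
  by_cases hab : IsMulCommutative (fittingHallOf M)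
  · refine Or.inl ⟨by_contra fun hK => ?_, hab, Loc.rank_of_abelian hG h hM hg hx hxo hH hab⟩
    obtain ⟨-, hL0, -, -⟩ := Loc.star_cyclic_of hG h hM hKU hK
    have h1 := (Loc.derived_of hG h hM hKU hK).2
    rw [hcore.1] at h1
    have h2 : ⁅sigmaCore M, sigmaCore M⁆ = ⊥ :=
      commutator_eq_bot_iff_le_centralizer.mpr (le_centralizer_self_of_comm (hH ▸ hab))
    rw [h2, le_bot_iff] at h1
    exact hL0 h1
  refine Or.inr ?_
  have hPna : ¬ IsMulCommutative (BGUniq.core p M) := fun hPc => hab (by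
    rw [hH]
    refine ⟨⟨fun a b => Subtype.ext (commutatorElement_eq_one_iff_mul_comm.mp ?_)⟩⟩
    have h1 := Loc.derived_sigma_le hG h hM hg hx hxo hnil (commutator_mem_commutator a.2 b.2)
    haveI := hPc
    have h2 : ⁅BGUniq.core p M, BGUniq.core p M⁆ = ⊥ :=
      commutator_eq_bot_iff_le_centralizer.mpr (le_centralizer _)
    rwa [h2, mem_bot] at h1)
  have hcard := Loc.card_inter_eq hG h hM hg hx hxo hPna
  have hna : ¬ IsMulCommutative (pCore p ↥(fittingHallOf M)) := fun hc => hPna (by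
    have hle : BGUniq.core p M ≤ BGUniq.core p (fittingHallOf M) := by
      intro z hz
      obtain ⟨j, hj⟩ := IsPGroup.iff_orderOf.1 (BGUniq.isPGroup_core p M) ⟨z, hz⟩
      rw [Subgroup.orderOf_mk] at hj
      refine BGUniq.mem_core_of_mem_fittingOf ?_ hj
      haveI : Group.IsNilpotent ↥(fittingHallOf M) := hH ▸ hnil
      rw [fittingOf, Fitting.fitting_eq_top_iff.mpr inferInstance, ← MonoidHom.range_eq_map, range_subtype,
        hH]
      exact Loc.core_le_sigma hG hM hps.1 hz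
    haveI : IsMulCommutative (BGUniq.core p (fittingHallOf M)) := by
      haveI := hc
      exact Subgroup.map_isMulCommutative _ _
    exact ⟨⟨fun a b => Subtype.ext
      (congrArg Subtype.val (mul_comm' (⟨a, hle a.2⟩ : BGUniq.core p (fittingHallOf M))
        ⟨b, hle b.2⟩) :)⟩⟩)
  have hcyc : IsCyclic (pPrimeCore p ↥(fittingHallOf M)) := by
    rw [hH]
    exact Loc.cyclic_pPrimeCore_of hG h hM hg hx hxo hPna
  by_cases hK : K = ⊥
  · refine Or.inl ⟨p, hp, hcard, hps.1, hps.2, hna, hcyc, fun q hq hqd => ?_⟩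
    have hUc := Loc.compl_U hG h hM hKU hK
    rw [hH] at hqd
    haveI := Fact.mk hq
    obtain ⟨Z, hZσ, hZc, hZn⟩ := Loc.exists_normal_line hG h hM hg hx hxo hPna hqd
    refine (Loc.exponent_dvd_of_compl hG h hM hH hUc).trans ?_
    refine Monoid.exponent_dvd_of_forall_pow_eq_one fun v => Subtype.ext ?_
    haveI : IsCyclic Z := isCyclic_of_prime_card hZc
    obtain ⟨w, hw, hw1⟩ :=
      (Z.bot_or_exists_ne_one).resolve_left (BGSigma.ne_bot_of_prime_card hq hZc)
    have hvM : (v : G) ∈ M := hKU.compl.1 v.2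
    let φ : MulAut Z := Z.normalizerMonoidHom ⟨(v : G), hZn hvM⟩
    have h1 : φ ^ (q - 1) = 1 := by
      have h2 := pow_card_eq_one' (G := MulAut Z) (x := φ)
      rwa [IsCyclic.card_mulAut, hZc, Nat.totient_prime hq] at h2
    have h3 : Z.normalizerMonoidHom (⟨(v : G), hZn hvM⟩ ^ (q - 1)) ⟨w, hw⟩ = ⟨w, hw⟩ := by
      rw [map_pow]; exact DFunLike.congr_fun h1 ⟨w, hw⟩
    have h4 : (v : G) ^ (q - 1) * w * ((v : G) ^ (q - 1))⁻¹ = w := congrArg Subtype.val h3
    have h5 : (v : G) ^ (q - 1) ∈ sigmaCore M := hH ▸ hfr M hM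
      ((TypeCore.eq_bot_iff_kappa hKU.hall).mp hK) w (hH.ge (hZσ hw)) hw1
        ⟨pow_mem hvM _, mem_centralizer_singleton_iff.mpr (mul_inv_eq_iff_eq_mul.mp h4)⟩
    exact mem_bot.mp (hUc.2.2.1.le ⟨pow_mem v.2 _, h5⟩)
  obtain ⟨p', hp', hp'd, hc', hcase⟩ := Loc.typeP_nonti_of hG h hM hKU hK hg hX
  obtain rfl : p = p' := by
    by_contra hne
    haveI := hc'
    haveI : IsCyclic (BGUniq.opp p' (fittingHallOf M)) :=
      ((pPrimeCore p' ↥(fittingHallOf M)).equivMapOfInjective _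
        (Subgroup.subtype_injective _)).isCyclic.mp inferInstance
    have hle : BGUniq.core p M ≤ BGUniq.opp p' (fittingHallOf M) := by
      refine BGUniq.le_opp (hH ▸ Loc.core_le_sigma hG hM hps.1)
        ((BGUniq.fittingHallOf_le M).trans (BGUniq.le_normalizer_core p M)) ?_
      obtain ⟨j, hj⟩ := (BGUniq.isPGroup_core p M).exists_card_eq
      rw [hj]
      exact Nat.Coprime.pow_left j ((Nat.coprime_primes hp hp').mpr fun h0 => hne h0)
    haveI := Subgroup.isCyclic_of_le hle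
    exact hPna inferInstance
  have hKc := TypeCore.complIn_of_sup (sigmaCore_le M) hKU.hall.1
    (hKU.hall.1.trans (le_normalizer_sigmaCore M))
    (le_bot_iff.mp ((inf_comm _ _).le.trans
      (Subgroup.inf_eq_bot_of_coprime (TypeCore.coprime_kappa hKU.hall)).le))
    (by
      have h1 := TypeCore.sup_eq hKU.compl
      rw [hU hK, bot_sup_eq] at h1
      rw [sup_comm]
      exact h1.ge)
  rcases hcase with hdiv | ⟨hP3, hdiv⟩
  · refine Or.inl ⟨p, hp, hcard, hps.1, hps.2, hna, hcyc, fun q hq hqd => ?_⟩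
    refine (Loc.exponent_dvd_of_compl hG h hM hH (TypeCore.complIn_symm hKc)).trans ?_
    rcases eq_or_ne q p with rfl | hqp
    · exact Group.exponent_dvd_nat_card.trans hdiv
    haveI := Fact.mk hq
    rw [hH] at hqd
    obtain ⟨Z, hZσ, hZc, hZn⟩ := Loc.exists_normal_line hG h hM hg hx hxo hPna hqd
    refine Monoid.exponent_dvd_of_forall_pow_eq_one fun v => by_contra fun hv1 => hqp ?_
    haveI : IsCyclic Z := isCyclic_of_prime_card hZc
    obtain ⟨w, hw, hw1⟩ :=
      (Z.bot_or_exists_ne_one).resolve_left (BGSigma.ne_bot_of_prime_card hq hZc)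
    have hvM : (v : G) ∈ M := hKU.hall.1 v.2
    let φ : MulAut Z := Z.normalizerMonoidHom ⟨(v : G), hZn hvM⟩
    have h1 : φ ^ (q - 1) = 1 := by
      have h2 := pow_card_eq_one' (G := MulAut Z) (x := φ)
      rwa [IsCyclic.card_mulAut, hZc, Nat.totient_prime hq] at h2
    have h3 : Z.normalizerMonoidHom (⟨(v : G), hZn hvM⟩ ^ (q - 1)) ⟨w, hw⟩ = ⟨w, hw⟩ := by
      rw [map_pow]; exact DFunLike.congr_fun h1 ⟨w, hw⟩
    have h4 : (v : G) ^ (q - 1) * w * ((v : G) ^ (q - 1))⁻¹ = w := congrArg Subtype.val h3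
    have h5 : w ∈ sigmaCore M ⊓ centralizer (K : Set G) := by
      rw [← (h.kappa_context M hM K hKU.hall hK).1 _ (pow_mem v.2 (q - 1))
        fun h0 => hv1 (Subtype.ext h0)]
      exact ⟨hZσ hw, mem_centralizer_singleton_iff.mpr (mul_inv_eq_iff_eq_mul.mp h4).symm⟩
    -- such a `w` lies in `K* ≤ O_p(M)'`
    have h6 := (Loc.derived_of hG h hM hKU hK).2 h5
    rw [hcore.1] at h6
    have h7 : w ∈ BGUniq.core p M :=
      commutator_le_self _ (Loc.derived_sigma_le hG h hM hg hx hxo hnil h6)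
    obtain ⟨j, hj⟩ := IsPGroup.iff_orderOf.1 (BGUniq.isPGroup_core p M) ⟨w, h7⟩
    rw [Subgroup.orderOf_mk] at hj
    have hwq : orderOf w = q := orderOf_eq_prime (by
      rw [← hZc]
      exact congrArg Subtype.val (pow_card_eq_one' (x := (⟨w, hw⟩ : Z)))) hw1
    exact (Nat.prime_dvd_prime_iff_eq hq hp).mp
      (hq.dvd_of_dvd_pow (hwq ▸ hj ▸ dvd_rfl : q ∣ p ^ j))
  · refine Or.inr ⟨p, hp, hcard, hps.1, hps.2, hcyc, hP3, hna, hK, hU hK, ?_⟩
    rw [hH, card_eq_of_complIn hKc (le_normalizer_sigmaCore M)]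
    exact hdiv

end Cfsg.Agent.BGSummary
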