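import Cfsg.Agent.BGSummary.Compl
import Cfsg.Agent.BGSummary.CyclicCore
import Cfsg.Agent.BGUniq.FittingOf

/-!
# The elements of `U` centralizing elements of `M_σ`, and the `σ'`-part of `F(M)`

The statements S1358–S1361, S1363 and S1439, from the local structure.
-/

set_option autoImplicit false
set_option linter.unusedSectionVars false
set_option linter.style.haveILetI false

namespace Cfsg.Agent.BGSummary.Loc

open Cfsg Subgroup
open Cfsg.Agent.BGSigma (sigmaCore_le le_normalizer_sigmaCore isPiSub_sigmaCore localInputs)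

universe u

variable {G : Type u} [Group G] [Finite G] (hG : IsMinSimpleOddOrder G) (h : LocalStructure G)
  {M : Subgroup G} (hM : IsCoatom M)
include hG h hM

section

variable {K U : Subgroup G} (hKU : IsSigmaDecomposition M K U)
include hKU

theorem complement_sylow_of {p : ℕ} (hp : p.Prime) (P : Sylow p U) :
    IsMulCommutative (P : Subgroup U) ∧ PRankLE p 2 (P : Subgroup U) := by
  haveI := Fact.mk hp
  refine ⟨?_, BGSigma.prankLE_subgroup_self _ (BGSigma.prankLE_subgroup le_sup_left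
    (BGTwelve.prankLE_compl hG hM (compl_sup hKU) hp))⟩
  haveI : IsMulCommutative ((P : Subgroup U).map U.subtype) := by
    refine (h.sigma_prime M hM _ (compl_sup hKU)).1 _ ((map_subtype_le _).trans hKU.compl.1)
      (P.isPGroup'.map U.subtype).isNilpotent fun q hq hd => ?_
    exact (not_mem_of_dvd_U hG hM hKU hq (hd.trans (card_dvd_of_le (map_subtype_le _)))).1
  exact ⟨⟨fun a b => Subtype.ext (U.subtype_injective (congrArg Subtype.val (mul_comm'
    (⟨_, mem_map_of_mem U.subtype a.2⟩ : (P : Subgroup U).map U.subtype)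
    ⟨_, mem_map_of_mem U.subtype b.2⟩)))⟩⟩

/-- The elements of `U` centralizing a nonidentity element of `M_σ` lie in an abelian subgroup. -/
theorem exists_abelian_hat :
    ∃ A₀ : Subgroup G, IsMulCommutative A₀ ∧ ∀ u ∈ U, u ∈ sigmaHat M → u ∈ A₀ := by
  by_cases hK : K = ⊥
  · have hE := compl_U hG h hM hKU hK
    obtain ⟨⟨A₀, -, -, hc, hA⟩, -⟩ := h.fpf_compl M hM U hE
      (fpf_hyp hG h hM hE (kappa_eq_empty hG h hM hKU hK))
    refine ⟨A₀, hc, fun u hu hhat => ?_⟩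
    obtain ⟨-, y, hy, hy1, huy⟩ := hhat
    exact hA y hy hy1 ⟨hu, mem_centralizer_singleton.mpr huy⟩
  · exact ⟨U, abelian_U hG h hM hKU hK, fun u hu _ => hu⟩

theorem hat_abelian_of : IsMulCommutative (Subgroup.closure ((U : Set G) ∩ sigmaHat M)) := by
  obtain ⟨A₀, hc, hA⟩ := exists_abelian_hat hG h hM hKU
  haveI := hc
  have hle : Subgroup.closure ((U : Set G) ∩ sigmaHat M) ≤ A₀ :=
    (closure_le _).mpr fun u hu => hA u hu.1 hu.2
  exact ⟨⟨fun a b => Subtype.ext (Subtype.ext_iff.mp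
    (mul_comm' (⟨a.1, hle a.2⟩ : A₀) ⟨b.1, hle b.2⟩) :)⟩⟩

/-- The `τ₂(M)`-Sylow subgroups of `U` are Sylow subgroups of `M`. -/
theorem exists_sylow_U {p : ℕ} [hp : Fact p.Prime] (hd : p ∣ Nat.card U) :
    ∃ P : Sylow p M, (P : Subgroup M).map M.subtype ≤ U := by
  let S : Sylow p U := default
  obtain ⟨P, hP⟩ := ((S.isPGroup'.map U.subtype).comap_subtype (K := M)).exists_le_sylow
  refine ⟨P, ?_⟩
  have hle : (S : Subgroup U).map U.subtype ≤ (P : Subgroup M).map M.subtype := fun a ha =>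
    ⟨⟨a, hKU.compl.1 (map_subtype_le _ ha)⟩, hP ha, rfl⟩
  refine (eq_of_le_of_card_ge hle ?_).symm.le.trans (map_subtype_le _)
  rw [card_map_of_injective M.subtype_injective, card_map_of_injective U.subtype_injective,
    P.card_eq_multiplicity, S.card_eq_multiplicity]
  refine Nat.pow_le_pow_right hp.out.pos (le_of_eq ?_)
  rw [card_M hG hM hKU, Nat.factorization_mul (mul_ne_zero Nat.card_pos.ne' Nat.card_pos.ne')
    Nat.card_pos.ne', Nat.factorization_mul Nat.card_pos.ne' Nat.card_pos.ne']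
  obtain ⟨hs, hk⟩ := not_mem_of_dvd_U hG hM hKU hp.out hd
  simp [Nat.factorization_eq_zero_of_not_dvd fun h1 => hk (hKU.hall.2.1 p hp.out h1),
    Nat.factorization_eq_zero_of_not_dvd fun h1 => hs (isPiSub_sigmaCore M p hp.out h1)]

theorem exists_fpf_power (hc : IsMulCommutative U) {p : ℕ} [hp : Fact p.Prime]
    (hd : p ∣ Monoid.exponent U) :
    ∃ s ∈ U, orderOf s = p ^ (Monoid.exponent U).factorization p ∧
      sigmaCore M ⊓ centralizer ({s ^ p ^ ((Monoid.exponent U).factorization p - 1)} : Set G) = ⊥ := by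
  have hI := localInputs hG
  set d := Monoid.exponent U with hdd
  set v := d.factorization p with hv
  have hv1 : 1 ≤ v := hp.out.factorization_pos_of_dvd Monoid.exponent_ne_zero_of_finite hd
  haveI := hc
  obtain ⟨g, hg⟩ := hp.out.exists_orderOf_eq_pow_factorization_exponent U
  set s₀ : G := (g : G) with hs₀
  have hso : orderOf s₀ = p ^ v := by rw [hs₀, Subgroup.orderOf_coe, hg]
  have hpow : ∀ {s : G}, orderOf s = p ^ v → orderOf (s ^ p ^ (v - 1)) = p := fun {s} hs => by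
    rw [orderOf_pow_of_dvd (pow_ne_zero _ hp.out.pos.ne') (hs ▸ pow_dvd_pow p (Nat.sub_le _ _)), hs,
      Nat.pow_div (Nat.sub_le _ _) hp.out.pos, Nat.sub_sub_self hv1, pow_one]
  by_cases hfix : sigmaCore M ⊓ centralizer ({s₀ ^ p ^ (v - 1)} : Set G) = ⊥
  · exact ⟨s₀, g.2, hso, hfix⟩
  set z := s₀ ^ p ^ (v - 1) with hz
  have hzU : z ∈ U := pow_mem g.2 _
  have hz1 : z ≠ 1 := fun h0 => by
    have := hpow hso; rw [← hz, h0, orderOf_one] at this; exact hp.out.ne_one this.symm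
  obtain ⟨y, hy, hy1⟩ := (Subgroup.ne_bot_iff_exists_ne_one).mp hfix |>.elim fun a ha =>
    (⟨a.1, a.2, fun h0 => ha (Subtype.ext h0)⟩ :
      ∃ y, y ∈ sigmaCore M ⊓ centralizer ({z} : Set G) ∧ y ≠ 1)
  have hp2 : p ∈ tau2 M := tau2_of_U hG h hM hKU hzU hy.1 hy1
    (mem_centralizer_singleton.mp hy.2).symm hp.out ((hpow hso) ▸ dvd_rfl)
  obtain ⟨A, hAU, hAe, hAc⟩ := exists_sq_le_U hG hM hKU hp2
  have hAE : A ≤ U ⊔ K ∧ IsElementaryAbelian p A ∧ Nat.card A = p ^ 2 :=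
    ⟨hAU.trans le_sup_left, hAe, hAc⟩
  obtain ⟨-, hPs, -, -, -, A₁, hA₁A, hA₁c, hA₁f⟩ :=
    h.tau_two M hM p hp2 A ⟨hAU.trans hKU.compl.1, hAe, hAc⟩
  obtain ⟨⟨-, hle⟩, -, huniq⟩ := h.tau_two_compl M hM _ (compl_sup hKU) p hp2 A hAE
  obtain ⟨P, hPU⟩ := exists_sylow_U hG h hM hKU (p := p)
    ((hpow hso) ▸ (Subgroup.orderOf_dvd_natCard U hzU))
  set P₀ := (P : Subgroup M).map M.subtype with hP₀
  -- a Sylow subgroup of the abelian group `U` contains all its `p`-elements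
  have hPall : ∀ {s : G}, s ∈ U → ∀ {j : ℕ}, orderOf s = p ^ j → s ∈ P₀ := by
    intro s hs j hj
    have hT : IsPGroup p (P₀ ⊔ zpowers s : Subgroup G) := by
      refine IsPGroup.to_sup_of_normal_left' (P.isPGroup'.map _)
        (IsPGroup.of_card (by rw [Nat.card_zpowers, hj])) ((zpowers_le).mpr ?_)
      refine mem_normalizer_iff.mpr fun a => ⟨fun ha => ?_, fun ha => ?_⟩
      · rwa [show s * a * s⁻¹ = a by
          rw [mul_inv_eq_iff_eq_mul]
          exact congrArg Subtype.val (mul_comm' (⟨s, hs⟩ : U) ⟨a, hPU ha⟩)]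
      · have ha' := hPU ha
        have haU : a ∈ U := by
          have := mul_mem (mul_mem (inv_mem hs) ha') hs
          simpa [mul_assoc] using this
        rwa [show s * a * s⁻¹ = a by
          rw [mul_inv_eq_iff_eq_mul]
          exact congrArg Subtype.val (mul_comm' (⟨s, hs⟩ : U) ⟨a, haU⟩)] at ha
    have hTM : P₀ ⊔ zpowers s ≤ M :=
      sup_le (map_subtype_le _) ((zpowers_le).mpr (hKU.compl.1 hs))
    have hfix : P₀.subgroupOf M = (P : Subgroup M) :=
      comap_map_eq_self_of_injective M.subtype_injective _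
    have := P.is_maximal' (hT.comap_subtype (K := M)) (hfix.symm.le.trans
      (comap_mono le_sup_left))
    exact mem_map.mpr ⟨⟨s, hKU.compl.1 hs⟩, this.le (mem_sup_right (mem_zpowers s)), rfl⟩
  haveI := hAe.1
  have hAP : A ≤ P₀ := fun a ha => by
    rcases eq_or_ne a 1 with rfl | ha1
    · exact one_mem _
    · exact hPall (hAU ha) (j := 1) (by rw [pow_one]; exact orderOf_eq_prime (hAe.2 a ha) ha1)
  -- the top powers form a subgroup of `A`
  let ψ : U →* U :=
    { toFun := fun a => a ^ p ^ (v - 1)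
      map_one' := one_pow _
      map_mul' := fun a b => Commute.mul_pow (mul_comm' a b) _ }
  set L : Subgroup G := ((P₀.subgroupOf U).map ψ).map U.subtype with hL
  have hLmem : ∀ {a : G}, a ∈ L ↔ ∃ s ∈ P₀, s ^ p ^ (v - 1) = a := by
    intro a
    constructor
    · rintro ⟨_, ⟨s, hs, rfl⟩, rfl⟩; exact ⟨s, hs, rfl⟩
    · rintro ⟨s, hs, rfl⟩; exact ⟨_, ⟨⟨s, hPU hs⟩, hs, rfl⟩, rfl⟩
  have hdpow : ∀ {s : G}, s ∈ P₀ → s ^ p ^ v = 1 := by
    intro s hs
    obtain ⟨j, hj⟩ := (P.isPGroup'.map M.subtype) ⟨s, hs⟩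
    have hj' : s ^ p ^ j = 1 := congrArg Subtype.val hj
    obtain ⟨i, -, hi⟩ := (Nat.dvd_prime_pow hp.out).mp (orderOf_dvd_of_pow_eq_one hj')
    have h1 : p ^ i ∣ d := hi ▸ (Subgroup.orderOf_mk s (hPU hs) ▸ Monoid.order_dvd_exponent _)
    exact orderOf_dvd_iff_pow_eq_one.mp (hi ▸ pow_dvd_pow p
      ((hp.out.pow_dvd_iff_le_factorization Monoid.exponent_ne_zero_of_finite).mp h1))
  have hLA : L ≤ A := by
    intro a ha
    obtain ⟨s, hs, rfl⟩ := hLmem.mp ha
    rcases eq_or_ne (s ^ p ^ (v - 1)) 1 with h1 | h1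
    · rw [h1]; exact one_mem A
    · have hpe : (s ^ p ^ (v - 1)) ^ p = 1 := by
        rw [← pow_mul, ← pow_succ, Nat.sub_add_cancel hv1, hdpow hs]
      refine hle (zpowers _) ((zpowers_le).mpr (mem_sup_left (pow_mem (hPU hs) _))) ?_
        (mem_zpowers _)
      rw [Nat.card_zpowers, orderOf_eq_prime hpe h1]
  have hzL : z ∈ L := hLmem.mpr ⟨s₀, hPall g.2 hso, rfl⟩
  by_cases hLA' : A ≤ L
  · obtain ⟨a, ha⟩ := exists_prime_orderOf_dvd_card' (G := A₁) p (hA₁c.symm ▸ dvd_rfl)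
    rw [← Subgroup.orderOf_coe] at ha
    obtain ⟨s, hs, hsa⟩ := hLmem.mp (hLA' (hA₁A a.2))
    refine ⟨s, hPU hs, ?_, ?_⟩
    · have h2 := orderOf_eq_prime_pow (p := p) (n := v - 1) (x := s) ?_
        (by rw [Nat.sub_add_cancel hv1]; exact hdpow hs)
      · rw [h2, Nat.sub_add_cancel hv1]
      · rw [hsa]; intro h0; rw [h0, orderOf_one] at ha; exact hp.out.ne_one ha.symm
    · rw [hsa, ← centralizer_zpowers,
        eq_of_le_of_card_ge ((zpowers_le).mpr a.2) (by rw [Nat.card_zpowers, ha, hA₁c]), hA₁f]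
  · exfalso
    obtain ⟨j, hj2, hj⟩ := (Nat.dvd_prime_pow hp.out).mp (hAc ▸ card_dvd_of_le hLA)
    have hLz : zpowers z = L := by
      refine eq_of_le_of_card_ge ((zpowers_le).mpr hzL) ?_
      rw [Nat.card_zpowers, hpow hso, hj]
      rcases Nat.lt_or_ge j 2 with hj' | hj'
      · interval_cases j <;> simp [hp.out.one_le]
      · exact absurd (eq_of_le_of_card_ge hLA (by
          rw [hj, hAc]; exact Nat.pow_le_pow_right hp.out.pos hj')).ge hLA'
    have hzA : zpowers z ≤ A := hLz.le.trans hLA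
    obtain ⟨-, hu⟩ := huniq (zpowers z) hzA (by rw [Nat.card_zpowers, hpow hso])
      (by rwa [centralizer_zpowers])
    have hNN : normalizer (P₀ : Set G) ≤ normalizer ((zpowers z : Subgroup G) : Set G) := by
      refine Coprime.le_normalizer_of_conj_mem fun n hn a ha => ?_
      rw [hLz] at ha ⊢
      obtain ⟨s, hs, rfl⟩ := hLmem.mp ha
      exact hLmem.mpr ⟨n * s * n⁻¹, Coprime.conj_mem_of_mem_normalizer hn hs, conj_pow⟩
    obtain ⟨N, hN, hzN⟩ := BGSigma.exists_coatom_ge hG (BGSigma.normalizer_ne_top hG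
      (zpowers_ne_bot.mpr hz1)
      fun h0 => hM.1 (top_le_iff.mp (h0 ▸ (zpowers_le).mpr (hKU.compl.1 hzU))))
    exact ((hPs P).2 hAP).2 (hNN.trans (hu N hN ((centralizer_le_normalizer _).trans hzN) ▸ hzN))

theorem fpf_exponent_of :
    ∃ U₀ : Subgroup G, U₀ ≤ U ∧ Monoid.exponent U₀ = Monoid.exponent U ∧
      ∀ u ∈ U₀, u ∈ sigmaHat M → u = 1 := by
  classical
  by_cases hK : K = ⊥
  · have hE := compl_U hG h hM hKU hK
    obtain ⟨-, E₀, hE₀, hexp, hf⟩ := h.fpf_compl M hM U hE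
      (fpf_hyp hG h hM hE (kappa_eq_empty hG h hM hKU hK))
    refine ⟨E₀, hE₀, hexp, fun u hu hhat => by_contra fun hu1 => ?_⟩
    obtain ⟨-, y, hy, hy1, huy⟩ := hhat
    exact hy1 ((eq_bot_iff_forall _).mp (hf u hu hu1) y ⟨hy, mem_centralizer_singleton.mpr huy.symm⟩)
  have hc := abelian_U hG h hM hKU hK
  haveI := hc
  letI : CommGroup U := { (inferInstance : Group U) with mul_comm := mul_comm' }
  set d := Monoid.exponent U with hd
  have hd0 : d ≠ 0 := Monoid.exponent_ne_zero_of_finite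
  have hex : ∀ p : d.primeFactors, ∃ s : U, orderOf s = (p : ℕ) ^ d.factorization p ∧
      sigmaCore M ⊓ centralizer ({(s : G) ^ (p : ℕ) ^ (d.factorization p - 1)} : Set G) = ⊥ := by
    intro p
    haveI := Fact.mk (Nat.prime_of_mem_primeFactors p.2)
    obtain ⟨s, hs, hso, hf⟩ := exists_fpf_power hG h hM hKU hc (p := p)
      (Nat.dvd_of_mem_primeFactors p.2)
    exact ⟨⟨s, hs⟩, by rw [Subgroup.orderOf_mk, hso], hf⟩
  choose s hso hsf using hex
  set c : U := ∏ p, s p with hcc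
  have hcp : ∀ p : d.primeFactors, c ^ (d / p) = s p ^ (d / p) := by
    intro p
    rw [hcc, ← Finset.prod_pow, Finset.prod_eq_single p (fun q _ hqp => ?_)
      (fun h0 => absurd (Finset.mem_univ p) h0)]
    refine orderOf_dvd_iff_pow_eq_one.mp ?_
    rw [hso]
    refine (Nat.Coprime.pow_left _ ((Nat.coprime_primes (Nat.prime_of_mem_primeFactors q.2)
      (Nat.prime_of_mem_primeFactors p.2)).mpr fun h0 => hqp (Subtype.ext h0))).dvd_of_dvd_mul_right ?_
    rw [Nat.div_mul_cancel (Nat.dvd_of_mem_primeFactors p.2)]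
    exact Nat.ordProj_dvd d q
  have hsp : ∀ p : d.primeFactors, s p ^ (d / p) ≠ 1 := by
    intro p h1
    have hp := Nat.prime_of_mem_primeFactors p.2
    have h2 := orderOf_dvd_of_pow_eq_one h1
    rw [hso] at h2
    refine Nat.pow_succ_factorization_not_dvd hd0 hp ?_
    rw [pow_succ]
    exact (Nat.mul_dvd_mul_right h2 _).trans
      (Nat.div_mul_cancel (Nat.dvd_of_mem_primeFactors p.2)).dvd
  have hco : orderOf c = d := orderOf_eq_of_pow_and_pow_div_prime (Nat.pos_of_ne_zero hd0)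
    (Monoid.pow_exponent_eq_one c) fun p hp hpd =>
      (hcp ⟨p, Nat.mem_primeFactors.mpr ⟨hp, hpd, hd0⟩⟩).symm ▸
        hsp ⟨p, Nat.mem_primeFactors.mpr ⟨hp, hpd, hd0⟩⟩
  refine ⟨zpowers (c : G), (zpowers_le).mpr c.2, ?_, fun u hu hhat => by_contra fun hu1 => ?_⟩
  · rw [IsCyclic.exponent_eq_card, Nat.card_zpowers, Subgroup.orderOf_coe, hco]
  obtain ⟨-, y, hy, hy1, huy⟩ := hhat
  obtain ⟨q, hq, hqd⟩ := Nat.exists_prime_and_dvd (mt orderOf_eq_one_iff.mp hu1)
  have hqc : q ∣ d := by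
    rw [← hco, ← Subgroup.orderOf_coe, ← Nat.card_zpowers]
    exact hqd.trans (Subgroup.orderOf_dvd_natCard _ hu)
  have hqm : q ∈ d.primeFactors := Nat.mem_primeFactors.mpr ⟨hq, hqc, hd0⟩
  haveI := Fact.mk hq
  set v := d.factorization q with hvv
  have hv1 : 1 ≤ v := hq.factorization_pos_of_dvd hd0 hqc
  obtain ⟨k, hk⟩ := hqd
  have hko : orderOf (u ^ k) = q := by
    rw [orderOf_pow_of_dvd (fun h0 => by rw [h0, mul_zero] at hk; exact (orderOf_pos u).ne' hk)
      ⟨q, by rw [hk, mul_comm]⟩, hk, Nat.mul_div_cancel]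
    exact Nat.pos_of_ne_zero fun h0 => by rw [h0, mul_zero] at hk; exact (orderOf_pos u).ne' hk
  set t : G := (s ⟨q, hqm⟩ : G) ^ q ^ (v - 1) with ht
  have hto : orderOf t = q := by
    have h1 : orderOf (s ⟨q, hqm⟩ : G) = q ^ v := by rw [Subgroup.orderOf_coe, hso]
    rw [ht, orderOf_pow_of_dvd (pow_ne_zero _ hq.pos.ne') (h1 ▸ pow_dvd_pow q (Nat.sub_le _ _)), h1,
      Nat.pow_div (Nat.sub_le _ _) hq.pos, Nat.sub_sub_self hv1, pow_one]
  set e : G := (c : G) ^ (d / q) with he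
  have hec : e ∈ zpowers t := by
    have h1 : e = (s ⟨q, hqm⟩ : G) ^ (d / q) := by
      rw [he, ← Subgroup.coe_pow, hcp ⟨q, hqm⟩, Subgroup.coe_pow]
    obtain ⟨b, hb⟩ : q ^ (v - 1) ∣ d / q := by
      refine (Nat.dvd_div_iff_mul_dvd hqc).mpr ?_
      rw [← pow_succ', Nat.sub_add_cancel hv1]
      exact Nat.ordProj_dvd d q
    rw [h1, hb, pow_mul, ← ht]
    exact npow_mem_zpowers t b
  have hoe : orderOf e = q := by
    rw [he, orderOf_pow_of_dvd (Nat.div_pos (Nat.le_of_dvd (Nat.pos_of_ne_zero hd0) hqc) hq.pos).ne'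
      (by rw [Subgroup.orderOf_coe, hco]; exact Nat.div_dvd_of_dvd hqc), Subgroup.orderOf_coe, hco,
      Nat.div_div_self hqc hd0]
  have hte : t ∈ zpowers (c : G) := by
    have h1 : zpowers e = zpowers t := eq_of_le_of_card_ge ((zpowers_le).mpr hec)
      (by rw [Nat.card_zpowers, Nat.card_zpowers, hto, hoe])
    exact (zpowers_le).mpr (npow_mem_zpowers _ _) (h1.ge (mem_zpowers t))
  have htu : t ∈ zpowers (u ^ k) := mem_zpowers_of_orderOf_eq
    (C := zpowers (c : G)) inferInstance (pow_mem hu k) hte (hko.trans hto.symm)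
  refine hy1 ((eq_bot_iff_forall _).mp (hsf ⟨q, hqm⟩) y ⟨hy, ?_⟩)
  rw [← ht]
  obtain ⟨i, hi⟩ := mem_zpowers_iff.mp htu
  rw [← hi]
  exact mem_centralizer_singleton.mpr ((Commute.pow_left (huy : Commute u y) k).zpow_left i).symm

theorem centralizer_unique_of {X : Subgroup G} (hXU : X ≤ U) (hX : X ≠ ⊥)
    (hXc : sigmaCore M ⊓ centralizer (X : Set G) ≠ ⊥) :
    centralizer (X : Set G) ≤ M ∧
      ∀ L : Subgroup G, IsCoatom L → centralizer (X : Set G) ≤ L → L = M := by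
  classical
  obtain ⟨⟨y, hy⟩, hy'⟩ := (Subgroup.ne_bot_iff_exists_ne_one).mp hXc
  have hy1 : y ≠ 1 := fun h0 => hy' (Subtype.ext h0)
  have hXy : ∀ z ∈ X, z * y = y * z := fun z hz => mem_centralizer_iff.mp hy.2 z hz
  obtain ⟨p, hp, hpd⟩ := Nat.exists_prime_and_dvd (mt card_eq_one.mp hX)
  haveI := Fact.mk hp
  obtain ⟨⟨x, hxX⟩, hxo⟩ := exists_prime_orderOf_dvd_card' (G := X) p hpd
  rw [Subgroup.orderOf_mk] at hxo
  have hx1 : x ≠ 1 := fun h0 => by rw [h0, orderOf_one] at hxo; exact hp.ne_one hxo.symm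
  have hp2 : p ∈ tau2 M :=
    tau2_of_U hG h hM hKU (hXU hxX) hy.1 hy1 (hXy x hxX) hp (hxo ▸ dvd_rfl)
  obtain ⟨A, hAU, hAe, hAc⟩ := exists_sq_le_U hG hM hKU hp2
  have hE := compl_sup hKU
  have hAE : A ≤ U ⊔ K ∧ IsElementaryAbelian p A ∧ Nat.card A = p ^ 2 :=
    ⟨hAU.trans le_sup_left, hAe, hAc⟩
  obtain ⟨⟨-, hle⟩, -, huniq⟩ := h.tau_two_compl M hM _ hE p hp2 A hAE
  have hxA : x ∈ A := hle (zpowers x) ((zpowers_le).mpr (mem_sup_left (hXU hxX)))
    (by rw [Nat.card_zpowers, hxo]) (mem_zpowers x)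
  have hxf : sigmaCore M ⊓ centralizer ({x} : Set G) ≠ ⊥ := fun h0 =>
    hy1 ((eq_bot_iff_forall _).mp h0 y ⟨hy.1, mem_centralizer_singleton.mpr (hXy x hxX).symm⟩)
  obtain ⟨hCx, -⟩ := huniq (zpowers x) ((zpowers_le).mpr hxA) (by rw [Nat.card_zpowers, hxo])
    (by rwa [centralizer_zpowers])
  rw [centralizer_zpowers] at hCx
  refine ⟨(centralizer_le (Set.singleton_subset_iff.mpr hxX)).trans hCx, fun L hL hXL => ?_⟩
  obtain ⟨A₀, hA₀c, hA₀⟩ := exists_abelian_hat hG h hM hKU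
  haveI := hA₀c
  have hmem : ∀ z ∈ X, z ∈ A₀ := fun z hz =>
    hA₀ z (hXU hz) ⟨hKU.compl.1 (hXU hz), y, hy.1, hy1, hXy z hz⟩
  have hAX : A ≤ centralizer (X : Set G) := by
    refine le_centralizer_iff.mp fun z hz => ?_
    refine mem_centralizer_sq hG h hM hE hp2 hAE hxA hx1 hxf (mem_sup_left (hXU hz))
      (congrArg Subtype.val (mul_comm' (⟨z, hmem z hz⟩ : A₀) ⟨x, hmem x hxX⟩))
      (Or.inr fun q hq hd => tau2_of_U hG h hM hKU (hXU hz) hy.1 hy1 (hXy z hz) hq hd)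
  by_contra hne
  obtain ⟨-, -, -, -, hmeet, -⟩ := h.tau_two M hM p hp2 A ⟨hAU.trans hKU.compl.1, hAe, hAc⟩
  exact hy1 ((eq_bot_iff_forall _).mp (hmeet L hL hne (hAX.trans hXL)) y ⟨hy.1, hXL hy.2⟩)

end

/-- An element of order in `κ(M)` does not centralize `M_σ`. -/
theorem not_kappa_of_centralizes {z : G} {p : ℕ} [hp : Fact p.Prime] (hzM : z ∈ M)
    (hzo : orderOf z = p) (hz : ∀ y ∈ sigmaCore M, z * y = y * z) : p ∉ kappa M := by
  intro hk
  obtain ⟨K, hK⟩ := (h.kappa_hall M hM).1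
  have hKc := (h.kappa_hall M hM).2 K hK
  obtain ⟨m, hm, hmK⟩ := exists_conj_mem_hall hK hk hzM (n := 1) (by rw [hzo, pow_one])
  have hz1 : z ≠ 1 := fun h0 => by rw [h0, orderOf_one] at hzo; exact hp.out.ne_one hzo.symm
  have hm1 : m * z * m⁻¹ ≠ 1 := fun h0 => hz1 (conj_eq_one_iff.mp h0)
  have hK1 : K ≠ ⊥ := fun h0 => hm1 (mem_bot.mp (h0 ▸ hmK))
  have hcm : ∀ y ∈ sigmaCore M, m * z * m⁻¹ * y = y * (m * z * m⁻¹) := fun y hy => by
    have h1 := hz _ (Coprime.conj_mem_of_mem_normalizer' (le_normalizer_sigmaCore M hm) hy)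
    calc m * z * m⁻¹ * y = m * (z * (m⁻¹ * y * m)) * m⁻¹ := by group
      _ = m * ((m⁻¹ * y * m) * z) * m⁻¹ := by rw [h1]
      _ = _ := by group
  have hC := (h.kappa_star M hM K hKc hK).2 hK1 _ hmK hm1
  have hle : sigmaCore M ≤ sigmaCore M ⊓ centralizer (K : Set G) := by
    intro y hy
    have hy' : y ∈ K ⊔ (sigmaCore M ⊓ centralizer (K : Set G)) := hC.le
      ⟨sigmaCore_le M hy, mem_centralizer_singleton.mpr (hcm y hy).symm⟩
    rw [sup_comm] at hy'
    obtain ⟨a, ha, b, hb, rfl⟩ := Coprime.exists_mul_of_mem_sup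
      (Coprime.le_normalizer_inf (hK.1.trans (le_normalizer_sigmaCore M))
        (Coprime.le_normalizer_centralizer le_normalizer)) hy'
    have hb1 : b ∈ K ⊓ sigmaCore M := ⟨hb, ((sigmaCore M).mul_mem_cancel_left ha.1).mp hy⟩
    rw [inf_eq_bot_of_coprime (TypeCore.coprime_kappa hK), mem_bot] at hb1
    rw [hb1, mul_one]; exact ha
  obtain ⟨-, -, h3, -⟩ := h.kappa_star_meet M hM K hK hK1
  have hst := (h.kappa_star M hM K hKc hK).1
  obtain ⟨q, hq, hqd⟩ := Nat.exists_prime_and_dvd (mt card_eq_one.mp hst)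
  haveI := Fact.mk hq
  exact (h3 q hq hqd default).2.2 ((map_subtype_le _).trans hle)

/-- S1439. -/
theorem fitting_sigma_prime_of :
    IsCyclic ↥(piCoreOf {q | q.Prime ∧ q ∉ sigma M} (fittingOf M)) ∧
      (∀ p : ℕ, p.Prime → p ∣ Nat.card ↥(piCoreOf {q | q.Prime ∧ q ∉ sigma M} (fittingOf M)) →
        p ∈ tau2 M) ∧
      fittingOf M = fittingOf (sigmaCore M) ⊔
        piCoreOf {q | q.Prime ∧ q ∉ sigma M} (fittingOf M) := by
  classical
  have hHall := hall hG hM
  set π : Set ℕ := {q | q.Prime ∧ q ∉ sigma M} with hπ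
  set Y := piCoreOf π (fittingOf M) with hY
  have hYF : Y ≤ fittingOf M := BGSigma.piCoreOf_le _
  have hYM : Y ≤ M := hYF.trans (BGUniq.fittingOf_le M)
  have hYpi : ∀ p : ℕ, p.Prime → p ∣ Nat.card Y → p ∉ sigma M := fun p hp hd =>
    (BGSigma.isPiSub_piCoreOf (π := π) (fittingOf M) p hp hd).2
  have hYn : M ≤ normalizer (Y : Set G) := by
    haveI := BGSigma.piCore_characteristic (G := fittingOf M) (π := π)
    exact (BGUniq.le_normalizer_fittingOf M).trans (Coprime.normalizer_le_normalizer_map _ _)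
  have hYnil : Group.IsNilpotent Y := by
    haveI := BGUniq.isNilpotent_fittingOf M
    exact Fitting.isNilpotent_map _ inferInstance
  obtain ⟨E, hE'⟩ := exists_compl hG hM
  have hYc : IsMulCommutative Y := (h.sigma_prime M hM E hE').1 Y hYM hYnil hYpi
  have hYσ : (Nat.card Y).Coprime (Nat.card (sigmaCore M)) :=
    Nat.coprime_of_dvd fun p hp h1 h2 => hYpi p hp h1 (isPiSub_sigmaCore M p hp h2)
  have hcomm : ∀ z ∈ Y, ∀ y ∈ sigmaCore M, z * y = y * z := fun z hz y hy =>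
    BGUniq.mul_comm_of_normalized_coprime hYM (sigmaCore_le M) hYn (le_normalizer_sigmaCore M)
      hYσ hz hy
  have hσ1 : sigmaCore M ≠ ⊥ := BGSigma.sigmaCore_ne_bot hG (BGSigma.uniquenessTheorem hG)
    BGSigma.smallRankFrattini BGSigma.fittingRankTwoDerived BGSigma.rankTwoLargestPrime hM
  obtain ⟨⟨y₀, hy₀⟩, hy₀'⟩ := (Subgroup.ne_bot_iff_exists_ne_one).mp hσ1
  have hy₀1 : y₀ ≠ 1 := fun h0 => hy₀' (Subtype.ext h0)
  have hτ : ∀ p : ℕ, p.Prime → p ∣ Nat.card Y → p ∈ tau2 M := by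
    intro p hp hd
    haveI := Fact.mk hp
    obtain ⟨⟨z, hz⟩, hzo⟩ := exists_prime_orderOf_dvd_card' (G := Y) p hd
    rw [Subgroup.orderOf_mk] at hzo
    have hz1 : z ≠ 1 := fun h0 => by rw [h0, orderOf_one] at hzo; exact hp.ne_one hzo.symm
    refine (mem_kappa_or_tau2 hG h hM (hYM hz) hp (hYpi p hp hd) (hzo ▸ dvd_rfl) hy₀ hy₀1
      (hcomm z hz y₀ hy₀)).resolve_left fun hk => ?_
    exact not_kappa_of_centralizes hG h hM (hYM hz) hzo (hcomm z hz) hk
  refine ⟨?_, hτ, ?_⟩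
  · refine BGTwelve.isCyclic_of_nilpotent_rankLE_one hYnil (BGSigma.odd_card_subgroup hG Y)
      fun p hp => by_contra fun hr => ?_
    haveI := Fact.mk hp
    obtain ⟨A, hAY, hAe, hAc⟩ := BGSigma.exists_elemAbelian_sq_le hr
    have hp2 := hτ p hp ((hAc ▸ dvd_pow_self p two_ne_zero).trans (card_dvd_of_le hAY))
    obtain ⟨-, -, -, hfix, -⟩ := h.tau_two M hM p hp2 A ⟨hAY.trans hYM, hAe, hAc⟩
    exact hy₀1 ((eq_bot_iff_forall _).mp hfix y₀ ⟨hy₀, mem_centralizer_iff.mpr fun a ha =>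
      hcomm a (hAY ha) y₀ hy₀⟩)
  · refine le_antisymm (BGUniq.fittingOf_le_of_core_le fun r hr => ?_) (sup_le ?_ hYF)
    · haveI := Fact.mk hr
      have hcp := BGUniq.isPGroup_core r M
      have hcn := BGUniq.le_normalizer_core r M
      have hcle : BGUniq.core r M ≤ fittingOf M := BGUniq.core_le_fittingOf r M
      by_cases hrs : r ∈ sigma M
      · have hcσ : BGUniq.core r M ≤ sigmaCore M := BGSigma.le_piCoreOf (BGUniq.core_le r M) hcn
          fun q hq hd => by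
            obtain ⟨n, hn⟩ := hcp.exists_card_eq
            rw [hn] at hd
            exact (Nat.prime_dvd_prime_iff_eq hq hr).mp (hq.dvd_of_dvd_pow hd) ▸ hrs
        refine le_sup_of_le_left ?_
        have hnn : ((BGUniq.core r M).subgroupOf (sigmaCore M)).Normal :=
          (normal_subgroupOf_iff_le_normalizer hcσ).mpr ((sigmaCore_le M).trans hcn)
        have := Subgroup.map_mono (f := (sigmaCore M).subtype) (Fitting.le_fitting hnn
          (hcp.comap_subtype (K := sigmaCore M)).isNilpotent)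
        rwa [map_subgroupOf_eq_of_le hcσ] at this
      · refine le_sup_of_le_right (BGSigma.le_piCoreOf hcle
          ((BGUniq.fittingOf_le M).trans hcn) fun q hq hd => ?_)
        obtain ⟨n, hn⟩ := hcp.exists_card_eq
        rw [hn] at hd
        exact ⟨hq, (Nat.prime_dvd_prime_iff_eq hq hr).mp (hq.dvd_of_dvd_pow hd) ▸ hrs⟩
    · haveI := BGUniq.isNilpotent_fittingOf (sigmaCore M)
      have hle := (BGUniq.fittingOf_le (sigmaCore M)).trans (sigmaCore_le M)
      have hnn : ((fittingOf (sigmaCore M)).subgroupOf M).Normal :=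
        (normal_subgroupOf_iff_le_normalizer hle).mpr ((le_normalizer_sigmaCore M).trans
          (Coprime.normalizer_le_normalizer_map _ _))
      have := Subgroup.map_mono (f := M.subtype) (Fitting.le_fitting hnn
        (Group.nilpotent_of_mulEquiv (subgroupOfEquivOfLe hle).symm))
      rwa [map_subgroupOf_eq_of_le hle] at this

end Cfsg.Agent.BGSummary.Loc
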