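import Cfsg.Agent.BGSummary.StarAndFusion
import Cfsg.Agent.BGSigma.DisjointTools

/-!
# When `F(M)` is not a TI-subset

A nontrivial intersection of `F(M)` with a conjugate forces `M_σ` to be nilpotent; S1357 follows.
-/

set_option autoImplicit false
set_option linter.unusedSectionVars false
set_option linter.style.haveILetI false

namespace Cfsg.Agent.BGSummary.Loc

open Cfsg Subgroup
open Cfsg.Agent.BGSigma (sigmaCore_le le_normalizer_sigmaCore isPiSub_sigmaCore localInputs)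

universe u

variable {G : Type u} [Group G] [Finite G] (hG : IsMinSimpleOddOrder G) (h : LocalStructure G)
  {M : Subgroup G} (hM : IsCoatom M)
include hG h hM

/-- An element of prime order outside `σ(M)` is in `F(M)` together with a conjugate only for a
conjugating element of `M`. -/
theorem mem_of_conj_sigma' {z g : G} (hz : z ∈ fittingOf M) (hgz : g * z * g⁻¹ ∈ fittingOf M)
    {p : ℕ} [hp : Fact p.Prime] (hps : p ∉ sigma M) (hzo : orderOf z = p) : g ∈ M := by
  obtain ⟨K, U, hKU⟩ := exists_decomposition hG h hM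
  have hFM := BGUniq.fittingOf_le M
  obtain ⟨-, hτ, -⟩ := fitting_sigma_prime_of hG h hM
  set Y := piCoreOf {q | q.Prime ∧ q ∉ sigma M} (fittingOf M) with hY
  have hcY : BGUniq.core p M ≤ Y := BGSigma.le_piCoreOf (BGUniq.core_le_fittingOf p M)
    (hFM.trans (BGUniq.le_normalizer_core p M)) fun q hq hd => by
      obtain ⟨n, hn⟩ := (BGUniq.isPGroup_core p M).exists_card_eq
      rw [hn] at hd
      exact ⟨hq, (Nat.prime_dvd_prime_iff_eq hq hp.out).mp (hq.dvd_of_dvd_pow hd) ▸ hps⟩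
  obtain ⟨⟨y, hy⟩, hy'⟩ := (Subgroup.ne_bot_iff_exists_ne_one).mp (sigmaCore_ne_bot hG h hM)
  have hy1 : y ≠ 1 := fun h0 => hy' (Subtype.ext h0)
  have key : ∀ a ∈ fittingOf M, orderOf a = p →
      centralizer ({a} : Set G) ≤ M ∧
        ∀ L : Subgroup G, IsCoatom L → centralizer ({a} : Set G) ≤ L → L = M := by
    intro a ha hao
    have haY : a ∈ Y := hcY (BGUniq.mem_core_of_mem_fittingOf ha (j := 1) (by rw [hao, pow_one]))
    refine (h.sigma_prime M hM _ (compl_sup hKU)).2.2.2 a (hFM ha)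
      (fun h0 => by rw [h0, orderOf_one] at hao; exact hp.out.ne_one hao.symm)
      (fun q hq hd => hτ q hq (hd.trans (Subgroup.orderOf_dvd_natCard _ haY)))
      ⟨hFM ha, y, hy, hy1, ?_⟩
    refine BGUniq.mul_comm_of_normalized_coprime (BGUniq.core_le p M) (sigmaCore_le M)
      (BGUniq.le_normalizer_core p M) (le_normalizer_sigmaCore M) ?_
      (BGUniq.mem_core_of_mem_fittingOf ha (j := 1) (by rw [hao, pow_one])) hy
    exact Nat.coprime_of_dvd fun q hq h1 h2 =>
      (BGSigma.isPiSub_piCoreOf _ q hq (h1.trans (card_dvd_of_le hcY))).2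
        (isPiSub_sigmaCore M q hq h2)
  obtain ⟨h1, -⟩ := key _ hz hzo
  obtain ⟨-, h2⟩ := key _ hgz (by rw [orderOf_conj, hzo])
  have := h2 _ (BGSigma.isCoatom_map_conj hM g) ?_
  · have hgn : g ∈ normalizer (M : Set G) := mem_normalizer_iff_map_conj_eq.mpr this
    rwa [BGSigma.coatom_self_normalizing hG hM] at hgn
  · intro c hc
    refine BGSigma.mem_map_conj.mpr (h1 ?_)
    have := (BGTwelve.conj_mem_centralizer_iff (m := g) (x := z) (y := g⁻¹ * c * g)).mp
      (by simpa [mul_assoc] using hc)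
    simpa [mul_assoc] using this

/-- The intersection of `F(M)` with a conjugate lies in `M_σ`. -/
theorem inter_le_sigma {g : G} (hg : g ∉ M) :
    fittingOf M ⊓ (fittingOf M).map (MulAut.conj g).toMonoidHom ≤
      sigmaCore M ⊓ M.map (MulAut.conj g).toMonoidHom := by
  intro x hx
  have hy : g⁻¹ * x * g ∈ fittingOf M := BGSigma.mem_map_conj.mp hx.2
  refine ⟨TypeCore.mem_sigmaCore (hall hG hM) (BGUniq.fittingOf_le M hx.1) fun p hp hd =>
    by_contra fun hps => hg ?_, BGSigma.mem_map_conj.mpr (BGUniq.fittingOf_le M hy)⟩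
  haveI := Fact.mk hp
  obtain ⟨k, hk⟩ := hd
  have hk0 : k ≠ 0 := fun h0 => by rw [h0, mul_zero] at hk; exact (orderOf_pos x).ne' hk
  refine mem_of_conj_sigma' hG h hM (z := (g⁻¹ * x * g) ^ k) (g := g) (pow_mem hy k) ?_ hps ?_
  · rw [← conj_pow, show g * (g⁻¹ * x * g) * g⁻¹ = x by group]
    exact pow_mem hx.1 k
  · have hxo : orderOf (g⁻¹ * x * g) = orderOf x := by
      simpa using orderOf_conj g⁻¹ x
    rw [orderOf_pow_of_dvd hk0 ⟨p, by rw [hxo, hk, mul_comm]⟩, hxo, hk,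
      Nat.mul_div_cancel _ (Nat.pos_of_ne_zero hk0)]

/-- The intersection of `F(M)` with a conjugate is cyclic, avoids `β(M)` and `M_σ'`. -/
theorem inter_meet {g : G} (hg : g ∉ M) :
    IsCyclic ↥(fittingOf M ⊓ (fittingOf M).map (MulAut.conj g).toMonoidHom) ∧
      (∀ p : ℕ, p.Prime →
        p ∣ Nat.card ↥(fittingOf M ⊓ (fittingOf M).map (MulAut.conj g).toMonoidHom) →
          p ∈ sigma M ∧ p ∉ beta M) ∧
      fittingOf M ⊓ (fittingOf M).map (MulAut.conj g).toMonoidHom ⊓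
        ⁅sigmaCore M, sigmaCore M⁆ = ⊥ := by
  obtain ⟨K, U, hKU⟩ := exists_decomposition hG h hM
  obtain ⟨hc, hβ, hd⟩ := (h.sigma_meet M hM _ (compl_sup hKU)).2.2 g hg
  have hle := inter_le_sigma hG h hM hg
  refine ⟨?_, fun p hp hdvd => ⟨?_, hβ p hp (hdvd.trans (card_dvd_of_le hle))⟩,
    le_bot_iff.mp ((inf_le_inf_right _ hle).trans hd.le)⟩
  · haveI := hc
    exact Subgroup.isCyclic_of_le hle
  · exact isPiSub_sigmaCore M p hp (hdvd.trans (card_dvd_of_le (hle.trans inf_le_left)))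

/-- An element of the intersection has its centralizer outside `M`. -/
theorem not_centralizer_le {g : G} (hg : g ∉ M) {x : G}
    (hx : x ∈ fittingOf M ⊓ (fittingOf M).map (MulAut.conj g).toMonoidHom) (hx1 : x ≠ 1) :
    ¬ centralizer ({x} : Set G) ≤ M := by
  intro hC
  obtain ⟨hxσ, hxg⟩ := inter_le_sigma hG h hM hg hx
  obtain ⟨-, R, -, hR, huniq⟩ := h.sigma_supports M hM x hxσ hx1
  have hR1 : R = ⊥ := le_bot_iff.mp ((le_inf (le_inf (hR.2.1.trans hC) hR.2.1) le_rfl).trans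
    hR.2.2.1.le)
  obtain ⟨r, ⟨hr, hrM⟩, -⟩ := huniq g hxg
  rw [hR1, mem_bot] at hr
  subst hr
  rw [BGSigma.map_conj_one] at hrM
  have hgn : g ∈ normalizer (M : Set G) := mem_normalizer_iff_map_conj_eq.mpr hrM.symm
  rw [BGSigma.coatom_self_normalizing hG hM] at hgn
  exact hg hgn

/-- No subgroup of `M` in a unique maximal subgroup centralizes an element of the intersection. -/
theorem not_uniq_centralized {g : G} (hg : g ∉ M) {x : G}
    (hx : x ∈ fittingOf M ⊓ (fittingOf M).map (MulAut.conj g).toMonoidHom) (hx1 : x ≠ 1)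
    {R : Subgroup G} (hR : InUniqueMaximal R) (hRM : R ≤ M)
    (hRx : R ≤ centralizer ({x} : Set G)) : False :=
  not_centralizer_le hG h hM hg hx hx1 (BGUniq.le_of_inU hR hM hRM
    (BGUniq.centralizer_ne_top hG (S := {x}) rfl hx1) hRx)

omit h hM in
theorem exists_prime_mem {X : Subgroup G} (hX : X ≠ ⊥) :
    ∃ (p : ℕ) (x : G), p.Prime ∧ x ∈ X ∧ x ≠ 1 ∧ orderOf x = p := by
  obtain ⟨p, hp, t, ht, hto⟩ := BGSigma.exists_prime_line hX
  exact ⟨p, t, hp, ht, fun h0 => hp.ne_one (by rw [← hto, h0, orderOf_one]), hto⟩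

/-- A nontrivial intersection of `F(M)` with a conjugate makes `M_σ` nilpotent. -/
theorem isNilpotent_of_inter {g : G} (hg : g ∉ M)
    (hX : fittingOf M ⊓ (fittingOf M).map (MulAut.conj g).toMonoidHom ≠ ⊥) :
    Group.IsNilpotent (sigmaCore M) := by
  by_contra hnil
  obtain ⟨K, U, hKU⟩ := exists_decomposition hG h hM
  obtain ⟨q, hqp, hq⟩ := exists_q hG h hM hnil hKU
  haveI := Fact.mk hqp
  obtain ⟨p, x, hp, hx, hx1, hxo⟩ := exists_prime_mem hG hX
  haveI := Fact.mk hp
  have hqs := mem_sigma_q hG h hM hnil hKU hq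
  have hqb := mem_beta_core hG h hM hnil hKU hq
  have hpb := ((inter_meet hG h hM hg).2.1 p hp (hxo ▸ Subgroup.orderOf_dvd_natCard _ hx)).2
  have hpq : q ≠ p := fun h0 => hpb (h0 ▸ hqb)
  set Q := BGUniq.core q (sigmaCore M) with hQ
  have hQM := core_le_M hG h hM hnil hKU hq
  have hQn := core_le_normalizer hG h hM hnil hKU hq
  have hQp := BGUniq.isPGroup_core q (sigmaCore M)
  obtain ⟨w, hw⟩ := exists_prime_orderOf_dvd_card' q (G := ↥(sigmaCore M ⊓ centralizer (K : Set G)))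
    (by rw [hq])
  let P : Sylow q ↥(sigmaCore M) := default
  obtain ⟨-, hU', -⟩ := h.beta_uniq M hM q hqs (zpowers (w : G))
    (zpowers_le.mpr (sigmaCore_le M w.2.1))
    (by rw [Nat.card_zpowers, Subgroup.orderOf_coe, hw]) P (Or.inl hqb)
  have hPQ : (P : Subgroup ↥(sigmaCore M)).map (sigmaCore M).subtype ≤ Q := by
    refine BGSigma.le_of_coprime_relIndex (BGUniq.core_le q _) ((sigmaCore_le M).trans hQn)
      (map_subtype_le _) ?_
    obtain ⟨n, hn⟩ := (P.isPGroup'.map (sigmaCore M).subtype).exists_card_eq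
    rw [hn]
    exact Nat.Coprime.pow_left n ((Nat.Prime.coprime_iff_not_dvd hqp).mpr
      (not_dvd_core_relIndex hG h hM hnil hKU hq))
  have hQU : InUniqueMaximal Q :=
    BGUniq.inU_mono hU' hPQ (BGSigma.isCoatom_ne_top hM hQM)
  refine not_uniq_centralized hG h hM hg hx hx1 hQU hQM fun a ha => ?_
  refine mem_centralizer_singleton.mpr ?_
  refine BGUniq.mul_comm_of_normalized_coprime hQM (BGUniq.core_le p M) hQn
    (BGUniq.le_normalizer_core p M) ?_ ha
    (BGUniq.mem_core_of_mem_fittingOf hx.1 (j := 1) (by rw [hxo, pow_one]))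
  obtain ⟨a', ha'⟩ := hQp.exists_card_eq
  obtain ⟨b', hb'⟩ := (BGUniq.isPGroup_core p M).exists_card_eq
  rw [ha', hb']
  exact Nat.Coprime.pow _ _ ((Nat.coprime_primes hqp hp).mpr hpq)

/-- S1357. -/
theorem fitting_ne_of {K U : Subgroup G} (hKU : IsSigmaDecomposition M K U)
    (hne : fittingHallOf M ≠ sigmaCore M) :
    U = ⊥ ∧ IsTISubset (fittingOf M : Set G) ∧ (Nat.card K).Prime := by
  obtain ⟨hU, -, hK, -⟩ := fitting_structure_of hG h hM hKU hne
  refine ⟨hU, fun g hg x hx hgx => by_contra fun hx1 => hne ?_, hK⟩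
  have hgM : g ∉ M := fun h0 => hg (BGUniq.le_normalizer_fittingOf M h0)
  refine fittingHallOf_eq_sigmaCore hG h hM (isNilpotent_of_inter hG h hM hgM fun h0 => hx1 ?_)
  have h1 : g * x * g⁻¹ ∈ fittingOf M ⊓ (fittingOf M).map (MulAut.conj g).toMonoidHom :=
    ⟨hgx, ⟨x, hx, rfl⟩⟩
  rw [h0, mem_bot] at h1
  exact conj_eq_one_iff.mp h1

end Cfsg.Agent.BGSummary.Loc
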