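import Cfsg.Agent.BGSummary.OfLocal

/-!
# The shape of a maximal subgroup with `κ(M) = ∅`

BG 15.7 for `K = 1`: `M` is of Frobenius type, `M_F = M_σ`, and if `M_F` is not a TI-subset then it
is abelian of rank two or has a cyclic `O_{p'}` and the exponent of `M/M_F` divides `q - 1` for all
primes `q` of `M_F`.
-/

set_option autoImplicit false
set_option linter.unusedSectionVars false
set_option linter.style.haveILetI false
set_option linter.unusedVariables false

namespace Cfsg.Agent.BGSummary.Loc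

open Cfsg Subgroup
open Cfsg.Agent.BGSigma (sigmaCore_le le_normalizer_sigmaCore isPiSub_sigmaCore localInputs centralizer_anti
  le_centralizer_self_of_comm)

universe u

variable {G : Type u} [Group G] [Finite G] (hG : IsMinSimpleOddOrder G) (h : LocalStructure G)
  {M : Subgroup G} (hM : IsCoatom M)
include hG h hM

/-- `M_F = M_σ` when `κ(M) = ∅`. -/
theorem core_of_kappa_empty (hk : kappa M = ∅) : fittingHallOf M = sigmaCore M := by
  by_contra hne
  obtain ⟨K, U, hKU⟩ := exists_decomposition hG h hM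
  obtain ⟨-, -, hK⟩ := fitting_ne_of hG h hM hKU hne
  rw [(TypeCore.eq_bot_iff_kappa hKU.hall).mpr hk, card_bot] at hK
  exact Nat.not_prime_one hK

/-- `M` is of Frobenius type when `κ(M) = ∅`. -/
theorem typeF_of (hk : kappa M = ∅) : IsOfTypeF M := by
  obtain ⟨K, U, hKU⟩ := exists_decomposition hG h hM
  have hK := (TypeCore.eq_bot_iff_kappa hKU.hall).mpr hk
  have hU1 : U ≠ ⊥ := BGSummary.ne_bot_of_bot hG (TypeInputs.of_local hG h) hM hKU hK
  exact isOfTypeF_of_data (M := M) (X := M) (BGSigma.coatom_isSolvable hG hM)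
    (BGSigma.odd_card_subgroup hG M) le_rfl (core_of_kappa_empty hG h hM hk)
    (sigmaCore_ne_bot hG h hM) (isComplIn_symm (compl_U hG h hM hKU hK)) hU1
    (hat_abelian_of hG h hM hKU) (fpf_exponent_of hG h hM hKU)

section

variable {g : G} (hg : g ∉ M) {p : ℕ} [hp : Fact p.Prime] {x : G}
  (hx : x ∈ fittingOf M ⊓ (fittingOf M).map (MulAut.conj g).toMonoidHom) (hxo : orderOf x = p)
include hg hx hxo

/-- `O_{p'}(M_σ)` is cyclic if `O_p(M)` is not abelian. -/
theorem cyclic_pPrimeCore_of (hPna : ¬ IsMulCommutative (BGUniq.core p M)) :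
    IsCyclic (pPrimeCore p ↥(sigmaCore M)) := by
  have hnil : Group.IsNilpotent (sigmaCore M) := isNilpotent_of_inter hG h hM hg fun h0 =>
    ne_one_of_prime hG h hM hg hx hxo (by rwa [h0, mem_bot] at hx)
  set Q := pPrimeCore p ↥(sigmaCore M) with hQ
  haveI : Group.IsNilpotent (sigmaCore M) := hnil
  haveI : IsZGroup Q := ⟨fun r hr T => by
    haveI := Fact.mk hr
    set T₀ := (T : Subgroup Q).map Q.subtype with hT₀
    by_cases hd : r ∣ Nat.card Q
    · have hrp : r ≠ p := fun h0 => by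
        rw [h0] at hd
        exact hp.out.coprime_iff_not_dvd.mp Thompson.card_pPrimeCore_coprime.symm hd
      have hrs : r ∈ sigma M := isPiSub_sigmaCore M r hr
        (hd.trans (Subgroup.card_subgroup_dvd_card Q))
      have hle : T₀.map (sigmaCore M).subtype ≤ BGUniq.core r M := by
        intro y hy
        obtain ⟨j, hj⟩ := IsPGroup.iff_orderOf.1
          ((T.isPGroup'.map Q.subtype).map (sigmaCore M).subtype) ⟨y, hy⟩
        rw [Subgroup.orderOf_mk] at hj
        exact mem_core_of_sigma hG h hM hnil (map_subtype_le _ hy) hj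
      haveI := core_cyclic hG h hM hg hx hxo hrs hrp hPna
      have : IsCyclic (T₀.map (sigmaCore M).subtype) := Subgroup.isCyclic_of_le hle
      exact ((T : Subgroup Q).equivMapOfInjective _ Q.subtype_injective).isCyclic.mpr
        ((T₀.equivMapOfInjective _ (sigmaCore M).subtype_injective).isCyclic.mpr this)
    · have h1 : (T : Subgroup Q) = ⊥ := eq_bot_of_card_eq _ (by
        rw [Sylow.card_eq_multiplicity T, Nat.factorization_eq_zero_of_not_dvd hd, pow_zero])
      rw [h1]
      exact isCyclic_of_subsingleton⟩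
  infer_instance

/-- For nonabelian `O_p(M)` each prime of `M_σ` has a normal line in `M`. -/
theorem exists_normal_line (hPna : ¬ IsMulCommutative (BGUniq.core p M)) {r : ℕ} [hr : Fact r.Prime]
    (hrd : r ∣ Nat.card (sigmaCore M)) :
    ∃ Z : Subgroup G, Z ≤ sigmaCore M ∧ Nat.card Z = r ∧ M ≤ normalizer (Z : Set G) := by
  have hx1 := ne_one_of_prime hG h hM hg hx hxo
  have hnil : Group.IsNilpotent (sigmaCore M) := isNilpotent_of_inter hG h hM hg fun h0 =>
    hx1 (by rwa [h0, mem_bot] at hx)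
  have hrs : r ∈ sigma M := isPiSub_sigmaCore M r hr.out hrd
  obtain ⟨S, hS⟩ := exists_sylow_eq_core hG h hM hnil hrs
  have hC1 : BGUniq.core r M ≠ ⊥ := fun h0 => S.ne_bot_of_dvd_card hrs.2.1
    ((map_eq_bot_iff_of_injective _ M.subtype_injective).mp (hS.trans h0))
  suffices hC : ∃ C : Subgroup G, IsCyclic C ∧ C ≠ ⊥ ∧ C ≤ BGUniq.core r M ∧
      M ≤ normalizer (C : Set G) by
    obtain ⟨C, hCc, hC1', hCle, hCn⟩ := hC
    obtain ⟨Z, hZC, hZc⟩ := BGSigma.exists_order_prime_line hr.out
      (BGSigma.dvd_card_of_ne_bot ((BGUniq.isPGroup_core r M).to_le hCle) hC1')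
    exact ⟨Z, (hZC.trans hCle).trans (core_le_sigma hG hM hrs), hZc,
      le_normalizer_of_le_cyclic hCc hZC hCn⟩
  rcases eq_or_ne r p with rfl | hrp
  swap
  · exact ⟨_, core_cyclic hG h hM hg hx hxo hrs hrp hPna, hC1, le_rfl,
      BGUniq.le_normalizer_core r M⟩
  set P := BGUniq.core r M with hP
  have hPp : IsPGroup r P := BGUniq.isPGroup_core r M
  have hPM : P ≤ M := BGUniq.core_le r M
  set C := P ⊓ centralizer (P : Set G) with hC
  have hxC : ¬ P ≤ centralizer ({x} : Set G) := fun hle =>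
    not_uniq_centralized hG h hM hg hx hx1 (h.nonabelian_uniq r _ hPp hPna) hPM hle
  refine ⟨C, ?_, ?_, inf_le_left, Coprime.le_normalizer_inf (BGUniq.le_normalizer_core r M)
    (Coprime.le_normalizer_centralizer (BGUniq.le_normalizer_core r M))⟩
  · refine BGSigma.isCyclic_of_prankLE_one hG (M := C) ?_ (hPp.to_le inf_le_left) le_rfl
    by_contra hr1
    obtain ⟨V, hVC, hVe, hVc⟩ := BGSigma.exists_elemAbelian_sq_le hr1
    haveI := hVe.1
    have hxP : x ∈ P :=
      BGUniq.mem_core_of_mem_fittingOf hx.1 (j := 1) (by rw [hxo, pow_one])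
    have hxV : x ∉ V := fun hxV => hxC fun a ha => mem_centralizer_singleton.mpr
      (mem_centralizer_iff.mp (hVC hxV).2 a ha)
    set W := V ⊔ zpowers x with hW
    have hcomm : ∀ v ∈ V, v * x = x * v := fun v hv =>
      (mem_centralizer_iff.mp (hVC hv).2 x hxP).symm
    have hWC : W ≤ centralizer ({x} : Set G) := sup_le
      (fun v hv => mem_centralizer_singleton.mpr (hcomm v hv))
      (zpowers_le.mpr (mem_centralizer_singleton.mpr rfl))
    have hVn : zpowers x ≤ normalizer (V : Set G) := zpowers_le.mpr <| centralizer_le_normalizer _ <|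
      mem_centralizer_iff.mpr fun v hv => hcomm v hv
    have hWe : IsElementaryAbelian r W := by
      refine ⟨?_, ?_⟩
      · refine ⟨⟨fun a b => Subtype.ext ?_⟩⟩
        obtain ⟨v, hv, y, hy, hav⟩ := Coprime.exists_mul_of_mem_sup hVn a.2
        obtain ⟨w, hw, z, hz, hbw⟩ := Coprime.exists_mul_of_mem_sup hVn b.2
        obtain ⟨i, rfl⟩ := mem_zpowers_iff.mp hy
        obtain ⟨j, rfl⟩ := mem_zpowers_iff.mp hz
        rw [Subgroup.coe_mul, Subgroup.coe_mul, hav, hbw]
        have h1 : Commute v w := congrArg Subtype.val (mul_comm' (⟨v, hv⟩ : V) ⟨w, hw⟩)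
        have h2 : Commute v (x ^ j) := (show Commute v x from hcomm v hv).zpow_right j
        have h3 : Commute (x ^ i) w := ((show Commute w x from hcomm w hw).zpow_right i).symm
        exact ((h1.mul_right h2).mul_left (h3.mul_right ((Commute.refl x).zpow_zpow i j))).eq
      · intro a ha
        obtain ⟨v, hv, y, hy, rfl⟩ := Coprime.exists_mul_of_mem_sup hVn ha
        obtain ⟨i, rfl⟩ := mem_zpowers_iff.mp hy
        rw [((show Commute v x from hcomm v hv).zpow_right i).mul_pow, hVe.2 v hv, one_mul,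
          ← zpow_natCast, ← zpow_mul, mul_comm, zpow_mul, zpow_natCast, ← hxo, pow_orderOf_eq_one,
          one_zpow]
    obtain ⟨N, E, hN, hE, -, -, hCN, -, -, -, hτ, -⟩ :=
      BGSigma.exists_support hG hM (inter_le_sigma hG h hM hg hx).1 hx1
        (not_centralizer_le hG h hM hg hx hx1)
    refine (BGSigma.not_prankLE_of_elemAbelian hWe (hWC.trans hCN) ?_)
      (hτ r hr.out hxo.symm.dvd).2.2.1
    have hWp : IsPGroup r W := BGSigma.isPGroup_of_pow_eq_one hr.out hWe.2
    obtain ⟨n, hn⟩ := hWp.exists_card_eq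
    have hlt : V < W := lt_of_le_not_ge le_sup_left fun hle =>
      hxV (hle (mem_sup_right (mem_zpowers x)))
    have hcard : Nat.card V < Nat.card W := by
      by_contra hle
      exact hlt.ne (eq_of_le_of_card_ge hlt.le (not_lt.mp hle))
    rwa [hVc] at hcard
  · intro h0
    haveI : Nontrivial P := (nontrivial_iff_ne_bot _).mpr hC1
    haveI := hPp.center_nontrivial
    obtain ⟨z, hz⟩ := exists_ne (1 : center P)
    refine hz (Subtype.ext (Subtype.ext ?_))
    refine (Subgroup.mem_bot.mp (h0.le (show ((z : P) : G) ∈ C from ⟨z.1.2,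
      mem_centralizer_iff.mpr fun a ha =>
        congrArg Subtype.val (mem_center_iff.mp z.2 ⟨a, ha⟩)⟩)))

end

/-- An abelian `M_F` is of rank two if `F(M)` is not a TI-subset. -/
theorem rank_of_abelian {g : G} (hg : g ∉ M) {p : ℕ} [hp : Fact p.Prime] {x : G}
    (hx : x ∈ fittingOf M ⊓ (fittingOf M).map (MulAut.conj g).toMonoidHom) (hxo : orderOf x = p)
    (hH : fittingHallOf M = sigmaCore M) (hab : IsMulCommutative (fittingHallOf M)) :
    RankLE 2 (fittingHallOf M) ∧ ¬ RankLE 1 (fittingHallOf M) := by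
  have hx1 := ne_one_of_prime hG h hM hg hx hxo
  have hxσ := (inter_le_sigma hG h hM hg hx).1
  refine ⟨?_, ?_⟩
  all_goals rw [hH] at hab ⊢
  all_goals haveI := hab
  all_goals obtain ⟨N, hN⟩ :=
    Support.exists_sig hG hM hxσ hx1 (not_centralizer_le hG h hM hg hx hx1)
  · intro r hr
    have hle : sigmaCore M ≤ M ⊓ N := le_inf (sigmaCore_le M)
      (((le_centralizer_self_of_comm hab).trans (centralizer_le
        (Set.singleton_subset_iff.mpr hxσ))).trans hN.le)
    by_cases hd : r ∣ Nat.card (sigmaCore M)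
    · refine BGSigma.prankLE_subgroup (hle.trans inf_le_right)
        (BGSigma.not_sigma_rank_two hG (BGSigma.uniquenessTheorem hG) hN.coatom hr
          (BGTwelve.not_mem_sigma_of_dvd hG hN.coatom hN.compl hr
            (hd.trans (card_dvd_of_le hle))))
    · exact BGSigma.prankLE_of_not_dvd hr hd
  · obtain ⟨s, B, hs, -, hsM, -, hB⟩ := hN.exists_plane hG hM
    haveI := Fact.mk hs
    intro hr1
    refine BGSigma.not_prankLE_of_elemAbelian hB.2.1 (BGSigma.le_sigmaCore_of_pgroup hG hM hsM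
      (IsPGroup.of_card hB.2.2) (hB.1.trans inf_le_left)) ?_ (hr1 s hs)
    rw [hB.2.2, pow_one]
    exact lt_self_pow₀ hs.one_lt one_lt_two

/-- The exponent of `M/M_F` divides that of a complement of `M_σ`. -/
theorem exponent_dvd_of_compl (hH : fittingHallOf M = sigmaCore M) {A : Subgroup G}
    (hA : IsComplIn A (sigmaCore M) M) :
    Monoid.exponent (↥M ⧸ fittingHall ↥M) ∣ Monoid.exponent A := by
  refine Monoid.exponent_dvd_of_forall_pow_eq_one fun q => ?_
  induction q using QuotientGroup.induction_on with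
  | H m =>
    obtain ⟨a, ha, b, hb, hab'⟩ := hA.2.2.2 m m.2
    have hm : (QuotientGroup.mk m : ↥M ⧸ fittingHall ↥M) =
        QuotientGroup.mk ⟨a, hA.1 ha⟩ := by
      refine (QuotientGroup.eq.mpr ?_).symm
      have hb' : b ∈ fittingHallOf M := hH.ge hb
      obtain ⟨b₀, hb₀, hb₀e⟩ := hb'
      have heq : (⟨a, hA.1 ha⟩ : ↥M)⁻¹ * m = b₀ := Subtype.ext (by
        show a⁻¹ * (m : G) = (b₀ : G)
        rw [hab', inv_mul_cancel_left]; exact hb₀e.symm)
      rw [heq]; exact hb₀
    rw [hm, ← QuotientGroup.mk_pow]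
    have ha' : (⟨a, ha⟩ : A) ^ Monoid.exponent A = 1 := Monoid.pow_exponent_eq_one _
    rw [show (⟨a, hA.1 ha⟩ : ↥M) ^ Monoid.exponent A = 1 from
      Subtype.ext (congrArg Subtype.val ha' :)]
    rfl

/-- BG 15.7 for `κ(M) = ∅`. -/
theorem one_cases_of (hk : kappa M = ∅) :
    IsTISubset (fittingHallOf M : Set G) ∨
    (IsMulCommutative (fittingHallOf M) ∧ RankLE 2 (fittingHallOf M) ∧
      ¬ RankLE 1 (fittingHallOf M)) ∨
    ((∀ p : ℕ, p.Prime → p ∣ Nat.card (fittingHallOf M) →
        Monoid.exponent (M ⧸ fittingHall M) ∣ p - 1) ∧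
      ∃ p : ℕ, p.Prime ∧ p ∣ Nat.card (fittingHallOf M) ∧
        IsCyclic (pPrimeCore p (fittingHallOf M))) := by
  classical
  have hH := core_of_kappa_empty hG h hM hk
  by_cases hTI : IsTISubset (fittingHallOf M : Set G)
  · exact Or.inl hTI
  refine Or.inr ?_
  simp only [IsTISubset, not_forall] at hTI
  obtain ⟨g, hg, z, hz, hgz, hz1⟩ := hTI
  have hgM : g ∉ M := fun h0 => hg (by
    rw [hH]; exact le_normalizer_sigmaCore M h0)
  have hX : fittingOf M ⊓ (fittingOf M).map (MulAut.conj g).toMonoidHom ≠ ⊥ := fun h0 => hz1 (by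
    have h1 : g * z * g⁻¹ ∈ fittingOf M ⊓ (fittingOf M).map (MulAut.conj g).toMonoidHom :=
      ⟨TypeCore.fittingHallOf_le_fittingOf M hgz,
        ⟨z, TypeCore.fittingHallOf_le_fittingOf M hz, rfl⟩⟩
    rw [h0, mem_bot] at h1
    exact conj_eq_one_iff.mp h1)
  obtain ⟨p, x, hp, hx, hx1, hxo⟩ := exists_prime_mem hG hX
  haveI := Fact.mk hp
  have hxσ := (inter_le_sigma hG h hM hgM hx).1
  have hnil := isNilpotent_of_inter hG h hM hgM hX
  by_cases hab : IsMulCommutative (fittingHallOf M)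
  · exact Or.inl ⟨hab, rank_of_abelian hG h hM hgM hx hxo hH hab⟩
  refine Or.inr ?_
  have hPna : ¬ IsMulCommutative (BGUniq.core p M) := by
    intro hPc
    refine hab ?_
    rw [hH]
    refine ⟨⟨fun a b => Subtype.ext (commutatorElement_eq_one_iff_mul_comm.mp ?_)⟩⟩
    have h1 := derived_sigma_le hG h hM hgM hx hxo hnil (commutator_mem_commutator a.2 b.2)
    haveI := hPc
    have h2 : ⁅BGUniq.core p M, BGUniq.core p M⁆ = ⊥ :=
      commutator_eq_bot_iff_le_centralizer.mpr (le_centralizer _)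
    rwa [h2, mem_bot] at h1
  obtain ⟨K, U, hKU⟩ := exists_decomposition hG h hM
  have hK := (TypeCore.eq_bot_iff_kappa hKU.hall).mpr hk
  have hUc := compl_U hG h hM hKU hK
  refine ⟨fun r hr hrd => ?_, p, hp, ?_, ?_⟩
  · rw [hH] at hrd
    haveI := Fact.mk hr
    obtain ⟨Z, hZσ, hZc, hZn⟩ := exists_normal_line hG h hM hgM hx hxo hPna hrd
    obtain ⟨U₀, hU₀, hexp, hf⟩ := fpf_exponent_of hG h hM hKU
    have hd : Monoid.exponent U ∣ r - 1 := by
      rw [← hexp]
      refine Monoid.exponent_dvd_of_forall_pow_eq_one fun v => Subtype.ext ?_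
      have hvM : (v : G) ∈ M := hKU.compl.1 (hU₀ v.2)
      refine hf _ (pow_mem v.2 (r - 1)) ⟨pow_mem hvM _, ?_⟩
      haveI : IsCyclic Z := isCyclic_of_prime_card hZc
      obtain ⟨w, hw, hw1⟩ :=
        (Z.bot_or_exists_ne_one).resolve_left (BGSigma.ne_bot_of_prime_card hr hZc)
      refine ⟨w, hZσ hw, hw1, ?_⟩
      let φ : MulAut Z := Z.normalizerMonoidHom ⟨(v : G), hZn hvM⟩
      have h1 : φ ^ (r - 1) = 1 := by
        have h2 := pow_card_eq_one' (G := MulAut Z) (x := φ)
        rwa [IsCyclic.card_mulAut, hZc, Nat.totient_prime hr] at h2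
      have h3 : Z.normalizerMonoidHom (⟨(v : G), hZn hvM⟩ ^ (r - 1)) ⟨w, hw⟩ = ⟨w, hw⟩ := by
        rw [map_pow]; exact DFunLike.congr_fun h1 ⟨w, hw⟩
      have h4 : (v : G) ^ (r - 1) * w * ((v : G) ^ (r - 1))⁻¹ = w := congrArg Subtype.val h3
      exact mul_inv_eq_iff_eq_mul.mp h4
    exact (exponent_dvd_of_compl hG h hM hH hUc).trans hd
  · rw [hH]
    exact hxo ▸ Subgroup.orderOf_dvd_natCard _ hxσ
  · rw [hH]
    exact cyclic_pPrimeCore_of hG h hM hgM hx hxo hPna

end Cfsg.Agent.BGSummary.Loc
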