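import Cfsg.Agent.BGSummary.NonTI
import Cfsg.Agent.BGSigma.Signalizer
import Cfsg.Agent.BGSigma.SylowShape
import Cfsg.Agent.OddLocal44.NarrowAction
import Cfsg.Agent.FG72.ExtraModule
import Cfsg.Agent.Fusion91.SmallEssential

/-!
# The shape of a maximal subgroup of type `P` with `F(M)` not a TI-subset

For `K ≠ 1` the Hall subgroup `M_F` has cyclic `O_{p'}`, and `|K|` divides `p - 1`, or the
Sylow `p`-subgroup is of order `p ^ 3` and `|K|` divides `p + 1`.
-/

set_option autoImplicit false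
set_option linter.unusedSectionVars false
set_option linter.style.haveILetI false

namespace Cfsg.Agent.BGSummary.Loc

open Cfsg Subgroup
open Cfsg.Agent.BGSigma (sigmaCore_le le_normalizer_sigmaCore isPiSub_sigmaCore localInputs)
open scoped commutatorElement

universe u

variable {G : Type u} [Group G] [Finite G]

/-- A subgroup containing the prime-power elements of `S` contains `S`. -/
theorem le_of_prime_pow_mem {S X : Subgroup G}
    (hS : ∀ r : ℕ, r.Prime → ∀ y ∈ S, ∀ k : ℕ, orderOf y = r ^ k → y ∈ X) : S ≤ X := by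
  have htop : X.subgroupOf S = ⊤ := by
    refine Transfer.eq_top_of_prime_pow_orderOf_mem fun r hr ⟨y, hy⟩ ⟨k, hk⟩ => ?_
    rw [Subgroup.orderOf_mk] at hk
    exact hS r hr y hy k hk
  exact fun y hy => show (⟨y, hy⟩ : S) ∈ X.subgroupOf S from htop.ge (mem_top _)

variable (hG : IsMinSimpleOddOrder G) (h : LocalStructure G) {M : Subgroup G} (hM : IsCoatom M)
include hG h hM

omit h in
/-- `O_r(M)` lies in `M_σ` for `r ∈ σ(M)`. -/
theorem core_le_sigma {r : ℕ} (hr : r ∈ sigma M) : BGUniq.core r M ≤ sigmaCore M := by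
  haveI := Fact.mk hr.1
  exact BGSigma.le_sigmaCore_of_pgroup hG hM hr (BGUniq.isPGroup_core r M) (BGUniq.core_le r M)

/-- In nilpotent `M_σ` the elements of prime power order lie in the cores `O_r(M)`. -/
theorem mem_core_of_sigma (hnil : Group.IsNilpotent (sigmaCore M)) {r : ℕ} [Fact r.Prime] {y : G}
    (hy : y ∈ sigmaCore M) {k : ℕ} (hk : orderOf y = r ^ k) : y ∈ BGUniq.core r M :=
  BGUniq.mem_core_of_mem_fittingOf (sigmaCore_le_fittingOf hG h hM hnil hy) hk

/-- A Sylow subgroup of `M` for a prime of `σ(M)` is `O_r(M)` when `M_σ` is nilpotent. -/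
theorem exists_sylow_eq_core (hnil : Group.IsNilpotent (sigmaCore M)) {r : ℕ} [hr : Fact r.Prime]
    (hrs : r ∈ sigma M) :
    ∃ S : Sylow r M, (S : Subgroup M).map M.subtype = BGUniq.core r M := by
  obtain ⟨S, hS⟩ :=
    ((BGUniq.isPGroup_core r M).comap_subtype (K := M)).exists_le_sylow
  refine ⟨S, le_antisymm ?_ fun y hy => ⟨⟨y, BGUniq.core_le r M hy⟩, hS hy, rfl⟩⟩
  have hSp : IsPGroup r ((S : Subgroup M).map M.subtype) := S.isPGroup'.map _
  intro y hy
  obtain ⟨j, hj⟩ := IsPGroup.iff_orderOf.1 hSp ⟨y, hy⟩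
  rw [Subgroup.orderOf_mk] at hj
  exact mem_core_of_sigma hG h hM hnil
    (BGSigma.le_sigmaCore_of_pgroup hG hM hrs hSp (map_subtype_le _) hy) hj

section

variable {g : G} (hg : g ∉ M) {p : ℕ} [hp : Fact p.Prime] {x : G}
  (hx : x ∈ fittingOf M ⊓ (fittingOf M).map (MulAut.conj g).toMonoidHom) (hxo : orderOf x = p)
include hg hx hxo

theorem ne_one_of_prime : x ≠ 1 := fun h0 => hp.out.ne_one (by rw [← hxo, h0, orderOf_one])

theorem core_centralizes {r : ℕ} [Fact r.Prime] (hrp : r ≠ p) :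
    BGUniq.core r M ≤ centralizer ({x} : Set G) := fun _ ha =>
  mem_centralizer_singleton.mpr (BGUniq.core_commute hrp ha
    (BGUniq.mem_core_of_mem_fittingOf hx.1 (j := 1) (by rw [hxo, pow_one])))

/-- `O_r(M)` is abelian for `r ≠ p`. -/
theorem core_abelian {r : ℕ} [Fact r.Prime] (hrp : r ≠ p) :
    IsMulCommutative (BGUniq.core r M) := by
  by_contra hna
  exact not_uniq_centralized hG h hM hg hx (ne_one_of_prime hG h hM hg hx hxo)
    (h.nonabelian_uniq r _ (BGUniq.isPGroup_core r M) hna) (BGUniq.core_le r M)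
    (core_centralizes hG h hM hg hx hxo hrp)

/-- `M_σ' ≤ O_p(M)'`. -/
theorem derived_sigma_le (hnil : Group.IsNilpotent (sigmaCore M)) :
    ⁅sigmaCore M, sigmaCore M⁆ ≤ ⁅BGUniq.core p M, BGUniq.core p M⁆ := by
  set P := BGUniq.core p M with hP
  set Z := M ⊓ centralizer (sigmaCore M : Set G) with hZ
  have hσ : sigmaCore M ≤ P ⊔ Z := by
    refine le_of_prime_pow_mem fun r hr y hy k hk => ?_
    haveI := Fact.mk hr
    have hyc := mem_core_of_sigma hG h hM hnil hy hk
    rcases eq_or_ne r p with rfl | hrp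
    · exact mem_sup_left hyc
    refine mem_sup_right ⟨sigmaCore_le M hy, ?_⟩
    have hle : sigmaCore M ≤ centralizer ({y} : Set G) := by
      refine le_of_prime_pow_mem fun t ht z hz j hj => mem_centralizer_singleton.mpr ?_
      haveI := Fact.mk ht
      have hzc := mem_core_of_sigma hG h hM hnil hz hj
      rcases eq_or_ne t r with rfl | htr
      · haveI := core_abelian hG h hM hg hx hxo hrp
        exact congrArg Subtype.val (mul_comm' (⟨z, hzc⟩ : BGUniq.core t M) ⟨y, hyc⟩)
      · exact BGUniq.core_commute htr hzc hyc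
    exact mem_centralizer_iff.mpr fun z hz => mem_centralizer_singleton.mp (hle hz)
  have hdec : ∀ a ∈ sigmaCore M, ∃ b ∈ P, ∃ z ∈ Z, a = b * z := fun a ha => by
    have := hσ ha
    rw [← SetLike.mem_coe, coe_mul_of_right_le_normalizer_left P Z
      (inf_le_left.trans (BGUniq.le_normalizer_core p M))] at this
    obtain ⟨b, hb, z, hz, rfl⟩ := this
    exact ⟨b, hb, z, hz, rfl⟩
  rw [commutator_le]
  intro a ha c hc
  obtain ⟨b, hb, z, hz, rfl⟩ := hdec a ha
  obtain ⟨d, hd, w, hw, rfl⟩ := hdec c hc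
  have h1 : ⁅b * z, d * w⁆ = ⁅b, d * w⁆ := by
    have := mem_centralizer_iff.mp hz.2 _ hc
    simp only [commutatorElement_def, mul_inv_rev]
    rw [show b * z * (d * w) = b * ((d * w) * z) by rw [mul_assoc, this]]
    group
  have hb' : b ∈ sigmaCore M := by
    rcases eq_or_ne b 1 with rfl | hb1
    · exact one_mem _
    refine core_le_sigma hG hM ?_ hb
    exact ((inter_meet hG h hM hg).2.1 p hp.out
      (hxo ▸ Subgroup.orderOf_dvd_natCard _ hx)).1
  have h2 : ⁅b, d * w⁆ = ⁅b, d⁆ := by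
    have := mem_centralizer_iff.mp hw.2 _ hb'
    simp only [commutatorElement_def, mul_inv_rev]
    rw [show b * (d * w) * b⁻¹ = b * d * (b⁻¹ * w) by
      rw [show b⁻¹ * w = w * b⁻¹ from
        ((show Commute b w from this).inv_left).eq]
      group]
    group
  rw [h1, h2]
  exact commutator_mem_commutator hb hd

/-- `O_r(M)` is cyclic for `r ≠ p` in `σ(M)`, if `O_p(M)` is not abelian. -/
theorem core_cyclic {r : ℕ} [hr : Fact r.Prime] (hrs : r ∈ sigma M) (hrp : r ≠ p)
    (hP : ¬ IsMulCommutative (BGUniq.core p M)) :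
    IsCyclic (BGUniq.core r M) := by
  have hx1 := ne_one_of_prime hG h hM hg hx hxo
  have hxσ := (inter_le_sigma hG h hM hg hx).1
  have hxC := not_centralizer_le hG h hM hg hx hx1
  obtain ⟨N, ⟨hN, hxN⟩, -, -, -, -, hcompl, hdec⟩ := h.signalizer M hM x hxσ hx1 hxC
  have hRN : BGUniq.core r M ≤ N := (core_centralizes hG h hM hg hx hxo hrp).trans hxN
  have hp2 : p ∈ tau2 N := by
    obtain ⟨L, -, -, -, -, -, -, hu, -, -, hτ, -⟩ := BGSigma.exists_support hG hM hxσ hx1 hxC
    rw [hu N hN hxN]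
    exact hτ p hp.out hxo.symm.dvd
  by_cases hR1 : PRankLE r 1 N
  · exact BGSigma.isCyclic_of_prankLE_one hG hR1 (BGUniq.isPGroup_core r M) hRN
  exfalso
  have hR0 : BGUniq.core r M ≠ ⊥ := by
    obtain ⟨S, hS⟩ := exists_sylow_eq_core hG h hM
      (isNilpotent_of_inter hG h hM hg fun h0 => hx1 (by rwa [h0, mem_bot] at hx)) hrs
    rw [← hS]
    exact fun h0 => S.ne_bot_of_dvd_card hrs.2.1
      ((map_eq_bot_iff_of_injective _ M.subtype_injective).mp h0)
  have hrN : r ∉ sigma N := fun hrN => hR0 (le_bot_iff.mp (le_trans (le_inf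
    (le_inf (BGUniq.core_le r M) hRN)
    (BGSigma.le_sigmaCore_of_pgroup hG hN hrN (BGUniq.isPGroup_core r M) hRN))
    hcompl.2.2.1.le))
  have hr2 : r ∈ tau2 N := ⟨hr.out, hrN,
    BGSigma.not_sigma_rank_two hG (BGSigma.uniquenessTheorem hG) hN hr.out hrN, hR1⟩
  obtain ⟨E, hE⟩ := exists_compl hG hN
  obtain ⟨A, hA⟩ := BGTwelve.exists_sq_le_compl hG hN hE (q := p) hp2
  have hS : ∀ S : Sylow p G, ¬ IsMulCommutative (S : Subgroup G) := fun S hSc => by
    obtain ⟨T, hT⟩ := (BGUniq.isPGroup_core p M).exists_le_sylow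
    haveI := hSc
    haveI : IsMulCommutative (T : Subgroup G) := by
      refine ⟨⟨fun a b => (Sylow.equiv T S).injective ?_⟩⟩
      rw [map_mul, map_mul]
      exact mul_comm' _ _
    exact hP ⟨⟨fun a b => Subtype.ext (Subtype.ext_iff.mp
      (mul_comm' (⟨a, hT a.2⟩ : (T : Subgroup G)) ⟨b, hT b.2⟩) :)⟩⟩
  have := (h.tau_two_nonabelian N hN E hE p hp2 hS A hA).1
  rw [this] at hr2
  exact hrp hr2

end

/-- The data of S1383 when `F(M)` is not a TI-subset. -/
theorem typeP_nonti_of {K U : Subgroup G} (hKU : IsSigmaDecomposition M K U) (hK1 : K ≠ ⊥)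
    {g : G} (hg : g ∉ M)
    (hX : fittingOf M ⊓ (fittingOf M).map (MulAut.conj g).toMonoidHom ≠ ⊥) :
    ∃ p : ℕ, p.Prime ∧ p ∣ Nat.card (fittingHallOf M) ∧
      IsCyclic (pPrimeCore p ↥(fittingHallOf M)) ∧
      (Nat.card K ∣ p - 1 ∨
        (Nat.card (pCore p ↥(fittingHallOf M)) = p ^ 3 ∧ Nat.card K ∣ p + 1)) := by
  obtain ⟨p, x, hp, hx, hx1, hxo⟩ := exists_prime_mem hG hX
  haveI := Fact.mk hp
  have hnil := isNilpotent_of_inter hG h hM hg hX
  have hH := fittingHallOf_eq_sigmaCore hG h hM hnil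
  have hk : (kappa M).Nonempty := Set.nonempty_iff_ne_empty.mpr fun h0 =>
    hK1 ((TypeCore.eq_bot_iff_kappa hKU.hall).mpr h0)
  have hps : p ∈ sigma M := ((inter_meet hG h hM hg).2.1 p hp
    (hxo ▸ Subgroup.orderOf_dvd_natCard _ hx)).1
  have hpb : p ∉ beta M := ((inter_meet hG h hM hg).2.1 p hp
    (hxo ▸ Subgroup.orderOf_dvd_natCard _ hx)).2
  have hp2 : p ≠ 2 := BGSigma.ne_two_of_dvd hG (H := M) hps.2.1
  -- `U = 1`
  have hU : U = ⊥ := by
    by_contra hU
    obtain ⟨-, hTI, -⟩ := fitting_ti_of hG h hM hKU hK1 hU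
    refine hx1 (hTI g⁻¹ (fun hn => hg ?_) x hx.1 (by simpa using BGSigma.mem_map_conj.mp hx.2))
    have hle : M ≤ normalizer (fittingOf M : Set G) := BGUniq.le_normalizer_fittingOf M
    have hF0 : fittingOf M ≠ ⊥ := fun h0 => hX (by rw [h0, bot_inf_eq])
    have : normalizer (fittingOf M : Set G) = M := BGSigma.normalizer_eq_coatom hG hM
      (BGUniq.fittingOf_le M) hF0 hle
    exact inv_mem_iff.mp (this ▸ hn)
  set Ks := sigmaCore M ⊓ centralizer (K : Set G) with hKs
  have hq : (Nat.card Ks).Prime := star_prime_of hG h hM hKU hK1 hU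
  have hM' : ⁅M, M⁆ = sigmaCore M := by
    rw [derived_eq hG h hM hKU hK1, hU, bot_sup_eq]
  set P := BGUniq.core p M with hP
  have hKsP : Ks ≤ ⁅P, P⁆ := by
    have := (derived_of hG h hM hKU hK1).2
    rw [hM'] at this
    exact this.trans (derived_sigma_le hG h hM hg hx hxo hnil)
  have hPna : ¬ IsMulCommutative P := fun hc => by
    haveI := hc
    have : ⁅P, P⁆ = ⊥ := commutator_eq_bot_iff_le_centralizer.mpr (le_centralizer P)
    rw [this, le_bot_iff] at hKsP
    rw [hKsP, card_bot] at hq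
    exact Nat.not_prime_one hq
  have hPp : IsPGroup p P := BGUniq.isPGroup_core p M
  have hPσ : P ≤ sigmaCore M := core_le_sigma hG hM hps
  have hqp : Nat.card Ks = p := BGSigma.eq_of_dvd_card_pgroup hPp hq
    (card_dvd_of_le (hKsP.trans (commutator_le_self P)))
  have hKP : K ≤ normalizer (P : Set G) := hKU.hall.1.trans (BGUniq.le_normalizer_core p M)
  have hfix : ∀ k ∈ K, k ≠ 1 → P ⊓ centralizer ({k} : Set G) ≤ Ks := fun k hk' hk1 =>
    (inf_le_inf_right _ hPσ).trans ((h.kappa_context M hM K hKU.hall hK1).1 k hk' hk1).le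
  obtain ⟨S, hS⟩ := exists_sylow_eq_core hG h hM hnil hps
  refine ⟨p, hp, ?_, ?_, ?_⟩
  · rw [hH]
    refine dvd_trans (hxo ▸ Subgroup.orderOf_dvd_natCard _ ?_) dvd_rfl
    exact (inter_le_sigma hG h hM hg hx).1
  · rw [hH]
    set Q := pPrimeCore p ↥(sigmaCore M) with hQ
    haveI : Group.IsNilpotent (sigmaCore M) := hnil
    haveI : IsZGroup Q := ⟨fun r hr T => by
      haveI := Fact.mk hr
      set T₀ := (T : Subgroup Q).map Q.subtype with hT₀
      by_cases hd : r ∣ Nat.card Q
      · have hrp : r ≠ p := fun h0 => by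
          rw [h0] at hd
          exact hp.coprime_iff_not_dvd.mp Thompson.card_pPrimeCore_coprime.symm hd
        have hrs : r ∈ sigma M := isPiSub_sigmaCore M r hr
          (hd.trans (Subgroup.card_subgroup_dvd_card Q))
        have hle : T₀.map (sigmaCore M).subtype ≤ BGUniq.core r M := by
          intro y hy
          obtain ⟨j, hj⟩ := IsPGroup.iff_orderOf.1
            ((T.isPGroup'.map Q.subtype).map (sigmaCore M).subtype) ⟨y, hy⟩
          rw [Subgroup.orderOf_mk] at hj
          exact mem_core_of_sigma hG h hM hnil (map_subtype_le _ hy) hj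
        haveI := core_cyclic hG h hM hg hx hxo hrs hrp hPna
        have : IsCyclic (T₀.map (sigmaCore M).subtype) := Subgroup.isCyclic_of_le hle
        exact ((T : Subgroup Q).equivMapOfInjective _ Q.subtype_injective).isCyclic.mpr
          ((T₀.equivMapOfInjective _ (sigmaCore M).subtype_injective).isCyclic.mpr this)
      · have h1 : (T : Subgroup Q) = ⊥ := eq_bot_of_card_eq _ (by
          rw [Sylow.card_eq_multiplicity T, Nat.factorization_eq_zero_of_not_dvd hd, pow_zero])
        rw [h1]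
        exact isCyclic_of_subsingleton⟩
    infer_instance
  -- the action of `K` on `P`
  have hcop : (Nat.card K).Coprime p := ((Nat.Prime.coprime_iff_not_dvd hp).mpr fun hd =>
    (hKU.hall.2.1 p hp hd).2.2.1 hps).symm
  have hfaith : K ⊓ centralizer (P : Set G) = ⊥ := by
    refine le_bot_iff.mp fun k hk' => by_contra fun hk1 => hPna ?_
    have hle : P ≤ Ks := fun a ha => hfix k hk'.1 hk1
      ⟨ha, mem_centralizer_singleton.mpr (mem_centralizer_iff.mp hk'.2 a ha)⟩
    haveI : IsCyclic Ks := isCyclic_of_prime_card rfl (hp := ⟨hq⟩)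
    haveI := Subgroup.isCyclic_of_le hle
    infer_instance
  haveI := hKU.cyclic
  obtain ⟨k₀, hk₀⟩ := IsCyclic.exists_generator (α := K)
  have hk₀o : orderOf (k₀ : G) = Nat.card K := by
    rw [Subgroup.orderOf_coe, orderOf_eq_card_of_forall_mem_zpowers hk₀]
  have hI := localInputs hG
  have hnar : IsNarrow p P := BGSigma.isNarrow_of_equiv
    (((S : Subgroup M).equivMapOfInjective M.subtype M.subtype_injective).trans
      (MulEquiv.subgroupCongr hS))
    (BGSigma.isNarrow_of_not_mem_beta hG hI.uniq hI.plength hI.narrow hI.narrowSylow hM hp2 hpb S)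
  by_cases hr2 : PRankLE p 2 P
  swap
  · left
    rw [← hk₀o]
    exact OddLocal44.orderOf_dvd_sub_one hp2 hPp hnar hr2 hKP hfaith k₀.2 (hk₀o ▸ hcop)
  -- `P` is a Sylow subgroup of `G` of rank two
  have hidx : ¬ p ∣ P.index := by
    intro hd
    rw [← relIndex_mul_index (BGUniq.core_le p M), ← hS] at hd
    rcases hp.dvd_mul.mp hd with hd | hd
    · rw [Subgroup.relIndex, Subgroup.subgroupOf,
        comap_map_eq_self_of_injective M.subtype_injective] at hd
      exact S.not_dvd_index hd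
    · exact BGSigma.not_dvd_index_of_mem_sigma hps hd
  let T : Sylow p G := hPp.toSylow hidx
  obtain hab | ⟨P₁, P₂, h12, hc12, hna1, hcard1, -, hcyc2, hΩ⟩ :=
    BGSigma.sylow_rank_two_shape hG hI.uniq hI.plength hI.blackburn p T hr2
  · exact absurd hab hPna
  replace h12 : P₁ ⊔ P₂ = P := h12
  have hP₁ : P₁ ≤ P := le_sup_left.trans h12.le
  have hP₂ : P₂ ≤ P := le_sup_right.trans h12.le
  have hZ₁ := BGSigma.commutator_eq_center_of_card_prime_cube P₁ hna1 hcard1
  have hn2 : P₁ ≤ normalizer (P₂ : Set G) := fun a ha => centralizer_le_normalizer _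
    (mem_centralizer_iff.mpr fun b hb => (hc12 a ha b hb).symm)
  have hdec : ∀ a ∈ P, ∃ b ∈ P₁, ∃ c ∈ P₂, a = b * c := fun a ha => by
    rw [← h12, ← SetLike.mem_coe, coe_mul_of_left_le_normalizer_right P₁ P₂ hn2] at ha
    obtain ⟨b, hb, c, hc, rfl⟩ := ha
    exact ⟨b, hb, c, hc, rfl⟩
  haveI := hcyc2
  have hZ₁P₂ : P₁ ⊓ centralizer (P₁ : Set G) ≤ P₂ := by
    rw [← hΩ]
    exact (closure_le _).mpr fun y hy => hy.1
  -- `P₂` is the centre of `P`
  have hP₂Z : P₂ ≤ centralizer (P : Set G) := by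
    rw [← h12]
    refine le_centralizer_iff.mpr (sup_le ?_ (le_centralizer P₂))
    exact fun a ha => mem_centralizer_iff.mpr fun b hb => (hc12 a ha b hb).symm
  have hZP : P ⊓ centralizer (P : Set G) ≤ P₂ := by
    intro a ha
    obtain ⟨b, hb, c, hc, rfl⟩ := hdec a ha.1
    refine mul_mem (hZ₁P₂ ⟨hb, mem_centralizer_iff.mpr fun d hd => ?_⟩) hc
    have h1 := mem_centralizer_iff.mp ha.2 d (hP₁ hd)
    have h2 := hc12 d hd c hc
    rw [← mul_assoc, mul_assoc b c d, ← h2, ← mul_assoc] at h1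
    exact mul_right_cancel h1
  have hKsZ : Ks ≤ P₁ ⊓ centralizer (P₁ : Set G) := by
    rw [← hZ₁]
    refine hKsP.trans ?_
    rw [commutator_le]
    intro a ha a' ha'
    obtain ⟨b, hb, c, hc, rfl⟩ := hdec a ha
    obtain ⟨b', hb', c', hc', rfl⟩ := hdec a' ha'
    have h1 : ⁅b * c, b' * c'⁆ = ⁅b, b' * c'⁆ := by
      have := mem_centralizer_iff.mp (hP₂Z hc) _ (show b' * c' ∈ (P : Set G) from ha')
      simp only [commutatorElement_def, mul_inv_rev]
      rw [show b * c * (b' * c') = b * ((b' * c') * c) by rw [mul_assoc, this]]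
      group
    have h2 : ⁅b, b' * c'⁆ = ⁅b, b'⁆ := by
      have := mem_centralizer_iff.mp (hP₂Z hc') b (hP₁ hb)
      simp only [commutatorElement_def, mul_inv_rev]
      rw [show b * (b' * c') * b⁻¹ = b * b' * (b⁻¹ * c') by
        rw [show b⁻¹ * c' = c' * b⁻¹ from ((show Commute b c' from this).inv_left).eq]
        group]
      group
    rw [h1, h2]
    exact commutator_mem_commutator hb hb'
  have hKZ : K ≤ normalizer (P₂ : Set G) := by
    rw [← le_antisymm hZP (le_inf hP₂ hP₂Z)]
    exact Coprime.le_normalizer_inf hKP (Coprime.le_normalizer_centralizer hKP)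
  -- `P₂` is centralized by `K`, so it is `K*`
  have hP₂c : P₂ ≤ Ks := by
    obtain ⟨k, hk', hk1⟩ := (K.bot_or_exists_ne_one).resolve_left hK1
    refine fun a ha => hfix k hk' hk1 ⟨hP₂ ha, ?_⟩
    have hkn : zpowers k ≤ normalizer (P₂ : Set G) := zpowers_le.mpr (hKZ hk')
    have hco : (Nat.card (zpowers k)).Coprime (Nat.card P₂) := by
      obtain ⟨j, hj⟩ := (hPp.to_le hP₂).exists_card_eq
      rw [hj]
      exact (hcop.coprime_dvd_left (card_dvd_of_le (zpowers_le.mpr hk'))).pow_right j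
    have hbot : ⁅P₂, zpowers k⁆ = ⊥ := by
      by_contra hne
      obtain ⟨j, hj⟩ := ((hPp.to_le hP₂).to_le
        (Coprime.commutator_le_of_le_normalizer hkn)).exists_card_eq
      obtain ⟨w, hw⟩ := exists_prime_orderOf_dvd_card' p (G := ↥⁅P₂, zpowers k⁆) (by
        rw [hj]
        exact dvd_pow_self p fun h0 => hne (eq_bot_of_card_eq _ (by rw [hj, h0, pow_zero])))
      have hwo : orderOf (w : G) = p := by rw [Subgroup.orderOf_coe, hw]
      have hw2 : (w : G) ∈ P₂ := Coprime.commutator_le_of_le_normalizer hkn w.2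
      have hwZ : (w : G) ∈ P₁ ⊓ centralizer (P₁ : Set G) := by
        rw [← hΩ]
        exact subset_closure ⟨hw2, by rw [← hwo, pow_orderOf_eq_one]⟩
      have hwK : (w : G) ∈ Ks := by
        refine (eq_of_le_of_card_ge hKsZ ?_).ge hwZ
        rw [← hΩ, hqp]
        have hle : Subgroup.closure {y : G | y ∈ P₂ ∧ y ^ p = 1} ≤ P₂ :=
          (closure_le _).mpr fun y hy => hy.1
        haveI : IsMulCommutative P₂ := inferInstance
        let V : Subgroup G :=
          { carrier := {y | y ∈ P₂ ∧ y ^ p = 1}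
            one_mem' := ⟨one_mem _, one_pow p⟩
            mul_mem' := fun {a b} ha hb => ⟨mul_mem ha.1 hb.1, by
              have hab : Commute a b := congrArg Subtype.val
                (mul_comm' (⟨a, ha.1⟩ : P₂) ⟨b, hb.1⟩)
              rw [hab.mul_pow, ha.2, hb.2, one_mul]⟩
            inv_mem' := fun {a} ha => ⟨inv_mem ha.1, by rw [inv_pow, ha.2, inv_one]⟩ }
        have hV : Subgroup.closure {y : G | y ∈ P₂ ∧ y ^ p = 1} = V := Subgroup.closure_eq V
        rw [hV]
        haveI : IsCyclic V := Subgroup.isCyclic_of_le (show V ≤ P₂ from fun y hy => hy.1)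
        obtain ⟨v, hv⟩ := IsCyclic.exists_generator (α := V)
        rw [← orderOf_eq_card_of_forall_mem_zpowers hv]
        exact Nat.le_of_dvd hp.pos
          (orderOf_dvd_of_pow_eq_one (Subtype.ext (by simpa using v.2.2)))
      have hwc : (w : G) ∈ centralizer (zpowers k : Set G) :=
        centralizer_le (SetLike.coe_subset_coe.mpr (zpowers_le.mpr hk')) hwK.2
      have h0 : (w : G) ∈ (⊥ : Subgroup G) := by
        rw [← Coprime.commutator_inf_centralizer_eq_bot (zpowers k) P₂ hkn hco]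
        exact ⟨w.2, hwc⟩
      rw [mem_bot] at h0
      rw [h0, orderOf_one] at hwo
      exact hp.ne_one hwo.symm
    exact mem_centralizer_singleton.mpr
      (mem_centralizer_iff.mp (commutator_eq_bot_iff_le_centralizer.mp hbot ha) k
        (mem_zpowers k)).symm
  have hPP₁ : P = P₁ := by
    rw [← h12]
    exact sup_eq_left.mpr ((hP₂c.trans hKsZ).trans inf_le_left)
  have hcardP : Nat.card P = p ^ 3 := by rw [hPP₁, hcard1]
  have hext : IsExtraspecial p P := Fusion91.extraspecial_of_card_cube hcardP hPna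
  -- the automorphism given by a generator of `K`
  set φ := P.normalizerMonoidHom.comp (Subgroup.inclusion hKP) with hφ
  have hcoe : ∀ (k : K) (a : P), ((φ k a : P) : G) = (k : G) * a * (k : G)⁻¹ := fun _ _ => rfl
  have hcen : ∀ a : P, a ∈ center P ↔ (a : G) ∈ Ks := fun a => by
    constructor
    · intro ha
      exact hP₂c (hZP ⟨a.2, mem_centralizer_iff.mpr fun b hb =>
        congrArg Subtype.val (mem_center_iff.mp ha ⟨b, hb⟩)⟩)
    · intro ha
      have hmem := hKsZ ha
      rw [← hPP₁] at hmem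
      exact mem_center_iff.mpr fun b => Subtype.ext (mem_centralizer_iff.mp hmem.2 b b.2)
  have hfixZ : ∀ z ∈ center P, φ k₀ z = z := by
    intro z hz
    refine Subtype.ext ?_
    rw [hcoe]
    have := mem_centralizer_iff.mp ((hcen z).mp hz).2 k₀ k₀.2
    rw [this, mul_inv_cancel_right]
  have hfixq : ∀ (m : ℕ) (u : P), u ∉ center P → u⁻¹ * (φ k₀ ^ m) u ∈ center P →
      Nat.card K ∣ m := by
    intro m u hu hum
    rw [← map_pow] at hum
    set a := k₀ ^ m with ha
    by_contra hnd
    have ha1 : (a : G) ≠ 1 := fun h0 => hnd (by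
      rw [← hk₀o, Subgroup.orderOf_coe]
      exact orderOf_dvd_of_pow_eq_one (Subtype.ext h0))
    refine hu ((hcen u).mpr (hfix a a.2 ha1 ⟨u.2, mem_centralizer_singleton.mpr ?_⟩))
    set c := (a : G) * u * (a : G)⁻¹ * (u : G)⁻¹ with hc
    have hcK : c ∈ Ks := by
      have h1 := (hcen _).mp hum
      rw [Subgroup.coe_mul, Subgroup.coe_inv, hcoe] at h1
      have h2 := mem_centralizer_iff.mp (hKsZ h1).2 (u : G) (hPP₁ ▸ u.2)
      have h3 : c = (u : G) * ((u : G)⁻¹ * ((a : G) * u * (a : G)⁻¹)) * (u : G)⁻¹ := by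
        rw [hc]; group
      rw [h3, h2, mul_inv_cancel_right]
      exact h1
    refine (OddLocal43.commute_of_stab (a := (a : G)) (h := (u : G)) (c := c) ?_ (by rw [hc]; group)
      ?_).eq.symm
    · exact mem_centralizer_iff.mp hcK.2 a a.2
    · refine ((hcop.coprime_dvd_left (Subgroup.orderOf_dvd_natCard _ a.2)).coprime_dvd_right ?_)
      rw [← hqp]
      exact Subgroup.orderOf_dvd_natCard _ hcK
  rcases FG72.ExtraModule.dvd_of_aut (n := 1) hext hcardP
      (h := Nat.card K) Nat.card_pos hcop (φ k₀)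
      (by rw [← map_pow, pow_card_eq_one', map_one]) hfixZ hfixq with hd | hd
  · refine Or.inr ⟨?_, by rwa [pow_one] at hd⟩
    rw [hH]
    refine Eq.trans ?_ hcardP
    have heq : (pCore p ↥(sigmaCore M)).map (sigmaCore M).subtype = P := by
      refine le_antisymm ?_ ?_
      · intro y hy
        obtain ⟨j, hj⟩ := IsPGroup.iff_orderOf.1
          ((Thompson.isPGroup_pCore (p := p) (G := ↥(sigmaCore M))).map (sigmaCore M).subtype) ⟨y, hy⟩
        rw [Subgroup.orderOf_mk] at hj
        exact mem_core_of_sigma hG h hM hnil (map_subtype_le _ hy) hj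
      · intro y hy
        have hn : (P.subgroupOf (sigmaCore M)).Normal := (normal_subgroupOf_iff_le_normalizer hPσ).mpr
          ((sigmaCore_le M).trans (BGUniq.le_normalizer_core p M))
        exact ⟨⟨y, hPσ hy⟩, Thompson.le_pCore hn hPp.comap_subtype
          (show (⟨y, hPσ hy⟩ : sigmaCore M) ∈ P.subgroupOf (sigmaCore M) from hy), rfl⟩
    rw [← heq, card_map_of_injective (sigmaCore M).subtype_injective]
  · exact Or.inl (by rwa [pow_one] at hd)

end Cfsg.Agent.BGSummary.Loc
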