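import Cfsg.Agent.BGSummary.FittingHallTheorems
import Cfsg.Agent.BGTwelve.TauTwoCompl

/-!
# The cyclic subgroup `K*`, fusion in Hall subgroups and the TI-set `A(M) \ M_σ`

The statements S1362, S1364, S1384 and S1438, from the local structure.
-/

set_option autoImplicit false
set_option linter.unusedSectionVars false
set_option linter.style.haveILetI false
set_option linter.deprecated false

namespace Cfsg.Agent.BGSummary.Loc

open Cfsg Subgroup
open scoped commutatorElement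
open Cfsg.Agent.BGSigma (sigmaCore_le le_normalizer_sigmaCore isPiSub_sigmaCore localInputs)

universe u

variable {G : Type u} [Group G] [Finite G]

theorem mem_conj_centralizer {c g a : G} :
    c ∈ centralizer ({g * a * g⁻¹} : Set G) ↔ g⁻¹ * c * g ∈ centralizer ({a} : Set G) := by
  rw [← BGTwelve.conj_mem_centralizer_iff (m := g) (x := a) (y := g⁻¹ * c * g),
    show g * (g⁻¹ * c * g) * g⁻¹ = c by group]

/-- A `q`-subgroup lies in the normal Hall subgroup containing `q` in its primes. -/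
theorem le_of_prime_hall {N X Y : Subgroup G} (hNX : N ≤ X) (hn : X ≤ normalizer (N : Set G))
    (hcop : (Nat.card N).Coprime (N.relIndex X)) {q : ℕ} (hq : q.Prime) (hd : q ∣ Nat.card N)
    (hY : IsPGroup q Y) (hYX : Y ≤ X) : Y ≤ N := by
  haveI := Fact.mk hq
  obtain ⟨n, hn'⟩ := hY.exists_card_eq
  refine BGSigma.le_of_coprime_relIndex hNX hn hYX ?_
  rw [hn']
  exact Nat.Coprime.pow_left n ((Nat.Prime.coprime_iff_not_dvd hq).mpr fun hd' =>
    hq.not_dvd_one (hcop ▸ Nat.dvd_gcd hd hd'))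

variable (hG : IsMinSimpleOddOrder G) (h : LocalStructure G) {M : Subgroup G} (hM : IsCoatom M)
include hG h hM

theorem star_cyclic_of {K U : Subgroup G} (hKU : IsSigmaDecomposition M K U) (hK1 : K ≠ ⊥) :
    IsCyclic ↥(sigmaCore M ⊓ centralizer (K : Set G)) ∧
      (sigmaCore M ⊓ centralizer (K : Set G)) ≠ ⊥ ∧
      (sigmaCore M ⊓ centralizer (K : Set G)) ≤ fittingHallOf M ∧
      ¬ IsCyclic (fittingHallOf M) := by
  set st := sigmaCore M ⊓ centralizer (K : Set G) with hst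
  obtain ⟨Ms, ⟨hMs, -, hKstH⟩, -⟩ := h.star M hM K U hKU hK1
  have hne : st ≠ ⊥ := (h.kappa_star M hM K hKU.cyclic hKU.hall).1
  have hle : st ≤ fittingHallOf M := by
    by_cases hnil : Group.IsNilpotent (sigmaCore M)
    · rw [fittingHallOf_eq_sigmaCore hG h hM hnil]; exact inf_le_left
    · obtain ⟨q, hqp, hq⟩ := exists_q hG h hM hnil hKU
      haveI := Fact.mk hqp
      exact (star_le_core hG h hM hnil hKU hq).trans (core_le_fittingHallOf hG h hM hnil hKU hq)
  refine ⟨(h.kappa_hall Ms hMs).2 _ hKstH, hne, hle, fun hcyc => ?_⟩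
  obtain ⟨r, hr, hrd⟩ := Nat.exists_prime_and_dvd (mt card_eq_one.mp hne)
  haveI := Fact.mk hr
  obtain ⟨-, -, h3, -⟩ := h.kappa_star_meet M hM K hKU.hall hK1
  let S : Sylow r (sigmaCore M) := default
  set S₀ := (S : Subgroup (sigmaCore M)).map (sigmaCore M).subtype with hS₀
  set H := fittingHallOf M with hH
  have hHn := le_normalizer_fittingHallOf M
  have hSH : S₀ ≤ H := le_of_prime_hall (BGUniq.fittingHallOf_le M) hHn
    (fittingHallOf_relIndex_coprime M) hr (hrd.trans (card_dvd_of_le hle)) (S.isPGroup'.map _)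
    ((map_subtype_le _).trans (sigmaCore_le M))
  have hKS : K ≤ normalizer (S₀ : Set G) :=
    le_normalizer_of_le_cyclic hcyc hSH (hKU.hall.1.trans hHn)
  haveI := hcyc
  letI := IsCyclic.commGroup (α := H)
  haveI : IsMulCommutative S₀ := ⟨⟨fun a b => Subtype.ext (Subtype.ext_iff.mp
    (mul_comm (⟨a.1, hSH a.2⟩ : H) ⟨b.1, hSH b.2⟩) :)⟩⟩
  have hcop : (Nat.card K).Coprime (Nat.card S₀) :=
    (TypeCore.coprime_kappa hKU.hall).coprime_dvd_right (card_dvd_of_le (map_subtype_le _))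
  have h0 := Coprime.commutator_inf_centralizer_eq_bot K S₀ hKS hcop
  have hSσ : r ∣ Nat.card S₀ := by
    rw [hS₀, card_map_of_injective (sigmaCore M).subtype_injective]
    exact S.dvd_card_of_dvd_card (hrd.trans (card_dvd_of_le inf_le_left))
  obtain ⟨⟨z, hz⟩, hzo⟩ := exists_prime_orderOf_dvd_card' (G := st) r hrd
  rw [Subgroup.orderOf_mk] at hzo
  have hcomm : ⁅S₀, K⁆ = ⊥ := by
    by_contra hc
    have hle' : ⁅S₀, K⁆ ≤ S₀ := Coprime.commutator_le_of_le_normalizer hKS
    have hd : r ∣ Nat.card ↥⁅S₀, K⁆ := by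
      obtain ⟨n, hn⟩ := ((S.isPGroup'.map _).to_le hle').exists_card_eq
      rw [hn]
      rcases n with _ | n
      · exact absurd (card_eq_one.mp (hn.trans (pow_zero r))) hc
      · exact dvd_pow_self r n.succ_ne_zero
    obtain ⟨⟨v, hv⟩, hvo⟩ := exists_prime_orderOf_dvd_card' (G := (⁅S₀, K⁆ : Subgroup G)) r hd
    rw [Subgroup.orderOf_mk] at hvo
    have hzv : z ∈ zpowers v :=
      mem_zpowers_of_orderOf_eq hcyc (hSH (hle' hv)) (hle hz) (hvo.trans hzo.symm)
    have hz1 : z ∈ ⁅S₀, K⁆ ⊓ centralizer (K : Set G) := ⟨(zpowers_le).mpr hv hzv, hz.2⟩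
    rw [h0, mem_bot] at hz1
    rw [hz1, orderOf_one] at hzo
    exact hr.ne_one hzo.symm
  exact (h3 r hr hrd S).2.2 (le_inf (map_subtype_le _)
    (commutator_eq_bot_iff_le_centralizer.mp hcomm))

theorem derived_of {K U : Subgroup G} (hKU : IsSigmaDecomposition M K U) (hK1 : K ≠ ⊥) :
    ⁅M, M⁆ = U ⊔ sigmaCore M ∧
      sigmaCore M ⊓ centralizer (K : Set G) ≤ ⁅⁅M, M⁆, ⁅M, M⁆⁆ :=
  ⟨derived_eq hG h hM hKU hK1, star_le_derived_two hG h hM hKU hK1⟩

/-- The centralizer of a prime order element of `U M_σ` outside `M_σ` with a fixed point. -/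
theorem centralizer_uniq_prime {K U : Subgroup G} (hKU : IsSigmaDecomposition M K U) {x : G}
    (hx : x ∈ U ⊔ sigmaCore M) {r : ℕ} (hr : r.Prime) (hrs : r ∉ sigma M) (hxr : orderOf x = r)
    {y : G} (hy : y ∈ sigmaCore M) (hy1 : y ≠ 1) (hxy : x * y = y * x) :
    centralizer ({x} : Set G) ≤ M ∧
      ∀ L : Subgroup G, IsCoatom L → centralizer ({x} : Set G) ≤ L → L = M := by
  have hUM : U ≤ normalizer (sigmaCore M : Set G) :=
    hKU.compl.1.trans (le_normalizer_sigmaCore M)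
  have hxM : x ∈ M := sup_le hKU.compl.1 (sigmaCore_le M) hx
  obtain ⟨k, hk, hkA⟩ := Coprime.exists_conj_le_of_le_sup (zpowers x) (sigmaCore M) U
    ((zpowers_le.mpr hxM).trans (le_normalizer_sigmaCore M)) hUM
    (by
      rw [Nat.card_zpowers, hxr]
      exact (Nat.Prime.coprime_iff_not_dvd hr).mpr fun hd => hrs (isPiSub_sigmaCore M r hr hd))
    (Or.inl inferInstance) (by rw [zpowers_le, sup_comm]; exact hx)
  have hu := hkA x (mem_zpowers x)
  have hkM : k ∈ M := sigmaCore_le M hk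
  have hX : zpowers (k * x * k⁻¹) ≠ ⊥ := by
    rw [Ne, zpowers_eq_bot, conj_eq_one_iff]
    intro h1
    rw [h1, orderOf_one] at hxr
    exact hr.ne_one hxr.symm
  have hXc : sigmaCore M ⊓ centralizer (zpowers (k * x * k⁻¹) : Set G) ≠ ⊥ := by
    rw [centralizer_zpowers]
    intro h0
    refine hy1 (conj_eq_one_iff.mp ((eq_bot_iff_forall _).mp h0 (k * y * k⁻¹)
      ⟨BGTwelve.conj_sigmaCore hkM hy, ?_⟩))
    exact BGTwelve.conj_mem_centralizer_iff.mpr (mem_centralizer_singleton.mpr hxy.symm)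
  obtain ⟨h1, h2⟩ := centralizer_unique_of hG h hM hKU (zpowers_le.mpr hu) hX hXc
  rw [centralizer_zpowers] at h1 h2
  refine ⟨fun c hc => ?_, fun L hL hle => ?_⟩
  · have := h1 (BGTwelve.conj_mem_centralizer_iff (m := k).mpr hc)
    have h3 := mul_mem (mul_mem (inv_mem hkM) this) hkM
    simpa [mul_assoc] using h3
  · have := h2 _ (BGSigma.isCoatom_map_conj hL k) fun c hc =>
      BGSigma.mem_map_conj.mpr (hle (mem_conj_centralizer.mp hc))
    ext z
    have h5 : z ∈ L ↔ k * z * k⁻¹ ∈ L.map (MulAut.conj k).toMonoidHom := by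
      rw [BGSigma.mem_map_conj]
      simp [mul_assoc]
    rw [h5, this]
    exact ⟨fun hz => by simpa [mul_assoc] using mul_mem (mul_mem (inv_mem hkM) hz) hkM,
      fun hz => mul_mem (mul_mem hkM hz) (inv_mem hkM)⟩

/-- S1362. -/
theorem sigmaA_ti_of {K U : Subgroup G} (hKU : IsSigmaDecomposition M K U) :
    IsTISubset (sigmaA M U \ (sigmaCore M : Set G)) := by
  set X := U ⊔ sigmaCore M with hX
  have hXn := (h.decomp M hM K hKU.cyclic hKU.hall).2 U hKU
  have hXM : X ≤ M := sup_le hKU.compl.1 (sigmaCore_le M)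
  intro g hg x hx hgx
  exfalso
  refine hg ?_
  obtain ⟨⟨⟨hxM, y, hy, hy1, hxy⟩, hx1⟩, hxσ⟩ := hx
  obtain ⟨⟨⟨-, z, hz, hz1, hgz⟩, hg1⟩, -⟩ := hgx
  obtain ⟨r, hr, hrd, hrs⟩ : ∃ r, r.Prime ∧ r ∣ orderOf x ∧ r ∉ sigma M := by
    by_contra hno
    exact hxσ (TypeCore.mem_sigmaCore (hall hG hM) hxM fun p hp hd =>
      by_contra fun hs => hno ⟨p, hp, hd, hs⟩)
  obtain ⟨n, hn⟩ := hrd
  have hn0 : n ≠ 0 := fun h0 => by rw [h0, mul_zero] at hn; exact (orderOf_pos x).ne' hn
  have hxn : orderOf (x ^ n) = r := by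
    rw [orderOf_pow_of_dvd hn0 ⟨r, by rw [hn, mul_comm]⟩, hn,
      Nat.mul_div_cancel _ (Nat.pos_of_ne_zero hn0)]
  obtain ⟨hC, -⟩ := centralizer_uniq_prime hG h hM hKU (pow_mem hx1 n) hr hrs hxn hy hy1
    ((show Commute x y from hxy).pow_left n).eq
  obtain ⟨-, hu⟩ := centralizer_uniq_prime hG h hM hKU (pow_mem hg1 n) hr hrs
    (by rw [conj_pow, orderOf_conj, hxn]) hz hz1 ((show Commute _ z from hgz).pow_left n).eq
  rw [conj_pow] at hu
  have heq := hu _ (BGSigma.isCoatom_map_conj hM g) fun c hc =>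
    BGSigma.mem_map_conj.mpr (hC (mem_conj_centralizer.mp hc))
  have hgM : g ∈ M := by
    rw [← BGSigma.coatom_self_normalizing hG hM]
    exact mem_normalizer_iff_map_conj_eq.mpr heq
  -- `M` normalizes the set
  have key : ∀ m ∈ M, ∀ a : G, a ∈ sigmaA M U \ (sigmaCore M : Set G) →
      m * a * m⁻¹ ∈ sigmaA M U \ (sigmaCore M : Set G) := by
    rintro m hm a ⟨⟨⟨haM, b, hb, hb1, hab⟩, haX⟩, haσ⟩
    refine ⟨⟨⟨mul_mem (mul_mem hm haM) (inv_mem hm), m * b * m⁻¹,
      BGTwelve.conj_sigmaCore hm hb, fun h0 => hb1 (conj_eq_one_iff.mp h0), ?_⟩, ?_⟩, ?_⟩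
    · rw [show m * a * m⁻¹ * (m * b * m⁻¹) = m * (a * b) * m⁻¹ by group, hab]; group
    · exact Coprime.conj_mem_of_mem_normalizer (hXn hm) haX
    · intro h0
      have := Coprime.conj_mem_of_mem_normalizer' (le_normalizer_sigmaCore M hm) h0
      exact haσ (by simpa [mul_assoc] using this)
  rw [mem_set_normalizer_iff]
  intro a
  refine ⟨key g hgM a, fun ha => ?_⟩
  have := key g⁻¹ (inv_mem hgM) _ ha
  simpa [mul_assoc] using this

/-- The first part of S1438. -/
theorem hall_centralizer_of {H : Subgroup G} (hH : H ≤ sigmaCore M) (hH1 : H ≠ ⊥)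
    (hHall : (Nat.card H).Coprime (H.relIndex (sigmaCore M))) :
    ∃ X : Subgroup G, IsCyclic X ∧ (∀ p : ℕ, p.Prime → p ∣ Nat.card X → p ∈ tau2 M) ∧
      M ⊓ centralizer (H : Set G) = (sigmaCore M ⊓ centralizer (H : Set G)) ⊔ X := by
  classical
  obtain ⟨K, U, hKU⟩ := exists_decomposition hG h hM
  have hE := compl_sup hKU
  set C := M ⊓ centralizer (H : Set G) with hC
  set N := sigmaCore M ⊓ centralizer (H : Set G) with hN
  have hNC : N ≤ C := inf_le_inf_right _ (sigmaCore_le M)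
  have hNn : C ≤ normalizer (N : Set G) := Coprime.le_normalizer_inf
    (inf_le_left.trans (le_normalizer_sigmaCore M)) (inf_le_right.trans le_normalizer)
  have hNeq : N = sigmaCore M ⊓ C := le_antisymm (le_inf inf_le_left hNC)
    (inf_le_inf_left _ inf_le_right)
  have hrel : N.relIndex C ∣ (sigmaCore M).relIndex M := by
    rw [hNeq, inf_relIndex_right,
      ← Coprime.relIndex_sup_of_le_normalizer (inf_le_left.trans (le_normalizer_sigmaCore M))]
    exact ⟨_, (relIndex_mul_relIndex _ _ _ le_sup_right (sup_le inf_le_left (sigmaCore_le M))).symm⟩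
  have hcopσ := coprime_of_hall (hall hG hM)
  obtain ⟨X, hX⟩ := exists_complIn_of_hall hNC hNn
    ((hcopσ.coprime_dvd_left (card_dvd_of_le inf_le_left)).coprime_dvd_right hrel)
  have hXM : X ≤ M := hX.2.1.trans inf_le_left
  have hXs : ∀ p : ℕ, p.Prime → p ∣ Nat.card X → p ∉ sigma M := fun p hp hd hs => by
    rw [← card_eq_of_complIn hX hNn] at hd
    exact (hall hG hM).2.2 p hp hs (hd.trans hrel)
  have hXc : ∀ x ∈ X, ∀ y ∈ H, x * y = y * x := fun x hx y hy =>
    (mem_centralizer_iff.mp (hX.2.1 hx).2 y hy).symm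
  obtain ⟨⟨y, hy⟩, hy'⟩ := (Subgroup.ne_bot_iff_exists_ne_one).mp hH1
  have hy1 : y ≠ 1 := fun h0 => hy' (Subtype.ext h0)
  have hnk : ∀ x ∈ X, ∀ p : ℕ, p.Prime → p ∣ orderOf x → p ∉ kappa M := by
    intro x hx p hp hd hk
    haveI := Fact.mk hp
    obtain ⟨k, hk'⟩ := hd
    have hk0 : k ≠ 0 := fun h0 => by rw [h0, mul_zero] at hk'; exact (orderOf_pos x).ne' hk'
    have hzo : orderOf (x ^ k) = p := by
      rw [orderOf_pow_of_dvd hk0 ⟨p, by rw [hk', mul_comm]⟩, hk',
        Nat.mul_div_cancel _ (Nat.pos_of_ne_zero hk0)]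
    obtain ⟨m, hm, hmK⟩ := exists_conj_mem_hall hKU.hall hk (pow_mem (hXM hx) k) (n := 1)
      (by rw [hzo, pow_one])
    have hm1 : m * x ^ k * m⁻¹ ≠ 1 := fun h0 => by
      rw [conj_eq_one_iff.mp h0, orderOf_one] at hzo; exact hp.ne_one hzo.symm
    have hK1 : K ≠ ⊥ := fun h0 => hm1 (mem_bot.mp (h0 ▸ hmK))
    obtain ⟨r, hr, hrd⟩ := Nat.exists_prime_and_dvd (mt card_eq_one.mp hH1)
    haveI := Fact.mk hr
    set H' := H.map (MulAut.conj m).toMonoidHom with hH'
    have hH'σ : H' ≤ sigmaCore M := by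
      rintro _ ⟨a, ha, rfl⟩; exact BGTwelve.conj_sigmaCore hm (hH ha)
    have hH'f : H' ≤ sigmaCore M ⊓ centralizer (K : Set G) := by
      rw [← (h.kappa_context M hM K hKU.hall hK1).1 _ hmK hm1]
      refine le_inf hH'σ ?_
      rintro _ ⟨a, ha, rfl⟩
      exact BGTwelve.conj_mem_centralizer_iff.mpr (mem_centralizer_singleton.mpr
        ((Commute.pow_left (hXc x hx a ha) k).eq).symm)
    let T : Sylow r H' := default
    obtain ⟨S, hS⟩ := ((T.isPGroup'.map H'.subtype).comap_subtype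
      (K := sigmaCore M)).exists_le_sylow
    have hle : (T : Subgroup H').map H'.subtype ≤ (S : Subgroup _).map (sigmaCore M).subtype :=
      fun a ha => ⟨⟨a, hH'σ (map_subtype_le _ ha)⟩, hS ha, rfl⟩
    have hrst : r ∣ Nat.card ↥(sigmaCore M ⊓ centralizer (K : Set G)) := by
      refine Dvd.dvd.trans ?_ (card_dvd_of_le hH'f)
      rw [hH', BGSigma.card_map_conj]; exact hrd
    refine (((h.kappa_star_meet M hM K hKU.hall hK1).2.2.1 r hr hrst S).2.2) ?_
    refine (eq_of_le_of_card_ge hle ?_).symm.le.trans ((map_subtype_le _).trans hH'f)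
    rw [card_map_of_injective (sigmaCore M).subtype_injective,
      card_map_of_injective H'.subtype_injective, S.card_eq_multiplicity, T.card_eq_multiplicity,
      hH', BGSigma.card_map_conj, ← BGSigma.relIndex_mul_card hH,
      Nat.factorization_mul (fun h0 => (Nat.coprime_zero_right _).mp (h0 ▸ hHall) |>
        fun h1 => hH1 (card_eq_one.mp h1)) Nat.card_pos.ne']
    refine Nat.pow_le_pow_right hr.pos (le_of_eq ?_)
    rw [Finsupp.add_apply, Nat.factorization_eq_zero_of_not_dvd fun hd' =>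
      hr.not_dvd_one (hHall ▸ Nat.dvd_gcd hrd hd'), zero_add]
  have hτ : ∀ x ∈ X, ∀ p : ℕ, p.Prime → p ∣ orderOf x → p ∈ tau2 M := fun x hx p hp hd =>
    (mem_kappa_or_tau2 hG h hM (hXM hx) hp
      (hXs p hp (hd.trans (Subgroup.orderOf_dvd_natCard X hx))) hd (hH hy) hy1
      (hXc x hx y hy)).resolve_left (hnk x hx p hp hd)
  obtain ⟨s, hs, hsE⟩ := BGTwelve.exists_conj_le_compl hG hM hE hXM hXs
  obtain ⟨A₀, hA₀c, hA₀⟩ := exists_abelian_hat hG h hM hKU
  haveI := hA₀c
  have hsM := sigmaCore_le M hs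
  have hmem : ∀ x ∈ X, s * x * s⁻¹ ∈ A₀ := fun x hx => hA₀ _
    (mem_U_of_not_kappa hKU (hsE x hx) fun p hp hd => hnk x hx p hp (by rwa [orderOf_conj] at hd))
    ⟨mul_mem (mul_mem hsM (hXM hx)) (inv_mem hsM), s * y * s⁻¹,
      BGTwelve.conj_sigmaCore hsM (hH hy), fun h0 => hy1 (conj_eq_one_iff.mp h0), by
        rw [show s * x * s⁻¹ * (s * y * s⁻¹) = s * (x * y) * s⁻¹ by group, hXc x hx y hy]; group⟩
  haveI hXcomm : IsMulCommutative X := ⟨⟨fun a b => Subtype.ext (by
    have h1 := Subtype.ext_iff.mp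
      (mul_comm' (⟨_, hmem a.1 a.2⟩ : A₀) ⟨_, hmem b.1 b.2⟩)
    simp only [coe_mul] at h1
    have h2 : s * ((a : G) * b) * s⁻¹ = s * ((b : G) * a) * s⁻¹ := by
      calc s * ((a : G) * b) * s⁻¹ = s * a * s⁻¹ * (s * b * s⁻¹) := by group
        _ = s * b * s⁻¹ * (s * a * s⁻¹) := h1
        _ = _ := by group
    simpa using h2)⟩⟩
  refine ⟨X, ?_, fun p hp hd => ?_, (TypeCore.sup_eq hX).symm⟩
  · have hnil : Group.IsNilpotent X := by
      letI : CommGroup X := { (inferInstance : Group X) with mul_comm := mul_comm' }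
      exact CommGroup.isNilpotent
    refine BGTwelve.isCyclic_of_nilpotent_rankLE_one hnil (BGSigma.odd_card_subgroup hG X)
      fun p hp => by_contra fun hr => ?_
    haveI := Fact.mk hp
    obtain ⟨A, hAX, hAe, hAc⟩ := BGSigma.exists_elemAbelian_sq_le hr
    obtain ⟨⟨a, ha⟩, hao⟩ := exists_prime_orderOf_dvd_card' (G := A) p
      (hAc ▸ dvd_pow_self p two_ne_zero)
    rw [Subgroup.orderOf_mk] at hao
    have hp2 := hτ a (hAX ha) p hp (hao ▸ dvd_rfl)
    obtain ⟨-, -, -, hfix, -⟩ := h.tau_two M hM p hp2 A ⟨hAX.trans hXM, hAe, hAc⟩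
    exact hy1 ((eq_bot_iff_forall _).mp hfix y ⟨hH hy, mem_centralizer_iff.mpr fun b hb =>
      hXc b (hAX hb) y hy⟩)
  · haveI := Fact.mk hp
    obtain ⟨⟨x, hx⟩, hxo⟩ := exists_prime_orderOf_dvd_card' (G := X) p hd
    rw [Subgroup.orderOf_mk] at hxo
    exact hτ x hx p hp (hxo ▸ dvd_rfl)

/-- `M` is the product of a normal subgroup of order prime to `H` and the normalizer of a Hall
subgroup `H` of `M_σ`. -/
theorem exists_core_frattini {H : Subgroup G} (hH : H ≤ sigmaCore M)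
    (hHall : (Nat.card H).Coprime (H.relIndex (sigmaCore M))) :
    ∃ Q : Subgroup G, Q ≤ M ∧ M ≤ normalizer (Q : Set G) ∧ Q ⊓ H = ⊥ ∧
      ∀ m ∈ M, ∃ u ∈ Q, u * m ∈ normalizer (H : Set G) := by
  have hndvd : ∀ r : ℕ, r.Prime → r ∣ Nat.card H → ¬ r ∣ H.relIndex (sigmaCore M) :=
    fun r hr h1 h2 => hr.not_dvd_one (hHall ▸ Nat.dvd_gcd h1 h2)
  by_cases hnil : Group.IsNilpotent (sigmaCore M)
  · refine ⟨⊥, bot_le, by rw [normalizer_eq_top]; exact le_top, bot_inf_eq _, fun m hm =>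
      ⟨1, one_mem _, ?_⟩⟩
    rw [one_mul, mem_normalizer_iff_map_conj_eq]
    refine eq_of_le_of_card_ge ?_ (BGSigma.card_map_conj H m).ge
    refine BGTwelve.le_of_nilpotent_of_not_dvd hnil hH ?_ fun r hr hd => hndvd r hr
      (hd.trans (card_map_dvd _ _))
    rintro _ ⟨a, ha, rfl⟩
    exact BGTwelve.conj_sigmaCore hm (hH ha)
  obtain ⟨K, U, hKU⟩ := exists_decomposition hG h hM
  obtain ⟨q, hqp, hq⟩ := exists_q hG h hM hnil hKU
  haveI := Fact.mk hqp
  set Q := BGUniq.core q (sigmaCore M) with hQ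
  have hQn := core_le_normalizer hG h hM hnil hKU hq
  have hQM := core_le_M hG h hM hnil hKU hq
  have hHM : H ≤ M := hH.trans (sigmaCore_le M)
  haveI : (Q.subgroupOf M).Normal := (normal_subgroupOf_iff_le_normalizer hQM).mpr hQn
  have hnq := nilpotent_image hG h hM hnil hKU hq
  set f := QuotientGroup.mk' (Q.subgroupOf M) with hf
  have hker : f.ker = Q.subgroupOf M := QuotientGroup.ker_mk' _
  set S := (sigmaCore M).subgroupOf M with hS
  haveI hSn : S.Normal :=
    (normal_subgroupOf_iff_le_normalizer (sigmaCore_le M)).mpr (le_normalizer_sigmaCore M)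
  set H' := H.subgroupOf M with hH'
  set W := (H'.map f).comap f with hW
  have hHS : H' ≤ S := fun _ hx => hH hx
  have hWn : W.Normal := by
    refine ⟨fun a ha x => ?_⟩
    have hle : (H'.map f).map (MulAut.conj (f x)).toMonoidHom ≤ H'.map f := by
      refine BGTwelve.le_of_nilpotent_of_not_dvd hnq (map_mono hHS) ?_ fun r hr hd => ?_
      · rintro _ ⟨_, ⟨b, hb, rfl⟩, rfl⟩
        exact ⟨x * b * x⁻¹, hSn.conj_mem b (hHS hb) x, by simp⟩
      · rw [BGSigma.card_map_conj] at hd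
        have h1 : r ∣ Nat.card H := hd.trans ((card_map_dvd _ _).trans
          (Nat.card_congr (subgroupOfEquivOfLe hHM).toEquiv).dvd)
        intro h2
        rw [relIndex_map_map f H' S] at h2
        have hkS : f.ker ≤ S := by rw [hker]; exact fun _ hx => BGUniq.core_le q (sigmaCore M) hx
        rw [sup_eq_left.mpr hkS] at h2
        have h3 := h2.trans (relIndex_dvd_of_le_left S le_sup_left)
        rw [hS, hH', Subgroup.relIndex_subgroupOf (sigmaCore_le M)] at h3
        exact hndvd r hr h1 h3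
    rw [hW, mem_comap, map_mul, map_mul, map_inv]
    exact hle ⟨f a, ha, rfl⟩
  by_cases hdQ : q ∣ Nat.card H
  · -- then `H` contains `Q` and is normal
    have hQH : Q ≤ H := by
      let T : Sylow q H := default
      have hTQ : (T : Subgroup H).map H.subtype ≤ Q :=
        le_of_prime_hall (BGUniq.core_le q _) ((sigmaCore_le M).trans hQn)
          (core_coprime hG h hM hnil hKU hq) hqp
          (hq ▸ card_dvd_of_le (star_le_core hG h hM hnil hKU hq))
          (T.isPGroup'.map _) ((map_subtype_le _).trans hH)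
      refine (eq_of_le_of_card_ge hTQ ?_).ge.trans (map_subtype_le _)
      obtain ⟨i, hi⟩ := (BGUniq.isPGroup_core q (sigmaCore M)).exists_card_eq
      rw [card_map_of_injective H.subtype_injective, T.card_eq_multiplicity]
      refine Nat.le_of_dvd (pow_pos hqp.pos _) ?_
      rw [hi]
      refine pow_dvd_pow q ?_
      have h3 : q ^ i ∣ Nat.card H := by
        have h4 : q ^ i ∣ H.relIndex (sigmaCore M) * Nat.card H := by
          rw [BGSigma.relIndex_mul_card hH, ← hi]; exact card_dvd_of_le (BGUniq.core_le q _)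
        exact (Nat.Coprime.pow_left i ((Nat.Prime.coprime_iff_not_dvd hqp).mpr
          (hndvd q hqp hdQ))).dvd_of_dvd_mul_left h4
      exact (hqp.pow_dvd_iff_le_factorization Nat.card_pos.ne').mp h3
    refine ⟨⊥, bot_le, by rw [normalizer_eq_top]; exact le_top, bot_inf_eq _, fun m hm =>
      ⟨1, one_mem _, ?_⟩⟩
    rw [one_mul]
    have hWH : W = H' := by
      rw [hW, comap_map_eq, sup_eq_left, hker]
      exact fun _ hx => hQH hx
    have hmem : (⟨m, hm⟩ : M) ∈ normalizer (H' : Set M) := by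
      rw [normalizer_eq_top_iff.mpr (hWH ▸ hWn)]; trivial
    refine mem_normalizer_iff.mpr fun a => ⟨fun ha => ?_, fun ha => ?_⟩
    · exact (mem_normalizer_iff.mp hmem ⟨a, hHM ha⟩).mp ha
    · have haM : a ∈ M := by
        have := mul_mem (mul_mem (inv_mem hm) (hHM ha)) hm
        simpa [mul_assoc] using this
      exact (mem_normalizer_iff.mp hmem ⟨a, haM⟩).mpr ha
  · have hcop : (Nat.card H).Coprime (Nat.card Q) := by
      obtain ⟨i, hi⟩ := (BGUniq.isPGroup_core q (sigmaCore M)).exists_card_eq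
      rw [hi]
      exact (Nat.Coprime.pow_left i ((Nat.Prime.coprime_iff_not_dvd hqp).mpr hdQ)).symm
    refine ⟨Q, hQM, hQn, inf_eq_bot_of_coprime hcop.symm, fun m hm => ?_⟩
    have hle : H.map (MulAut.conj m).toMonoidHom ≤ Q ⊔ H := by
      rintro _ ⟨a, ha, rfl⟩
      have h1 : (⟨m, hm⟩ : M) * ⟨a, hHM ha⟩ * (⟨m, hm⟩ : M)⁻¹ ∈ W :=
        hWn.conj_mem _ (le_comap_map f H' (show (⟨a, hHM ha⟩ : M) ∈ H' from ha)) _
      rw [hW, comap_map_eq, hker, sup_comm, hH',
        ← subgroupOf_sup hQM hHM] at h1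
      exact h1
    obtain ⟨u, hu, huH⟩ := Coprime.exists_conj_le Q (H.map (MulAut.conj m).toMonoidHom) H
      ((BGSigma.map_conj_le_iff.mpr fun a ha => mul_mem (mul_mem hm (hHM ha)) (inv_mem hm)).trans hQn)
      (hHM.trans hQn) hle (by rwa [BGSigma.card_map_conj]) hcop
      (Or.inr (Coprime.solvable_of_le hQM (BGSigma.coatom_isSolvable hG hM)))
    refine ⟨u, hu, mem_normalizer_iff_map_conj_eq.mpr (eq_of_le_of_card_ge ?_
      (BGSigma.card_map_conj H (u * m)).ge)⟩
    rintro _ ⟨a, ha, rfl⟩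
    have := huH _ ⟨a, ha, rfl⟩
    simpa [mul_assoc] using this

/-- S1438. -/
theorem sigma_fusion_of {H : Subgroup G} (hH : H ≤ sigmaCore M) (hH1 : H ≠ ⊥)
    (hHall : (Nat.card H).Coprime (H.relIndex (sigmaCore M))) :
    (∃ X : Subgroup G, IsCyclic X ∧ (∀ p : ℕ, p.Prime → p ∣ Nat.card X → p ∈ tau2 M) ∧
        M ⊓ centralizer (H : Set G) = (sigmaCore M ⊓ centralizer (H : Set G)) ⊔ X) ∧
      ∀ x ∈ H, ∀ g : G, g * x * g⁻¹ ∈ H →
        ∃ n ∈ M ⊓ normalizer (H : Set G), n * x * n⁻¹ = g * x * g⁻¹ := by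
  refine ⟨hall_centralizer_of hG h hM hH hH1 hHall, fun x hx g hgx => ?_⟩
  rcases eq_or_ne x 1 with rfl | hx1
  · exact ⟨1, one_mem _, by simp⟩
  obtain ⟨-, R, -, hR, huniq⟩ := h.sigma_supports M hM x (hH hx) hx1
  obtain ⟨r, ⟨hr, hrM⟩, -⟩ := huniq g⁻¹ (BGSigma.mem_map_conj.mpr
    (by simpa using sigmaCore_le M (hH hgx)))
  have hgr : g * r ∈ M := by
    rw [← BGSigma.coatom_self_normalizing hG hM]
    refine mem_normalizer_iff_map_conj_eq.mpr ?_
    show M.map (MulAut.conj (g * r)).toMonoidHom = M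
    rw [← BGSigma.map_conj_comp M g r, hrM, BGSigma.map_conj_comp, mul_inv_cancel,
      BGSigma.map_conj_one]
  have hrx : r * x * r⁻¹ = x := by
    rw [mem_centralizer_singleton.mp (hR.2.1 hr), mul_inv_cancel_right]
  obtain ⟨Q, hQM, hQn, hQH, hfr⟩ := exists_core_frattini hG h hM hH hHall
  obtain ⟨u, hu, hun⟩ := hfr (g * r) hgr
  have hgx' : g * r * x * (g * r)⁻¹ = g * x * g⁻¹ := by
    calc g * r * x * (g * r)⁻¹ = g * (r * x * r⁻¹) * g⁻¹ := by group
      _ = _ := by rw [hrx]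
  set y := g * x * g⁻¹ with hy
  have hny : u * (g * r) * x * (u * (g * r))⁻¹ = u * y * u⁻¹ := by
    calc u * (g * r) * x * (u * (g * r))⁻¹ = u * (g * r * x * (g * r)⁻¹) * u⁻¹ := by group
      _ = _ := by rw [hgx']
  have huy : u * y * u⁻¹ ∈ H := hny ▸ Coprime.conj_mem_of_mem_normalizer hun hx
  have hyM : y ∈ M := sigmaCore_le M (hH hgx)
  have hfix : u * y * u⁻¹ * y⁻¹ ∈ Q ⊓ H := by
    refine ⟨?_, H.mul_mem huy (H.inv_mem hgx)⟩
    rw [show u * y * u⁻¹ * y⁻¹ = u * (y * u⁻¹ * y⁻¹) by group]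
    exact mul_mem hu (Coprime.conj_mem_of_mem_normalizer (hQn hyM) (inv_mem hu))
  rw [hQH, mem_bot, mul_inv_eq_one] at hfix
  refine ⟨u * (g * r), ⟨?_, hun⟩, hny.trans hfix⟩
  exact mul_mem (hQM hu) hgr

omit hM in
/-- S1384. -/
theorem nilpotent_hall_fusion_of {H : Subgroup G} (hHn : Group.IsNilpotent H)
    (hHall : (Nat.card H).Coprime H.index) :
    ∀ x ∈ H, ∀ g : G, g * x * g⁻¹ ∈ H →
      ∃ n ∈ normalizer (H : Set G), n * x * n⁻¹ = g * x * g⁻¹ := by
  intro x hx g hgx
  by_cases hH1 : H = ⊥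
  · subst hH1
    rw [mem_bot] at hx
    exact ⟨1, one_mem _, by simp [hx]⟩
  obtain ⟨p, hp, hpd⟩ := Nat.exists_prime_and_dvd (mt card_eq_one.mp hH1)
  haveI := Fact.mk hp
  let T : Sylow p H := default
  set P := (T : Subgroup H).map H.subtype with hP
  have hPH : P ≤ H := map_subtype_le _
  have hP1 : P ≠ ⊥ := fun h0 => T.ne_bot_of_dvd_card hpd
    ((map_eq_bot_iff_of_injective _ H.subtype_injective).mp h0)
  haveI := Transfer.nilpotent_sylow_normal hHn T
  have hHP : H ≤ normalizer (P : Set G) := fun a ha =>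
    (T : Subgroup H).le_normalizer_map H.subtype
      ⟨⟨a, ha⟩, by rw [normalizer_eq_top]; trivial, rfl⟩
  have hPt : P ≠ ⊤ := by
    intro h0
    refine BGSigma.not_isSolvable hG ?_
    haveI : Group.IsNilpotent (⊤ : Subgroup G) := h0 ▸ (T.isPGroup'.map H.subtype).isNilpotent
    have h2 : Group.IsSolvable (⊤ : Subgroup G) := inferInstance
    exact Group.isSolvable_of_surjective (f := (topEquiv : (⊤ : Subgroup G) ≃* G).toMonoidHom)
      topEquiv.surjective
  obtain ⟨M, hM, hNM⟩ := BGSigma.exists_coatom_ge hG (BGSigma.normalizer_ne_top hG hP1 hPt)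
  have hHM : H ≤ M := hHP.trans hNM
  have hPM : P ≤ M := hPH.trans hHM
  -- `P` is a Sylow subgroup of `M` and of `G`
  obtain ⟨S, hS⟩ := ((T.isPGroup'.map H.subtype).comap_subtype (K := M)).exists_le_sylow
  have hle : P ≤ (S : Subgroup M).map M.subtype := fun a ha => ⟨⟨a, hPM ha⟩, hS ha, rfl⟩
  have hPS : P = (S : Subgroup M).map M.subtype := by
    refine eq_of_le_of_card_ge hle ?_
    rw [card_map_of_injective M.subtype_injective, hP, card_map_of_injective H.subtype_injective,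
      S.card_eq_multiplicity, T.card_eq_multiplicity]
    refine Nat.pow_le_pow_right hp.pos ?_
    rw [← BGSigma.relIndex_mul_card hHM, Nat.factorization_mul (fun h0 => ?_) Nat.card_pos.ne',
      Finsupp.add_apply, Nat.factorization_eq_zero_of_not_dvd fun hd => ?_, zero_add]
    · exact hp.not_dvd_one (hHall ▸ Nat.dvd_gcd hpd (hd.trans (relIndex_dvd_index_of_le hHM)))
    · exact index_ne_zero_of_finite (Nat.eq_zero_of_zero_dvd (h0 ▸ relIndex_dvd_index_of_le hHM))
  have hpM : p ∣ Nat.card M := hpd.trans (card_dvd_of_le hHM)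
  have hps : p ∈ sigma M := ⟨hp, hpM, S, hPS ▸ hNM⟩
  have hcopM : (Nat.card H).Coprime (H.relIndex M) :=
    hHall.coprime_dvd_right (relIndex_dvd_index_of_le hHM)
  have hPσ : P ≤ sigmaCore M := fun a ha => by
    obtain ⟨j, hj⟩ := (T.isPGroup'.map H.subtype) ⟨a, ha⟩
    obtain ⟨i, -, hi⟩ := (Nat.dvd_prime_pow hp).mp
      (orderOf_dvd_of_pow_eq_one (congrArg Subtype.val hj : a ^ p ^ j = 1))
    exact TypeCore.mem_sigmaCore_of_prime_pow (hall hG hM) (hPM ha) hp hps hi
  have hPhall : (Nat.card P).Coprime (P.relIndex (sigmaCore M)) := by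
    obtain ⟨n, hn⟩ := (T.isPGroup'.map H.subtype).exists_card_eq
    rw [hn]
    refine Nat.Coprime.pow_left n ((Nat.Prime.coprime_iff_not_dvd hp).mpr fun hd => ?_)
    refine S.not_dvd_index (hd.trans ?_)
    rw [show (S : Subgroup M).index = P.relIndex M by
      rw [hPS, Subgroup.relIndex, subgroupOf, comap_map_eq_self_of_injective M.subtype_injective]]
    exact ⟨_, (relIndex_mul_relIndex _ _ _ hPσ (sigmaCore_le M)).symm⟩
  obtain ⟨X, hXc, hXτ, hXeq⟩ := hall_centralizer_of hG h hM hPσ hP1 hPhall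
  have hHσ : H ≤ sigmaCore M := by
    refine fun a ha => TypeCore.mem_sigmaCore (hall hG hM) (hHM ha) fun r hr hd => by_contra fun hrs => ?_
    haveI := Fact.mk hr
    have hrH : r ∣ Nat.card H := hd.trans (Subgroup.orderOf_dvd_natCard H ha)
    let R : Sylow r H := default
    set R₀ := (R : Subgroup H).map H.subtype with hR₀
    have hrp : r ≠ p := fun h0 => hrs (h0 ▸ hps)
    have hRP : R₀ ≤ M ⊓ centralizer (P : Set G) := by
      refine le_inf ((map_subtype_le _).trans hHM) ?_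
      rintro _ ⟨b, hb, rfl⟩
      refine mem_centralizer_iff.mpr ?_
      rintro _ ⟨c, hc, rfl⟩
      obtain ⟨i, hi⟩ := (IsPGroup.iff_orderOf.mp R.isPGroup') ⟨b, hb⟩
      obtain ⟨j, hj⟩ := (IsPGroup.iff_orderOf.mp T.isPGroup') ⟨c, hc⟩
      rw [Subgroup.orderOf_mk] at hi hj
      exact congrArg Subtype.val (Transfer.nilpotent_commute_of_coprime hHn (x := c) (y := b)
        (by rw [hi, hj]; exact ((Nat.coprime_primes hp hr).mpr (Ne.symm hrp)).pow _ _)).eq
    set N := sigmaCore M ⊓ centralizer (P : Set G) with hN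
    set C := M ⊓ centralizer (P : Set G) with hC
    have hNn : C ≤ normalizer (N : Set G) := Coprime.le_normalizer_inf
      (inf_le_left.trans (le_normalizer_sigmaCore M)) (inf_le_right.trans le_normalizer)
    haveI : (N.subgroupOf C).Normal :=
      (normal_subgroupOf_iff_le_normalizer (inf_le_inf_right _ (sigmaCore_le M))).mpr hNn
    set f := (QuotientGroup.mk' (N.subgroupOf C)).comp (Subgroup.inclusion hRP) with hf
    have hXC : X ≤ C := hXeq ▸ le_sup_right
    set e := (QuotientGroup.mk' (N.subgroupOf C)).comp (Subgroup.inclusion hXC) with he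
    haveI := hXc
    haveI : IsCyclic e.range := isCyclic_of_surjective e.rangeRestrict e.rangeRestrict_surjective
    have hfe : f.range ≤ e.range := by
      rintro _ ⟨b, rfl⟩
      have h1 : (b : G) ∈ N ⊔ X := hXeq ▸ hRP b.2
      obtain ⟨n, hn, x', hx', hb⟩ := Coprime.exists_mul_of_mem_sup (hXC.trans hNn) h1
      refine ⟨⟨x', hx'⟩, ?_⟩
      refine QuotientGroup.eq.mpr ?_
      rw [mem_subgroupOf]
      simp only [coe_mul, coe_inv, Subgroup.coe_inclusion, hb]
      have := Coprime.conj_mem_of_mem_normalizer' (hNn (hXC hx')) hn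
      simpa [mul_assoc] using this
    haveI : IsCyclic f.range :=
        isCyclic_of_injective (Subgroup.inclusion hfe) (Subgroup.inclusion_injective hfe)
    have hinj : Function.Injective f := by
      rw [injective_iff_map_eq_one]
      intro b hb
      have h1 : (b : G) ∈ N := mem_subgroupOf.mp
        ((QuotientGroup.eq_one_iff (N := N.subgroupOf C) _).mp hb)
      refine Subtype.ext ?_
      have h2 : (b : G) ∈ R₀ ⊓ sigmaCore M := ⟨b.2, h1.1⟩
      rw [inf_eq_bot_of_coprime, mem_bot] at h2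
      · exact h2
      · obtain ⟨i, hi⟩ := (R.isPGroup'.map H.subtype).exists_card_eq
        rw [hi]
        exact Nat.Coprime.pow_left i ((Nat.Prime.coprime_iff_not_dvd hr).mpr fun hd' =>
          hrs (isPiSub_sigmaCore M r hr hd'))
    haveI hRc : IsCyclic R₀ :=
      isCyclic_of_injective f.rangeRestrict fun a b hab => hinj (congrArg Subtype.val hab)
    -- `R₀` is a Sylow subgroup of `M`, so `r` is not in `τ₂(M)`
    have hr2 : r ∈ tau2 M := by
      obtain ⟨b, hb⟩ := exists_prime_orderOf_dvd_card' (G := R₀) r (by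
        rw [hR₀, card_map_of_injective H.subtype_injective]; exact R.dvd_card_of_dvd_card hrH)
      have hbf : r ∣ Nat.card e.range := by
        rw [← hb, ← orderOf_injective f hinj b, ← Subgroup.orderOf_mk (f b) (hfe ⟨b, rfl⟩)]
        exact orderOf_dvd_natCard _
      exact hXτ r hr (hbf.trans (card_range_dvd e))
    have hidx : ¬ r ∣ R₀.relIndex M := by
      rw [← relIndex_mul_relIndex _ H M (map_subtype_le _) hHM]
      refine hr.not_dvd_mul ?_ fun hd' => hr.not_dvd_one (hcopM ▸ Nat.dvd_gcd hrH hd')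
      rw [Subgroup.relIndex, subgroupOf, comap_map_eq_self_of_injective H.subtype_injective]
      exact R.not_dvd_index
    let R₁ : Sylow r M := ((R.isPGroup'.map H.subtype).comap_subtype (K := M)).toSylow hidx
    refine hr2.2.2.2 ((BGSigma.prankLE_iff_sylow R₁).mpr ?_)
    haveI : IsCyclic (R₁ : Subgroup M) := isCyclic_of_surjective
      (subgroupOfEquivOfLe ((map_subtype_le _).trans hHM) : R₀.subgroupOf M ≃* R₀).symm.toMonoidHom
      (MulEquiv.surjective _)
    exact prankLE_one_of_cyclic hr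
  obtain ⟨n, hn, hnx⟩ := (sigma_fusion_of hG h hM hHσ hH1
    (hcopM.coprime_dvd_right ⟨_, (relIndex_mul_relIndex _ _ _ hHσ (sigmaCore_le M)).symm⟩)).2
    x hx g hgx
  exact ⟨n, hn.2, hnx⟩

end Cfsg.Agent.BGSummary.Loc
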