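import Cfsg.Agent.BGSummary.SupportP2
import Cfsg.Agent.BGSigma.ActLemmas
import Cfsg.Agent.Lib.Frobenius.Complement
import Cfsg.Agent.Lib.Frobenius.Nilpotent

/-!
# S1376: `M` is a Frobenius group when a supporting subgroup has nonempty `κ`
-/

set_option autoImplicit false
set_option linter.unusedSectionVars false
set_option linter.style.haveILetI false
set_option linter.unusedVariables false

namespace Cfsg.Agent.BGSummary.Support

open Cfsg Subgroup
open scoped commutatorElement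
open Cfsg.Agent.BGSigma (sigmaCore_le le_normalizer_sigmaCore isPiSub_sigmaCore localInputs centralizer_anti
  le_centralizer_self_of_comm)

universe u

variable {G : Type u} [Group G] [Finite G] (hG : IsMinSimpleOddOrder G) (h : LocalStructure G)
include hG h

/-- A normal `q`-subgroup in a unique maximal subgroup, for `q` dividing `|C_{M_σ}(K)|`. -/
theorem exists_normal_unique {M K U : Subgroup G} (hM : IsCoatom M)
    (hKU : IsSigmaDecomposition M K U) (hK1 : K ≠ ⊥) {q : ℕ} [hq : Fact q.Prime]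
    (hqc : Nat.card ↥(sigmaCore M ⊓ centralizer (K : Set G)) = q) :
    ∃ Q : Subgroup G, IsPGroup q Q ∧ Q ≤ sigmaCore M ∧ M ≤ normalizer (Q : Set G) ∧
      InUniqueMaximal Q := by
  obtain ⟨-, -, h3, -⟩ := h.kappa_star_meet M hM K hKU.hall hK1
  let P : Sylow q ↥(sigmaCore M) := default
  set P₀ := (P : Subgroup ↥(sigmaCore M)).map (sigmaCore M).subtype with hP₀
  obtain ⟨hPU, -, -⟩ := h3 q hq.out hqc.symm.dvd P
  have hqs : q ∈ sigma M := isPiSub_sigmaCore M q hq.out (hqc ▸ card_dvd_of_le inf_le_left)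
  by_cases hnil : Group.IsNilpotent (sigmaCore M)
  · have hle : P₀ ≤ BGUniq.core q M := fun x hx => by
      obtain ⟨j, hj⟩ := IsPGroup.iff_orderOf.1 (P.isPGroup'.map (sigmaCore M).subtype) ⟨x, hx⟩
      rw [Subgroup.orderOf_mk] at hj
      exact Loc.mem_core_of_sigma hG h hM hnil (map_subtype_le _ hx) hj
    exact ⟨_, BGUniq.isPGroup_core q M, Loc.core_le_sigma hG hM hqs,
      BGUniq.le_normalizer_core q M,
      BGUniq.inU_mono hPU hle (BGSigma.isCoatom_ne_top hM (BGUniq.core_le q M))⟩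
  · have hQM := Loc.core_le_M hG h hM hnil hKU hqc
    have hQn := Loc.core_le_normalizer hG h hM hnil hKU hqc
    have hle : P₀ ≤ BGUniq.core q (sigmaCore M) := by
      refine BGSigma.le_of_coprime_relIndex (BGUniq.core_le q _) ((sigmaCore_le M).trans hQn)
        (map_subtype_le _) ?_
      obtain ⟨n, hn⟩ := (P.isPGroup'.map (sigmaCore M).subtype).exists_card_eq
      rw [hn]
      exact Nat.Coprime.pow_left n ((Nat.Prime.coprime_iff_not_dvd hq.out).mpr
        (Loc.not_dvd_core_relIndex hG h hM hnil hKU hqc))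
    exact ⟨_, BGUniq.isPGroup_core q _, BGUniq.core_le q _, hQn,
      BGUniq.inU_mono hPU hle (BGSigma.isCoatom_ne_top hM hQM)⟩

omit hG h in
theorem P2Data.star_eq' {N K U Ms : Subgroup G} (d : P2Data N K U Ms) :
    sigmaCore Ms ⊓ centralizer ((sigmaCore N ⊓ centralizer (K : Set G) : Subgroup G) : Set G) = K :=
  d.star_eq.symm

variable {M N K U Ms : Subgroup G} (d : P2Data N K U Ms)
  {r : ℕ} [hrp : Fact r.Prime] (hr : r ∣ Nat.card U) (R : Sylow r U) (hM : IsCoatom M)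
  (hNR : normalizer ((((R : Subgroup U).map U.subtype : Subgroup G)) : Set G) ≤ M)
  (hCR : centralizer ((((R : Subgroup U).map U.subtype : Subgroup G)) : Set G) ≤ N)
include d hr hM hNR hCR

/-- `τ₂(M) = ∅`. -/
theorem P2Data.tau2_empty {t : ℕ} : t ∉ Cfsg.tau2 M := by
  intro ht2
  haveI := Fact.mk ht2.1
  have hI := localInputs hG
  have hqp := d.prime hG h
  haveI := Fact.mk hqp
  obtain ⟨hq, hfix, -, -, hKM, hUM⟩ := d.core_H hG h hr R hM hNR
  obtain ⟨-, hE⟩ := d.compl_star hG h hr R hM hNR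
  set E := M ⊓ Ms with hEdef
  have hKE : K ≤ E := le_inf hKM (d.le_star_sigma.trans (sigmaCore_le Ms))
  obtain ⟨A, hA⟩ := BGTwelve.exists_sq_le_compl hG hM hE ht2
  haveI := hA.2.1.1
  have hAM : A ≤ M := hA.1.trans inf_le_left
  -- nothing in `A` centralizes `M_σ`
  have hA0 : A ⊓ centralizer (sigmaCore M : Set G) = ⊥ := by
    refine le_bot_iff.mp fun a ha => ?_
    have hUσ := d.U_le_core hG h hr R hM hNR
    have haN : a ∈ N := hCR (centralizer_anti ((map_subtype_le _).trans hUσ) ha.2)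
    have haUK : a ∈ U ⊔ K := (d.inf_H hG h hr R hM hNR).2.1.le ⟨haN, hAM ha.1⟩
    obtain ⟨u, hu, k, hk, rfl⟩ := Coprime.exists_mul_of_mem_sup d.decomp.normal haUK
    have hkU : U ≤ centralizer ({k} : Set G) := fun v hv => by
      haveI := Loc.abelian_U hG h d.coatom d.decomp d.K_ne
      have h1 : v * (u * k) = u * k * v := mem_centralizer_iff.mp ha.2 v (hUσ hv)
      have h2 : v * u = u * v :=
        congrArg Subtype.val (mul_comm' (⟨v, hv⟩ : U) ⟨u, hu⟩)
      refine mem_centralizer_singleton_iff.mpr (mul_left_cancel (a := u) ?_)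
      rw [← mul_assoc, ← h2, mul_assoc, h1, mul_assoc]
    have hk1 : k = 1 := by_contra fun hk1 => d.U_ne (le_bot_iff.mp
      ((le_inf le_rfl hkU).trans (h.fpf N d.coatom K U d.decomp k hk hk1).le))
    subst hk1
    exact hE.2.2.1.le ⟨hA.1 ha.1, by rw [mul_one]; exact hUσ hu⟩
  have hab : ∀ S : Sylow t G, IsMulCommutative (S : Subgroup G) := fun S => by_contra fun hS => by
    have := (h.tau_two_nonabelian M hM E hE t ht2
      (fun T hT => hS (BGSigma.sylow_comm_of_comm T S hT)) A hA).2.1.1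
    rw [hA0, card_bot] at this
    exact ht2.1.ne_one this.symm
  have hKA := d.le_centralizer_plane hG h hM hE hKE hq hfix ht2 hA
  have hA1 : A ≠ ⊥ := fun h0 => by
    have := hA.2.2
    rw [h0, card_bot] at this
    exact (Nat.one_lt_pow two_ne_zero ht2.1.one_lt).ne this
  obtain ⟨L, hL, hNL⟩ := BGSigma.exists_coatom_ge hG (BGSigma.normalizer_ne_top hG hA1
    (BGSigma.isCoatom_ne_top hM hAM))
  have htL : t ∈ sigma L := BGSigma.tau2_subset_sigma hG hM hE ht2 hA hL hNL ht2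
  have hEA := BGTwelve.compl_le_normalizer_sq hG hI hM hE ht2 hA
  have hKL : K ≤ L := hKE.trans (hEA.trans hNL)
  have hAσ : A ≤ sigmaCore L := BGSigma.le_sigmaCore_of_pgroup hG hL htL
    (IsPGroup.of_card hA.2.2) (le_normalizer.trans hNL)
  by_cases hqL : Nat.card K ∈ sigma L
  swap
  · obtain ⟨g, hg⟩ := d.conj_of_fixed hG h hL hKL hqL fun h0 =>
      hA1 (le_bot_iff.mp ((le_inf hAσ (le_centralizer_iff.mp hKA)).trans h0.le))
    have htN : t ∈ sigma N := BGSigma.sigma_of_conj (hg ▸ htL)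
    exact (BGSigma.not_ideal_of_rank_two hG hI.uniq hM ht2.2.2.1 ht2.2.2.2).1
      (Loc.mem_beta_of_sigma hG h d.coatom d.decomp d.K_ne d.U_ne htN).2
  obtain rfl := d.eq_star hG h hL hKL hqL
  set K₂ := sigmaCore N ⊓ centralizer (K : Set G) with hK₂
  have hK₂1 : K₂ ≠ ⊥ := (h.kappa_star N d.coatom K d.decomp.cyclic d.decomp.hall).1
  have hK₂c := (h.kappa_hall L hL).2 _ d.star_hall
  obtain ⟨U₂, hKU₂⟩ := (h.decomp L hL K₂ hK₂c d.star_hall).1
  obtain ⟨hCA, -⟩ := (BGTwelve.tau_two_compl_stmt hG hI hM hE ht2 hA).2.1.1, trivial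
  by_cases htq : t = Nat.card K
  · -- a Sylow subgroup of `M*_σ` over `A` is abelian and in a unique maximal subgroup
    obtain ⟨S, hS⟩ := ((IsPGroup.of_card hA.2.2).comap_subtype
      (K := sigmaCore L)).exists_le_sylow
    set S₀ := (S : Subgroup (sigmaCore L)).map (sigmaCore L).subtype with hS₀
    have hAS : A ≤ S₀ := fun a ha => ⟨⟨a, hAσ ha⟩, hS ha, rfl⟩
    obtain ⟨-, -, h3, -⟩ := h.kappa_star_meet L hL K₂ hKU₂.hall hK₂1
    obtain ⟨hSU, hSL, -⟩ := h3 t ht2.1 (by rw [hK₂, d.star_eq', htq]) S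
    obtain ⟨T, hT⟩ := (S.isPGroup'.map (sigmaCore L).subtype).exists_le_sylow
    haveI := hab T
    have hSM : S₀ ≤ M := (hT.trans ((le_centralizer_self_of_comm inferInstance).trans
      (centralizer_anti (hAS.trans hT)))).trans (hCA.trans inf_le_left)
    exact hq (hSU.unique ⟨hM, hSM⟩ ⟨hL, hSL⟩ ▸ d.mem_sigma_star hG h)
  -- otherwise a conjugate of `A` centralizes a normal `q`-subgroup of `M*`
  obtain ⟨X, hXA, hXc, -, hCX, huX⟩ := BGTwelve.exists_bad_line hG hI hM hE ht2 hA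
  obtain ⟨Q, hQp, hQσ, hQn, hQU⟩ :=
    exists_normal_unique hG h hL hKU₂ hK₂1 (q := Nat.card K) (by rw [hK₂, d.star_eq'])
  set C := sigmaCore L ⊓ centralizer (K : Set G) with hC
  have hAC : A ≤ C := le_inf hAσ (le_centralizer_iff.mp hKA)
  obtain ⟨l, hl, x, hx, hxo⟩ := BGSigma.exists_prime_line hK₂1
  haveI := Fact.mk hl
  have hlk : l ∈ kappa L := hKU₂.hall.2.1 l hl (hxo ▸ Subgroup.orderOf_dvd_natCard _ hx)
  have hls : l ∉ sigma L := hlk.2.2.1
  set W := zpowers x with hW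
  have hWc : Nat.card W = l := by rw [hW, Nat.card_zpowers, hxo]
  have hx1 : x ≠ 1 := fun h0 => hl.ne_one (by rw [← hxo, h0, orderOf_one])
  have hWL : W ≤ L := (zpowers_le.mpr hx).trans hKU₂.hall.1
  have hWC : W ≤ normalizer (C : Set G) := Coprime.le_normalizer_inf
    (hWL.trans (le_normalizer_sigmaCore L))
    (Coprime.le_normalizer_centralizer ((zpowers_le.mpr hx).trans
      (inf_le_right.trans (centralizer_le_normalizer _))))
  have hcop : (Nat.card W).Coprime (Nat.card C) := by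
    rw [hWc]
    exact hl.coprime_iff_not_dvd.mpr fun hd =>
      hls (isPiSub_sigmaCore L l hl (hd.trans (card_dvd_of_le inf_le_left)))
  obtain ⟨T, hWT⟩ := Coprime.exists_invariant_sylow W C hWC hcop (Or.inl inferInstance) t
  set T₀ := (T : Subgroup C).map C.subtype with hT₀
  have hT₀C : T₀ ≤ C := map_subtype_le _
  have hT₀p : IsPGroup t T₀ := T.isPGroup'.map _
  obtain ⟨T', hT'⟩ := ((IsPGroup.of_card hA.2.2).comap_subtype (K := C)).exists_le_sylow
  obtain ⟨c, hc⟩ := MulAction.exists_smul_eq C T' T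
  have hAT : A.map (MulAut.conj (c : G)).toMonoidHom ≤ T₀ := by
    rintro _ ⟨a, ha, rfl⟩
    refine ⟨c * ⟨a, hAC ha⟩ * c⁻¹, ?_, by simp⟩
    show _ ∈ (T : Subgroup C)
    rw [← hc, Sylow.coe_subgroup_smul]
    exact smul_mem_pointwise_smul _ (MulAut.conj c) _ (hT' ha)
  have hfx : ∀ Y : Subgroup G, Y ≤ sigmaCore L → Y ⊓ centralizer (W : Set G) ≤ K := fun Y hY => by
    rw [hW, Loc.centralizer_zpowers]
    refine (inf_le_inf_right _ hY).trans (((h.kappa_context L hL K₂ d.star_hall hK₂1).1 x hx hx1).le.trans ?_)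
    rw [hK₂, d.star_eq']
  have hTK : T₀ ⊓ centralizer (W : Set G) = ⊥ := le_bot_iff.mp <|
    (le_inf inf_le_left (hfx T₀ (hT₀C.trans inf_le_left))).trans (le_of_eq (inf_eq_bot_of_coprime (by
      obtain ⟨j, hj⟩ := hT₀p.exists_card_eq
      rw [hj]
      exact ((Nat.coprime_primes ht2.1 hqp).mpr htq).pow_left j)))
  have hsolvT : Group.IsSolvable T₀ :=
    Coprime.solvable_of_le (hT₀C.trans (inf_le_left.trans (sigmaCore_le L)))
      (BGSigma.coatom_isSolvable hG hL)
  have hTW := Coprime.commutator_sup_centralizer W T₀ hWT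
    (hcop.coprime_dvd_right (card_dvd_of_le hT₀C)) (Or.inr hsolvT)
  rw [hTK, sup_bot_eq] at hTW
  have hqW : ¬ Nat.card K ∣ Nat.card W := fun hd => by
    rw [hWc, Nat.prime_dvd_prime_iff_eq hqp hl] at hd
    exact hls (hd ▸ d.mem_sigma_star hG h)
  have hTQ : T₀ ≤ centralizer (Q : Set G) := hTW.ge.trans <|
    BGSigma.commutator_le_centralizer_of_pgroup_fixed hI.fixedPoint hG.1 hQp
      ((hT₀C.trans (inf_le_left.trans (sigmaCore_le L))).trans hQn) (hWL.trans hQn) hWT
      (hWc.symm ▸ hl) (fun hd => by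
        obtain ⟨j, hj⟩ := hT₀p.exists_card_eq
        rw [hj] at hd
        exact htq ((Nat.prime_dvd_prime_iff_eq hqp ht2.1).mp (hqp.dvd_of_dvd_pow hd)).symm)
      hqW (hcop.coprime_dvd_right (card_dvd_of_le hT₀C)).symm
      (Coprime.solvable_of_le (sup_le (hT₀C.trans (inf_le_left.trans (sigmaCore_le L))) hWL)
        (BGSigma.coatom_isSolvable hG hL))
      ((hfx Q hQσ).trans (le_centralizer_iff.mp (hT₀C.trans inf_le_right)))
  have hQMc : Q ≤ M.map (MulAut.conj (c : G)).toMonoidHom := by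
    refine (le_centralizer_iff.mp hTQ).trans ?_
    refine le_trans (centralizer_anti ((map_mono hXA).trans hAT)) ?_
    rw [BGSigma.map_conj_centralizer]
    exact map_mono hCX
  have hML := hQU.unique ⟨BGSigma.isCoatom_map_conj hM (c : G), hQMc⟩
    ⟨hL, hQσ.trans (sigmaCore_le L)⟩
  exact hq (BGSigma.sigma_of_conj (g := (c : G)) (hML ▸ d.mem_sigma_star hG h))

/-- All elements of `M ⊓ M*` act without fixed points on `M_σ`. -/
theorem P2Data.regular {e : G} (he : e ∈ M ⊓ Ms) (he1 : e ≠ 1) :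
    sigmaCore M ⊓ centralizer ({e} : Set G) = ⊥ := by
  obtain ⟨-, -, -, hk, -, -⟩ := d.core_H hG h hr R hM hNR
  obtain ⟨-, hE⟩ := d.compl_star hG h hr R hM hNR
  obtain ⟨l, X, hl, hX, hXc⟩ := BGSigma.exists_line_of_ne_one he1
  by_contra h0
  have hls : l ∉ sigma M := BGTwelve.not_mem_sigma_of_dvd hG hM hE hl
    (hXc ▸ card_dvd_of_le (hX.trans (zpowers_le.mpr he)))
  rcases BGSigma.kappa_or_tau2 hG hM hl hls (hX.trans (zpowers_le.mpr he.1)) hXc fun h1 =>
      h0 (le_bot_iff.mp ((inf_le_inf_left _ ((Loc.centralizer_zpowers e).ge.trans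
        (centralizer_anti hX))).trans h1.le)) with h1 | h1
  · simp [hk] at h1
  · exact d.tau2_empty hG h hr R hM hNR hCR h1

/-- `M ⊓ M*` is cyclic. -/
theorem P2Data.cyclic_compl : IsCyclic ↥(M ⊓ Ms) := by
  have hI := localInputs hG
  have hqp := d.prime hG h
  haveI := Fact.mk hqp
  obtain ⟨hq, hfix, -, -, hKM, hUM⟩ := d.core_H hG h hr R hM hNR
  obtain ⟨hKF, hE⟩ := d.compl_star hG h hr R hM hNR
  have hreg : ∀ e ∈ M ⊓ Ms, e ≠ 1 → sigmaCore M ⊓ centralizer ({e} : Set G) = ⊥ :=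
    fun e he he1 => d.regular hG h hr R hM hNR hCR he he1
  set E := M ⊓ Ms with hEdef
  haveI : IsCyclic K := d.decomp.cyclic
  have hKp : IsPGroup (Nat.card K) K := IsPGroup.of_card (n := 1) (pow_one _).symm
  have hKMs : K ≤ Ms := d.le_star_sigma.trans (sigmaCore_le Ms)
  have hKE : K ≤ E := le_inf hKM hKMs
  have hr1 : ∀ p : ℕ, p.Prime → PRankLE p 1 E := fun p hp => by
    haveI := Fact.mk hp
    by_cases hd : p ∣ Nat.card E
    · have hps := BGTwelve.not_mem_sigma_of_dvd hG hM hE hp hd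
      exact BGSigma.prankLE_subgroup hE.1 (by_contra fun h1 => d.tau2_empty hG h hr R hM hNR hCR
        ⟨hp, hps, BGSigma.not_sigma_rank_two hG hI.uniq hM hp hps, h1⟩)
    · exact BGSigma.prankLE_of_not_dvd hp hd
  suffices hcomm : Group.IsNilpotent E from
    BGTwelve.isCyclic_of_nilpotent_rankLE_one hcomm (BGSigma.odd_card_subgroup hG E) hr1
  -- the factorisation of `M*`
  set K₂ := sigmaCore N ⊓ centralizer (K : Set G) with hK₂
  have hK₂1 : K₂ ≠ ⊥ := (h.kappa_star N d.coatom K d.decomp.cyclic d.decomp.hall).1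
  have hK₂c := (h.kappa_hall Ms d.star_coatom).2 _ d.star_hall
  obtain ⟨⟨U₂, hKU₂⟩, hVn⟩ := h.decomp Ms d.star_coatom K₂ hK₂c d.star_hall
  replace hVn := hVn U₂ hKU₂
  set V := U₂ ⊔ sigmaCore Ms with hV
  have hVM : V ≤ Ms := sup_le hKU₂.compl.1 (sigmaCore_le Ms)
  have hKV : K ≤ V := d.le_star_sigma.trans le_sup_right
  have hK₂K : K₂ ≤ centralizer (K : Set G) := inf_le_right
  have hVK₂ : V ⊓ K₂ = ⊥ := by
    refine le_bot_iff.mp fun y hy => ?_
    have hy1 : y ∈ sigmaCore Ms ⊔ U₂ := by rw [sup_comm]; exact hy.1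
    obtain ⟨n, hn, u, hu, rfl⟩ := Coprime.exists_mul_of_mem_sup
      (hKU₂.compl.1.trans (le_normalizer_sigmaCore Ms)) hy1
    have hu' : u ∈ U₂ ⊓ (K₂ ⊔ sigmaCore Ms) := ⟨hu, by
      have := (K₂ ⊔ sigmaCore Ms).mul_mem
        ((K₂ ⊔ sigmaCore Ms).inv_mem (mem_sup_right hn : n ∈ K₂ ⊔ sigmaCore Ms))
        (mem_sup_left hy.2 : n * u ∈ K₂ ⊔ sigmaCore Ms)
      rwa [inv_mul_cancel_left] at this⟩
    rw [hKU₂.compl.2.2.1, mem_bot] at hu'
    subst hu'
    rw [mul_one] at hy ⊢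
    exact (Loc.inf_sigma_K hKU₂).le ⟨hy.2, hn⟩
  have hVc : ∀ m ∈ Ms, ∀ v ∈ V, m * v * m⁻¹ ∈ V := fun m hm v hv =>
    (mem_normalizer_iff.mp (hVn hm) v).mp hv
  have hsup : ∀ m ∈ Ms, ∃ v ∈ V, ∃ k ∈ K₂, m = v * k := fun m hm => by
    obtain ⟨u, hu, z, hz, rfl⟩ := hKU₂.compl.2.2.2 m hm
    have hm' : u * z ∈ V ⊔ K₂ := mul_mem (mem_sup_left (mem_sup_left hu))
      ((sup_le le_sup_right (le_sup_right.trans le_sup_left) : K₂ ⊔ sigmaCore Ms ≤ V ⊔ K₂) hz)
    obtain ⟨v, hv, k, hk, hvk⟩ :=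
      Coprime.exists_mul_of_mem_sup (hKU₂.hall.1.trans hVn) hm'
    exact ⟨v, hv, k, hk, hvk⟩
  have hfixV : ∀ k ∈ K₂, k ≠ 1 → V ⊓ centralizer ({k} : Set G) ≤ K := by
    intro k hk hk1 y hy
    have hC := (h.kappa_star Ms d.star_coatom K₂ hK₂c d.star_hall).2 hK₂1 k hk hk1
    rw [hK₂, d.star_eq'] at hC
    rw [← hK₂] at hC
    have hy' : y ∈ K₂ ⊔ K := hC.le ⟨hVM hy.1, hy.2⟩
    obtain ⟨a, ha, b, hb, rfl⟩ := Coprime.exists_mul_of_mem_sup
      ((le_centralizer_iff.mp hK₂K).trans (centralizer_le_normalizer _)) hy'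
    have ha1 : a ∈ V ⊓ K₂ := ⟨((V.mul_mem_cancel_right (hKV hb)).mp hy.1), ha⟩
    rw [hVK₂, mem_bot] at ha1
    rw [ha1, one_mul]; exact hb
  obtain ⟨l₀, k₀, hl₀, hk₀, hk₀o⟩ : ∃ (l : ℕ) (k : G), l.Prime ∧ k ∈ K₂ ∧ orderOf k = l := by
    obtain ⟨l, hl, k, hk, hko⟩ := BGSigma.exists_prime_line hK₂1
    exact ⟨l, k, hl, hk, hko⟩
  have hk₀1 : k₀ ≠ 1 := fun h0 => hl₀.ne_one (by rw [← hk₀o, h0, orderOf_one])
  have hl₀q : l₀ ≠ Nat.card K := fun h0 =>
    (d.star_hall.2.1 l₀ hl₀ (hk₀o ▸ Subgroup.orderOf_dvd_natCard _ hk₀)).2.2.1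
      (h0 ▸ d.mem_sigma_star hG h)
  have hk₀K : k₀ ∈ centralizer (K : Set G) := hK₂K hk₀
  -- `E` centralizes `K`
  have hEn : E ≤ normalizer (K : Set G) := by
    have hKc : K ≤ BGUniq.core (Nat.card K) E := fun x hx => by
      obtain ⟨j, hj⟩ := IsPGroup.iff_orderOf.1 hKp ⟨x, hx⟩
      rw [Subgroup.orderOf_mk] at hj
      exact BGUniq.mem_core_of_mem_fittingOf (hKF hx) hj
    haveI := BGSigma.isCyclic_of_prankLE_one hG (hr1 _ hqp) (BGUniq.isPGroup_core (Nat.card K) E)
      (BGUniq.core_le _ E)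
    exact (BGUniq.le_normalizer_core (Nat.card K) E).trans
      (BGTwelve.normalizer_le_of_isCyclic inferInstance hKc)
  have hnV : ∀ v ∈ V, v ∈ normalizer (K : Set G) → v ∈ centralizer (K : Set G) := by
    intro v hv hvn
    set X := V ⊓ normalizer (K : Set G) with hX
    set W := zpowers k₀ with hW
    have hWX : W ≤ normalizer (X : Set G) := zpowers_le.mpr <|
      Coprime.le_normalizer_inf (A := K₂) (hKU₂.hall.1.trans hVn)
        (hK₂K.trans ((centralizer_le_normalizer _).trans le_normalizer)) hk₀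
    have hco : (Nat.card W).Coprime (Nat.card X) := by
      rw [hW, Nat.card_zpowers, hk₀o]
      refine hl₀.coprime_iff_not_dvd.mpr fun hd => ?_
      haveI := Fact.mk hl₀
      obtain ⟨y, hy⟩ := exists_prime_orderOf_dvd_card' l₀ hd
      obtain ⟨m, hm, hmK⟩ := BGSummary.exists_conj_mem_hall d.star_hall
        (d.star_hall.2.1 l₀ hl₀ (hk₀o ▸ Subgroup.orderOf_dvd_natCard _ hk₀))
        (hVM y.2.1) (n := 1) (by rw [Subgroup.orderOf_coe, hy, pow_one])
      have h1 : m * (y : G) * m⁻¹ ∈ V ⊓ K₂ :=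
        ⟨hVc m hm _ y.2.1, hmK⟩
      rw [hVK₂, mem_bot, conj_eq_one_iff] at h1
      rw [← Subgroup.orderOf_coe, h1, orderOf_one] at hy
      exact hl₀.ne_one hy.symm
    have h1 := Coprime.commutator_sup_centralizer W X hWX hco (Or.inl inferInstance)
    refine ((h1.ge.trans (sup_le ?_ ?_)) ⟨hv, hvn⟩ : v ∈ centralizer (K : Set G))
    · rw [commutator_le]
      intro a ha b hb
      have hbC : b ∈ centralizer (K : Set G) := zpowers_le.mpr hk₀K hb
      exact mul_mem ((mem_normalizer_iff.mp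
        (Coprime.le_normalizer_centralizer (le_refl _) ha.2) b).mp hbC) (inv_mem hbC)
    · refine (inf_le_inf inf_le_left le_rfl).trans ?_
      rw [hW, Loc.centralizer_zpowers]
      exact (hfixV k₀ hk₀ hk₀1).trans (le_centralizer_self_of_comm inferInstance)
  have hEC : E ≤ centralizer (K : Set G) := fun e he => by
    obtain ⟨v, hv, k, hk, rfl⟩ := hsup e he.2
    have hkn : k ∈ normalizer (K : Set G) := centralizer_le_normalizer _ (hK₂K hk)
    exact mul_mem (hnV v hv ((Subgroup.mul_mem_cancel_right _ hkn).mp (hEn he))) (hK₂K hk)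
  -- `C_V(K)` is nilpotent, so `E ⊓ V` is cyclic
  set C := V ⊓ centralizer (K : Set G) with hC
  have hCnil : Group.IsNilpotent C := by
    have hkn : k₀ ∈ normalizer (C : Set G) := Coprime.le_normalizer_inf (A := K₂)
      (hKU₂.hall.1.trans hVn) (hK₂K.trans le_normalizer) hk₀
    let φ : C ≃* C := (C.normalizerMonoidHom ⟨k₀, hkn⟩)
    have hKC : K ≤ C := le_inf hKV (le_centralizer_self_of_comm inferInstance)
    set Z := K.subgroupOf C with hZ
    have hZc : Z ≤ center C := fun z hz => mem_center_iff.mpr fun g =>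
      Subtype.ext (mem_centralizer_iff.mp g.2.2 (z : G) hz).symm
    haveI : Z.Normal := ⟨fun z hz g => by
      rw [mem_center_iff.mp (hZc hz) g, mul_inv_cancel_right]; exact hz⟩
    have hφZ : ∀ z ∈ Z, φ z = z := fun z hz => Subtype.ext (by
      show k₀ * (z : G) * k₀⁻¹ = z
      rw [← mem_centralizer_iff.mp hk₀K (z : G) hz, mul_inv_cancel_right])
    have hmapZ : Z.map φ.toMonoidHom = Z := by
      ext z
      exact ⟨fun ⟨w, hw, hwz⟩ => hwz ▸ (hφZ w hw).symm ▸ hw, fun hz => ⟨z, hz, hφZ z hz⟩⟩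
    have hφl : φ ^ l₀ = 1 := by
      show (C.normalizerMonoidHom ⟨k₀, hkn⟩) ^ l₀ = 1
      rw [← map_pow]
      refine (congrArg _ (Subtype.ext ?_)).trans (map_one _)
      show k₀ ^ l₀ = 1
      rw [← hk₀o]; exact pow_orderOf_eq_one k₀
    let ψ := QuotientGroup.congr Z Z φ hmapZ
    have hψ : ∀ n : ℕ, ∀ g : C, (ψ ^ n) (g : C ⧸ Z) = ((φ ^ n) g : C ⧸ Z) := by
      intro n
      induction n with
      | zero => intro g; rfl
      | succ n ih => intro g; rw [pow_succ', pow_succ', MulAut.mul_apply, MulAut.mul_apply, ih]; rfl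
    haveI : Group.IsNilpotent (C ⧸ Z) := by
      refine Frobenius.isNilpotent_of_fixedPointFree _ ψ (fun x => ?_) hl₀ ?_
      · induction x using QuotientGroup.induction_on with
        | H g =>
          intro hg
          have hz : g⁻¹ * φ g ∈ Z := QuotientGroup.eq.mp hg.symm
          set z := g⁻¹ * φ g with hz'
          have hgz : φ g = g * z := by rw [hz', mul_inv_cancel_left]
          have hn : ∀ n : ℕ, (φ ^ n) g = g * z ^ n := by
            intro n
            induction n with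
            | zero => simp
            | succ n ih =>
              rw [pow_succ', MulAut.mul_apply, ih, map_mul, map_pow, hgz, hφZ z hz, mul_assoc,
                ← pow_succ']
          have hzl : z ^ l₀ = 1 := by
            have := hn l₀
            rwa [hφl, MulAut.one_apply, left_eq_mul] at this
          have hz1 : z = 1 := by
            refine Subtype.ext (orderOf_eq_one_iff.mp (Nat.dvd_one.mp ?_))
            rw [← ((Nat.coprime_primes hl₀ hqp).mpr hl₀q).gcd_eq_one]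
            exact Nat.dvd_gcd (orderOf_dvd_of_pow_eq_one (congrArg Subtype.val hzl))
              (Subgroup.orderOf_dvd_natCard _ hz)
          rw [hz1, mul_one] at hgz
          have hgc : (g : G) ∈ centralizer ({k₀} : Set G) := mem_centralizer_singleton_iff.mpr
            (mul_inv_eq_iff_eq_mul.mp (congrArg Subtype.val hgz : k₀ * (g : G) * k₀⁻¹ = g)).symm
          exact (QuotientGroup.eq_one_iff g).mpr (hfixV k₀ hk₀ hk₀1 ⟨g.2.1, hgc⟩)
      · refine MulEquiv.ext fun x => ?_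
        induction x using QuotientGroup.induction_on with
        | H g => rw [hψ, hφl]; rfl
    exact Subgroup.isNilpotent_of_ker_le_center (QuotientGroup.mk' Z)
      (by rw [QuotientGroup.ker_mk']; exact hZc)
  have hEV : E ⊓ V ≤ C := le_inf inf_le_right (inf_le_left.trans hEC)
  haveI hEVc : IsCyclic ↥(E ⊓ V) := BGTwelve.isCyclic_of_nilpotent_rankLE_one
    (by haveI := hCnil; exact Group.nilpotent_of_mulEquiv (subgroupOfEquivOfLe hEV))
    (BGSigma.odd_card_subgroup hG _) fun p hp => BGSigma.prankLE_subgroup inf_le_left (hr1 p hp)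
  by_cases hcop : (Nat.card E).Coprime (Nat.card K₂)
  · have hle : E ≤ V := by
      refine BGSigma.le_of_coprime_relIndex hVM hVn inf_le_right ?_
      refine hcop.coprime_dvd_right ?_
      have hsup' : Ms = K₂ ⊔ V := le_antisymm (fun g hg => by
        obtain ⟨v, hv, k, hk, rfl⟩ := hsup g hg
        exact mul_mem (mem_sup_right hv) (mem_sup_left hk)) (sup_le hKU₂.hall.1 hVM)
      conv_lhs => arg 2; rw [hsup']
      rw [Coprime.relIndex_sup_of_le_normalizer (hKU₂.hall.1.trans hVn), ← inf_relIndex_right,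
        hVK₂, relIndex_bot_left]
    rw [← inf_eq_left.mpr hle]
    open scoped IsMulCommutative in infer_instance
  -- an element of order `l ∈ κ(M*)` centralizes `E ⊓ V`, which is then `K`
  obtain ⟨l, hl, hlE, hlK⟩ := Nat.Prime.not_coprime_iff_dvd.mp hcop
  haveI := Fact.mk hl
  obtain ⟨⟨f, hfE⟩, hfo⟩ := exists_prime_orderOf_dvd_card' (G := E) l hlE
  rw [Subgroup.orderOf_mk] at hfo
  have hf1 : f ≠ 1 := fun h0 => hl.ne_one (by rw [← hfo, h0, orderOf_one])
  have hfpf : Frobenius.IsFPF E (sigmaCore M) := ⟨BGTwelve.compl_le_normalizer hE, hreg⟩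
  have hσ1 : sigmaCore M ≠ ⊥ := BGSigma.sigmaCore_ne_bot hG hI.uniq BGSigma.smallRankFrattini
    BGSigma.fittingRankTwoDerived BGSigma.rankTwoLargestPrime hM
  obtain ⟨m, hm, hmK⟩ := BGSummary.exists_conj_mem_hall d.star_hall (d.star_hall.2.1 l hl hlK)
    hfE.2 (n := 1) (by rw [hfo, pow_one])
  have hm1 : m * f * m⁻¹ ≠ 1 := fun h0 => hf1 (conj_eq_one_iff.mp h0)
  have hfV : f ∉ V := fun h0 => hm1 (Subgroup.mem_bot.mp (hVK₂.le
    ⟨hVc m hm _ h0, hmK⟩))
  set F := zpowers f with hF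
  have hFc : Nat.card F = l := by rw [hF, Nat.card_zpowers, hfo]
  have hFn : F ≤ normalizer ((E ⊓ V : Subgroup G) : Set G) := Coprime.le_normalizer_inf
    ((zpowers_le.mpr hfE).trans le_normalizer) ((zpowers_le.mpr hfE.2).trans hVn)
  have hlV : ¬ l ∣ Nat.card ↥(E ⊓ V) := fun hd => by
    obtain ⟨y, hy⟩ := exists_prime_orderOf_dvd_card' l hd
    obtain ⟨m', hm', hm'K⟩ := BGSummary.exists_conj_mem_hall d.star_hall
      (d.star_hall.2.1 l hl hlK) y.2.1.2 (n := 1) (by rw [Subgroup.orderOf_coe, hy, pow_one])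
    have h1 : m' * (y : G) * m'⁻¹ ∈ V ⊓ K₂ :=
      ⟨hVc m' hm' _ y.2.2, hm'K⟩
    rw [hVK₂, mem_bot, conj_eq_one_iff] at h1
    rw [← Subgroup.orderOf_coe, h1, orderOf_one] at hy
    exact hl.ne_one hy.symm
  haveI : IsMulCommutative ↥(E ⊓ V) := inferInstance
  have hcoF : (Nat.card F).Coprime (Nat.card ↥(E ⊓ V)) :=
    hFc.symm ▸ hl.coprime_iff_not_dvd.mpr hlV
  have hfc : F ≤ centralizer ((E ⊓ V : Subgroup G) : Set G) := by
    by_contra hc
    have hne : ⁅E ⊓ V, F⁆ ≠ ⊥ := fun h0 => hc (le_centralizer_iff.mp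
      (commutator_eq_bot_iff_le_centralizer.mp h0))
    obtain ⟨w, hw, y, hy, hyo⟩ := BGSigma.exists_prime_line hne
    haveI := Fact.mk hw
    have hyV : y ∈ E ⊓ V := Coprime.commutator_le_of_le_normalizer hFn hy
    have hwl : w ≠ l := fun h0 => hlV (h0 ▸ hyo ▸ Subgroup.orderOf_dvd_natCard _ hyV)
    have hyn : f * y * f⁻¹ ∈ zpowers y := mem_zpowers_of_orderOf_eq hEVc hyV
      ((mem_normalizer_iff.mp (hFn (mem_zpowers f)) y).mp hyV) (Loc.orderOf_conj f y).symm
    have hcm := hfpf.commute_of_prime_orders hσ1 hw hl hwl hyV.1 hfE hyo hfo hyn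
    have h2 : y ∈ ⁅E ⊓ V, F⁆ ⊓ centralizer (F : Set G) := ⟨hy, by
      rw [hF, Loc.centralizer_zpowers]; exact mem_centralizer_singleton_iff.mpr hcm.eq⟩
    rw [Coprime.commutator_inf_centralizer_eq_bot F (E ⊓ V) hFn hcoF, mem_bot] at h2
    exact hw.ne_one (by rw [← hyo, h2, orderOf_one])
  have hEVK : E ⊓ V = K := by
    have hle : (E ⊓ V).map (MulAut.conj m).toMonoidHom ≤ K := by
      rintro _ ⟨z, hz, rfl⟩
      exact hfixV _ hmK hm1 ⟨hVc m hm _ hz.2,
        BGTwelve.conj_mem_centralizer_iff.mpr (mem_centralizer_singleton_iff.mpr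
          (mem_centralizer_iff.mp (hfc (mem_zpowers f)) z hz))⟩
    have hcard := card_dvd_of_le hle
    rw [BGSigma.card_map_conj] at hcard
    exact (eq_of_le_of_card_ge (le_inf hKE hKV) (Nat.le_of_dvd Nat.card_pos hcard)).symm
  haveI : (V.subgroupOf Ms).Normal := (normal_subgroupOf_iff_le_normalizer hVM).mpr hVn
  haveI : IsMulCommutative (↥Ms ⧸ V.subgroupOf Ms) := by
    haveI := hK₂c
    have hπ : ∀ x : ↥Ms ⧸ V.subgroupOf Ms, ∃ k : K₂,
        (QuotientGroup.mk' (V.subgroupOf Ms)) (Subgroup.inclusion hKU₂.hall.1 k) = x := by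
      intro x
      induction x using QuotientGroup.induction_on with
      | H g =>
        obtain ⟨v, hv, k, hk, hvk⟩ := hsup g g.2
        refine ⟨⟨k, hk⟩, QuotientGroup.eq.mpr (mem_subgroupOf.mpr ?_)⟩
        show k⁻¹ * (g : G) ∈ V
        rw [hvk, ← mul_assoc]
        simpa using hVc k⁻¹ (inv_mem (hKU₂.hall.1 hk)) v hv
    refine ⟨⟨fun x y => ?_⟩⟩
    obtain ⟨a, rfl⟩ := hπ x
    obtain ⟨b, rfl⟩ := hπ y
    rw [← map_mul, ← map_mul, ← map_mul, ← map_mul, mul_comm' a b]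
  haveI : Group.IsNilpotent (↥Ms ⧸ V.subgroupOf Ms) := by
    open scoped IsMulCommutative in infer_instance
  refine Subgroup.isNilpotent_of_ker_le_center
    ((QuotientGroup.mk' (V.subgroupOf Ms)).comp (Subgroup.inclusion (inf_le_right : E ≤ Ms))) ?_
  intro z hz
  rw [MonoidHom.mem_ker, MonoidHom.comp_apply, QuotientGroup.mk'_apply, QuotientGroup.eq_one_iff,
    mem_subgroupOf] at hz
  have hzK : (z : G) ∈ K := hEVK.le ⟨z.2, hz⟩
  exact mem_center_iff.mpr fun g => Subtype.ext (mem_centralizer_iff.mp (hEC g.2) _ hzK).symm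

end Cfsg.Agent.BGSummary.Support
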