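import Cfsg.Agent.BGSummary.SupportTools
import Cfsg.Agent.BGTwelve.FittingSigma

/-!
# S1435: the maximal subgroup over `N(R)` for a Sylow subgroup `R` of `U` in type `P2`
-/

set_option autoImplicit false
set_option linter.unusedSectionVars false
set_option linter.style.haveILetI false
set_option linter.unusedVariables false

namespace Cfsg.Agent.BGSummary.Support

open Cfsg Subgroup
open scoped commutatorElement
open Cfsg.Agent.BGSigma (sigmaCore_le le_normalizer_sigmaCore isPiSub_sigmaCore localInputs centralizer_anti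
  le_centralizer_self_of_comm)

universe u

variable {G : Type u} [Group G] [Finite G]

/-- The data of type `P2`: `K` and `U` nontrivial and `M*`. -/
structure P2Data (M K U Ms : Subgroup G) : Prop where
  coatom : IsCoatom M
  decomp : IsSigmaDecomposition M K U
  K_ne : K ≠ ⊥
  U_ne : U ≠ ⊥
  star_coatom : IsCoatom Ms
  star_eq : K = sigmaCore Ms ⊓
    centralizer ((sigmaCore M ⊓ centralizer (K : Set G)) : Set G)
  star_hall : IsPiHallOf (kappa Ms) (sigmaCore M ⊓ centralizer (K : Set G)) Ms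

variable (hG : IsMinSimpleOddOrder G) (h : LocalStructure G) {M K U Ms : Subgroup G}
  (d : P2Data M K U Ms)
include hG h d

theorem P2Data.prime : (Nat.card K).Prime :=
  Loc.prime_K hG h d.coatom d.decomp d.K_ne d.U_ne

omit hG h in
theorem P2Data.le_star_sigma : K ≤ sigmaCore Ms := d.star_eq.le.trans inf_le_left

theorem P2Data.mem_sigma_star : Nat.card K ∈ sigma Ms :=
  isPiSub_sigmaCore Ms _ (d.prime hG h) (card_dvd_of_le d.le_star_sigma)

theorem P2Data.centralizer_K :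
    centralizer (K : Set G) ≤ Ms ∧
      ∀ L : Subgroup G, IsCoatom L → centralizer (K : Set G) ≤ L → L = Ms :=
  (h.star_uniq M d.coatom K U d.decomp d.K_ne Ms d.star_coatom d.star_eq d.star_hall).2 K le_rfl
    (d.prime hG h)

theorem P2Data.not_sigma : Nat.card K ∉ sigma M :=
  (d.decomp.hall.2.1 _ (d.prime hG h) dvd_rfl).2.2.1

/-- A maximal subgroup containing `K` with `|K|` in its `σ` is `M*`. -/
theorem P2Data.eq_star {L : Subgroup G} (hL : IsCoatom L) (hKL : K ≤ L)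
    (hq : Nat.card K ∈ sigma L) : L = Ms := by
  haveI := Fact.mk (d.prime hG h)
  exact BGSigma.eq_of_sigma_line hG d.star_coatom hL (d.mem_sigma_star hG h) hq rfl
    (d.centralizer_K hG h).1 hKL

/-- A maximal subgroup containing `K` outside its `σ` with fixed points is conjugate to `M`. -/
theorem P2Data.conj_of_fixed {L : Subgroup G} (hL : IsCoatom L) (hKL : K ≤ L)
    (hq : Nat.card K ∉ sigma L) (hne : sigmaCore L ⊓ centralizer (K : Set G) ≠ ⊥) :
    ∃ g : G, L = M.map (MulAut.conj g).toMonoidHom := by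
  have hqp := d.prime hG h
  haveI := Fact.mk hqp
  have hI := localInputs hG
  by_cases hr1 : PRankLE (Nat.card K) 1 L
  · obtain ⟨g, hg | hg⟩ :=
      (h.star_class M d.coatom K U d.decomp d.K_ne Ms d.star_coatom d.star_eq d.star_hall).2 L hL
        ⟨_, (BGSigma.mem_kappa_iff hG hL).2 ⟨hqp, hq, hr1, K, hKL, rfl, hne⟩⟩
    · exact ⟨g, hg⟩
    · exact absurd (hg ▸ BGSigma.sigma_conj_iff.mpr (d.mem_sigma_star hG h)) hq
  · exfalso
    have h2 : Nat.card K ∈ Cfsg.tau2 L :=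
      ⟨hqp, hq, BGSigma.not_sigma_rank_two hG hI.uniq hL hqp hq, hr1⟩
    obtain ⟨E, hE, hKE⟩ := BGSigma.exists_compl_ge hG hL hKL fun l hl hd =>
      ((Nat.prime_dvd_prime_iff_eq hl hqp).mp hd) ▸ hq
    obtain ⟨A, hA⟩ := BGTwelve.exists_sq_le_compl hG hL hE h2
    obtain ⟨-, hu⟩ := (BGTwelve.tau_two_compl_stmt hG hI hL hE h2 hA).2.2 K
      (BGTwelve.le_sq_of_card hG hI hL hE h2 hA hKE rfl) rfl hne
    have hC := d.centralizer_K hG h
    exact hq ((hu Ms d.star_coatom hC.1) ▸ d.mem_sigma_star hG h)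

/-- `K` centralizes the `τ₂`-planes of a complement through it, without fixed points on the core. -/
theorem P2Data.le_centralizer_plane {H E A : Subgroup G} (hH : IsCoatom H)
    (hE : IsComplIn E (sigmaCore H) H) (hKE : K ≤ E) (hq : Nat.card K ∉ sigma H)
    (hfix : sigmaCore H ⊓ centralizer (K : Set G) = ⊥) {t : ℕ} [ht : Fact t.Prime]
    (ht2 : t ∈ Cfsg.tau2 H) (hA : A ≤ E ∧ IsElementaryAbelian t A ∧ Nat.card A = t ^ 2) :
    K ≤ centralizer (A : Set G) := by
  by_contra hK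
  have hqp := d.prime hG h
  haveI := Fact.mk hqp
  haveI := hA.2.1.1
  have hI := localInputs hG
  have hqt : Nat.card K ≠ t := fun h0 => hK
    ((BGTwelve.le_sq_of_card hG hI hH hE ht2 hA hKE h0).trans
      (le_centralizer_self_of_comm inferInstance))
  have hEA := BGTwelve.compl_le_normalizer_sq hG hI hH hE ht2 hA
  have hKA : K ≤ normalizer (A : Set G) := hKE.trans hEA
  have hco : (Nat.card K).Coprime (Nat.card A) := by
    rw [hA.2.2]; exact ((Nat.coprime_primes hqp ht.out).2 hqt).pow_right 2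
  have h1 : ⁅A, K⁆ ≤ centralizer (sigmaCore H : Set G) :=
    BGSigma.commutator_le_centralizer_core hG hH ((sup_le hA.1 hKE).trans hE.1)
      (fun l hl hd => BGTwelve.not_mem_sigma_of_dvd hG hH hE hl
        (hd.trans (card_dvd_of_le (sup_le hA.1 hKE)))) hKA hqp hco.symm (hfix.le.trans bot_le)
  have hsplit := Coprime.commutator_sup_centralizer K A hKA hco
    (Or.inr (Coprime.solvable_of_le (hA.1.trans hE.1) (BGSigma.coatom_isSolvable hG hH)))
  set A₀ := ⁅A, K⁆ with hA₀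
  have hA₀A : A₀ ≤ A := Coprime.commutator_le_of_le_normalizer hKA
  have hA₀1 : A₀ ≠ ⊥ := fun h0 => hK (by
    rw [h0, bot_sup_eq] at hsplit
    exact le_centralizer_iff.mp (hsplit.ge.trans inf_le_right))
  obtain ⟨-, -, -, hfA, -⟩ := BGSigma.tau_two_stmt hG hI H hH ht2 A ⟨hA.1.trans hE.1, hA.2⟩
  have hσ1 : sigmaCore H ≠ ⊥ := BGSigma.sigmaCore_ne_bot hG hI.uniq BGSigma.smallRankFrattini
    BGSigma.fittingRankTwoDerived BGSigma.rankTwoLargestPrime hH
  have hA₀ne : A₀ ≠ A := fun h0 => hσ1 (by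
    rw [← hfA, inf_eq_left.mpr (le_centralizer_iff.mp (h0 ▸ h1))])
  have hA₀c : Nat.card A₀ = t := by
    obtain ⟨i, hi2, hi⟩ := (Nat.dvd_prime_pow ht.out).mp (hA.2.2 ▸ card_dvd_of_le hA₀A)
    interval_cases i
    · exact absurd (eq_bot_of_card_eq _ hi) hA₀1
    · simpa using hi
    · exact absurd (eq_of_le_of_card_ge hA₀A (hi.trans hA.2.2.symm).ge) hA₀ne
  obtain ⟨hC0, huH⟩ := (BGTwelve.tau_two_compl_stmt hG hI hH hE ht2 hA).2.2 A₀ hA₀A hA₀c (by
    rw [inf_eq_left.mpr (le_centralizer_iff.mp h1)]; exact hσ1)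
  have hA1 : A ≠ ⊥ := fun h0 => hA₀1 (le_bot_iff.mp (h0 ▸ hA₀A))
  obtain ⟨L, hL, hNL⟩ := BGSigma.exists_coatom_ge hG (BGSigma.normalizer_ne_top hG hA1
    (BGSigma.isCoatom_ne_top hH (hA.1.trans hE.1)))
  have htL : t ∈ sigma L := BGSigma.tau2_subset_sigma hG hH hE ht2 hA hL hNL ht2
  have hKL : K ≤ L := hKA.trans hNL
  have hAσ : A ≤ sigmaCore L := BGSigma.le_sigmaCore_of_pgroup hG hL htL
    (IsPGroup.of_card hA.2.2) (le_normalizer.trans hNL)
  by_cases hqL : Nat.card K ∈ sigma L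
  · obtain rfl := d.eq_star hG h hL hKL hqL
    obtain ⟨⟨-, hu⟩, -⟩ := h.beta_uniq L hL t htL A₀ (hA₀A.trans (le_normalizer.trans hNL)) hA₀c
      default (Or.inr (commutator_mono hAσ d.le_star_sigma))
    exact hq (hu H hH hC0 ▸ d.mem_sigma_star hG h)
  · have hne : sigmaCore L ⊓ centralizer (K : Set G) ≠ ⊥ := fun h0 => by
      have h2 : A ⊓ centralizer (K : Set G) = ⊥ :=
        le_bot_iff.mp ((inf_le_inf_right _ hAσ).trans h0.le)
      rw [h2, sup_bot_eq] at hsplit
      exact hA₀ne hsplit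
    obtain ⟨g, hg⟩ := d.conj_of_fixed hG h hL hKL hqL hne
    have htM : t ∈ sigma M := BGSigma.sigma_of_conj (hg ▸ htL)
    exact (BGSigma.not_ideal_of_rank_two hG hI.uniq hH ht2.2.2.1 ht2.2.2.2).1
      (Loc.mem_beta_of_sigma hG h d.coatom d.decomp d.K_ne d.U_ne htM).2

variable {r : ℕ} [hrp : Fact r.Prime] (hr : r ∣ Nat.card U) (R : Sylow r U)
include hr

/-- `R` is a Sylow subgroup of `M`. -/
theorem P2Data.exists_sylow :
    ∃ S : Sylow r M, (S : Subgroup M).map M.subtype = (R : Subgroup U).map U.subtype := by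
  set R₀ := (R : Subgroup U).map U.subtype with hR₀
  have hUH := Loc.isPiHallOf_U hG h d.coatom d.decomp
  have hd : ¬ r ∣ R₀.relIndex M := by
    rw [← relIndex_mul_relIndex R₀ U M (map_subtype_le _) d.decomp.compl.1]
    intro h0
    rcases hrp.out.dvd_mul.mp h0 with h1 | h1
    · rw [Subgroup.relIndex, hR₀, subgroupOf, comap_map_eq_self_of_injective U.subtype_injective]
        at h1
      exact R.not_dvd_index h1
    · exact hUH.2.2 r hrp.out ⟨hrp.out,
        (Loc.not_mem_of_dvd_U hG d.coatom d.decomp hrp.out hr).symm⟩ h1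
  refine ⟨((R.isPGroup'.map U.subtype).comap_subtype (K := M)).toSylow hd, ?_⟩
  exact map_subgroupOf_eq_of_le ((map_subtype_le _).trans d.decomp.compl.1)

theorem P2Data.not_sigma_r : r ∉ sigma M :=
  (Loc.not_mem_of_dvd_U hG d.coatom d.decomp hrp.out hr).1

omit hr in
/-- `U ⊔ K` normalizes `R`, and `U` centralizes it. -/
theorem P2Data.le_normalizer_R :
    U ⊔ K ≤ normalizer ((((R : Subgroup U).map U.subtype : Subgroup G)) : Set G) ∧
      U ≤ centralizer ((((R : Subgroup U).map U.subtype : Subgroup G)) : Set G) := by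
  set R₀ := (R : Subgroup U).map U.subtype with hR₀
  have hR₀U : R₀ ≤ U := map_subtype_le _
  haveI := Loc.abelian_U hG h d.coatom d.decomp d.K_ne
  have hUC : U ≤ centralizer (R₀ : Set G) :=
    (le_centralizer_self_of_comm inferInstance).trans (centralizer_anti hR₀U)
  refine ⟨sup_le (hUC.trans (centralizer_le_normalizer _))
    (Coprime.le_normalizer_of_conj_mem fun k hk x hx => ?_), hUC⟩
  have hyU : k * x * k⁻¹ ∈ U :=
    (mem_normalizer_iff.mp (d.decomp.normal hk) x).mp (hR₀U hx)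
  have hRp : IsPGroup r R₀ := R.isPGroup'.map _
  have hyp : IsPGroup r (zpowers (k * x * k⁻¹)) := by
    obtain ⟨j, hj⟩ := IsPGroup.iff_orderOf.1 hRp ⟨x, hx⟩
    rw [Subgroup.orderOf_mk] at hj
    exact IsPGroup.of_card (by rw [Nat.card_zpowers, Loc.orderOf_conj, hj])
  have hsup : IsPGroup r ↥(R₀ ⊔ zpowers (k * x * k⁻¹)) := IsPGroup.to_sup_of_normal_left' hRp hyp
    ((zpowers_le.mpr hyU).trans (hUC.trans (centralizer_le_normalizer _)))
  have heq := R.is_maximal' (hsup.comap_subtype (K := U)) fun z hz =>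
    show (z : G) ∈ R₀ ⊔ zpowers (k * x * k⁻¹) from mem_sup_left ⟨z, hz, rfl⟩
  exact ⟨⟨_, hyU⟩, heq.le (show (⟨_, hyU⟩ : U) ∈ _ from
    mem_sup_right (mem_zpowers _)), rfl⟩

theorem P2Data.R_ne_bot : (R : Subgroup U).map U.subtype ≠ ⊥ := fun h0 =>
  R.ne_bot_of_dvd_card hr ((map_eq_bot_iff_of_injective _ U.subtype_injective).mp h0)

/-- Only the identity of `M_σ` centralizes `R`. -/
theorem P2Data.fixed_R : sigmaCore M ⊓
    centralizer ((((R : Subgroup U).map U.subtype : Subgroup G)) : Set G) = ⊥ := by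
  obtain ⟨S, hS⟩ := d.exists_sylow hG h hr R
  obtain ⟨hs, hk⟩ := Loc.not_mem_of_dvd_U hG d.coatom d.decomp hrp.out hr
  have hrM : r ∣ Nat.card M := hr.trans (card_dvd_of_le d.decomp.compl.1)
  obtain ⟨-, hf, -⟩ := h.p1_context M d.coatom (fun hP1 => hk (hP1 r hrp.out hrM hs)) r hrM
    (by simp [hs, hk]) S
  exact le_bot_iff.mp ((inf_le_inf_left _ (centralizer_le ((closure_le _).mpr
    fun x hx => hS ▸ hx.1))).trans hf.le)

theorem P2Data.normalizer_not_le :
    ¬ normalizer ((((R : Subgroup U).map U.subtype : Subgroup G)) : Set G) ≤ M := fun hle => by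
  obtain ⟨S, hS⟩ := d.exists_sylow hG h hr R
  exact d.not_sigma_r hG h hr
    ⟨hrp.out, hr.trans (card_dvd_of_le d.decomp.compl.1), S, hS.symm ▸ hle⟩

variable {H : Subgroup G} (hH : IsCoatom H)
  (hNR : normalizer ((((R : Subgroup U).map U.subtype : Subgroup G)) : Set G) ≤ H)
include hH hNR

theorem P2Data.ne_M : H ≠ M := fun h0 => d.normalizer_not_le hG h hr R (h0 ▸ hNR)

/-- Step 1: `r ∈ σ(H)`. -/
theorem P2Data.mem_sigma_H : r ∈ sigma H := by
  by_contra hrH
  have hI := localInputs hG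
  have hqp := d.prime hG h
  haveI := Fact.mk hqp
  set R₀ := (R : Subgroup U).map U.subtype with hR₀
  have hR₀U : R₀ ≤ U := map_subtype_le _
  have hR₀H : R₀ ≤ H := le_normalizer.trans hNR
  have hRp : IsPGroup r R₀ := R.isPGroup'.map _
  have hR₀1 := d.R_ne_bot hG h hr R
  obtain ⟨hn, -⟩ := d.le_normalizer_R hG h R
  have hKn : K ≤ normalizer (R₀ : Set G) := le_sup_right.trans hn
  have hKH : K ≤ H := hKn.trans hNR
  have hrdH : r ∣ Nat.card H := (BGSigma.dvd_card_of_ne_bot hRp hR₀1).trans (card_dvd_of_le hR₀H)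
  obtain ⟨T, hT⟩ := (hRp.comap_subtype (K := H)).exists_le_sylow
  set T₀ := (T : Subgroup H).map H.subtype with hT₀
  have hRT : R₀ ≤ T₀ := fun x hx => ⟨⟨x, hR₀H hx⟩, hT hx, rfl⟩
  by_cases hr1 : PRankLE r 1 H
  · haveI := BGSigma.isCyclic_of_prankLE_one hG hr1 (T.isPGroup'.map _) (map_subtype_le _)
    exact hrH ⟨hrp.out, hrdH, T,
      (BGTwelve.normalizer_le_of_isCyclic (S := T₀) inferInstance hRT).trans hNR⟩
  have h2 : r ∈ Cfsg.tau2 H :=
    ⟨hrp.out, hrH, BGSigma.not_sigma_rank_two hG hI.uniq hH hrp.out hrH, hr1⟩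
  obtain ⟨S, hS⟩ := d.exists_sylow hG h hr R
  have hrs := d.not_sigma_r hG h hr
  by_cases hRc : PRankLE r 1 R₀
  swap
  · obtain ⟨A, hAR, hAe, hAc⟩ := BGSigma.exists_elemAbelian_sq_le hRc
    have hAM : A ≤ M := hAR.trans (hR₀U.trans d.decomp.compl.1)
    have hCA : centralizer (A : Set G) ≤ M :=
      (BGSigma.centralizer_le_stmt hG hI M d.coatom A ⟨hAM, hAe, hAc⟩).1
    haveI : IsMulCommutative T₀ := by
      obtain ⟨B, hB⟩ := BGSigma.exists_elemAbelian_sq_le hr1
      haveI := ((BGSigma.tau_two_stmt hG hI H hH h2 B hB).2.1 T).1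
      exact Subgroup.map_isMulCommutative _ _
    have hTM : T₀ ≤ M := ((le_centralizer_self_of_comm inferInstance).trans
      (centralizer_anti (hAR.trans hRT))).trans hCA
    have hTeq : T₀ = R₀ := by
      refine le_antisymm (fun x hx => ?_) hRT
      have heq := S.is_maximal' ((T.isPGroup'.map H.subtype).comap_subtype (K := M)) fun z hz =>
        show (z : G) ∈ T₀ from hRT (hS.le (mem_map_of_mem M.subtype hz))
      have : x ∈ (S : Subgroup M).map M.subtype := ⟨⟨x, hTM hx⟩, heq.le hx, rfl⟩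
      rwa [hS] at this
    rw [← hTeq] at hNR
    exact hrH ⟨hrp.out, hrdH, T, hNR⟩
  haveI := BGSigma.isCyclic_of_prankLE_one hG hRc hRp le_rfl
  have hfix : R₀ ⊓ centralizer (K : Set G) = ⊥ := by
    obtain ⟨⟨k, hk⟩, hk'⟩ := (Subgroup.ne_bot_iff_exists_ne_one).mp d.K_ne
    exact le_bot_iff.mp ((inf_le_inf hR₀U (centralizer_le (Set.singleton_subset_iff.mpr hk))).trans
      (h.fpf M d.coatom K U d.decomp k hk fun h0 => hk' (Subtype.ext h0)).le)
  by_cases hqH : Nat.card K ∈ sigma H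
  · have hKσ : K ≤ sigmaCore H :=
      BGSigma.le_sigmaCore_of_pgroup hG hH hqH (IsPGroup.of_card (n := 1) (pow_one _).symm) hKH
    have h1 := Coprime.commutator_sup_centralizer K R₀ hKn
      ((Loc.coprime_U_K hG d.coatom d.decomp).symm.coprime_dvd_right (card_dvd_of_le hR₀U))
      (Or.inr (Coprime.solvable_of_le hR₀H (BGSigma.coatom_isSolvable hG hH)))
    rw [hfix, sup_bot_eq] at h1
    have hRσ : R₀ ≤ sigmaCore H := h1.ge.trans ((commutator_mono le_rfl hKσ).trans
      ((commutator_comm _ _).le.trans (Coprime.commutator_le_of_le_normalizer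
        (hR₀H.trans (le_normalizer_sigmaCore H)))))
    exact hrH (isPiSub_sigmaCore H r hrp.out
      ((BGSigma.dvd_card_of_ne_bot hRp hR₀1).trans (card_dvd_of_le hRσ)))
  obtain ⟨E, hE, hYE⟩ := BGSigma.exists_compl_ge hG hH (sup_le hR₀H hKH : R₀ ⊔ K ≤ H)
    fun l hl hd => by
      rcases BGSigma.prime_dvd_sup hKn hl hd with h1 | h1
      · rwa [BGSigma.eq_of_dvd_card_pgroup hRp hl h1]
      · rwa [(Nat.prime_dvd_prime_iff_eq hl hqp).mp h1]
  obtain ⟨A, hA⟩ := BGTwelve.exists_sq_le_compl hG hH hE h2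
  obtain ⟨P, hPR, hPc⟩ :=
    BGSigma.exists_order_prime_line hrp.out (BGSigma.dvd_card_of_ne_bot hRp hR₀1)
  by_cases hne : sigmaCore H ⊓ centralizer (K : Set G) = ⊥
  · have hKA := d.le_centralizer_plane hG h hH hE (le_sup_right.trans hYE) hqH hne h2 hA
    have hPA : P ≤ A :=
      BGTwelve.le_sq_of_card hG hI hH hE h2 hA (hPR.trans (le_sup_left.trans hYE)) hPc
    exact BGSigma.ne_bot_of_prime_card hrp.out hPc (le_bot_iff.mp
      ((le_inf hPR (le_centralizer_iff.mp (hKA.trans (centralizer_anti hPA)))).trans hfix.le))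
  · obtain ⟨g, hg⟩ := d.conj_of_fixed hG h hH hKH hqH hne
    have hM1 : PRankLE r 1 M := BGSigma.prankLE_one_of_cyclic_sylow' S (by
      haveI : IsCyclic ↥((S : Subgroup M).map M.subtype) := by rw [hS]; infer_instance
      exact ((S : Subgroup M).equivMapOfInjective M.subtype M.subtype_injective).isCyclic.2 this)
    exact hr1 (hg ▸ (BGSigma.prankLE_conj M g).2 hM1)

/-- Step 2: `|K| ∉ σ(H)`, no fixed points, nilpotent core, `κ(H) = ∅`. -/
theorem P2Data.core_H : Nat.card K ∉ sigma H ∧ sigmaCore H ⊓ centralizer (K : Set G) = ⊥ ∧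
    Group.IsNilpotent (sigmaCore H) ∧ kappa H = ∅ ∧ K ≤ H ∧ U ≤ H := by
  have hqp := d.prime hG h
  haveI := Fact.mk hqp
  obtain ⟨hn, -⟩ := d.le_normalizer_R hG h R
  have hKH : K ≤ H := (le_sup_right.trans hn).trans hNR
  have hUH : U ≤ H := (le_sup_left.trans hn).trans hNR
  have hrH := d.mem_sigma_H hG h hr R hH hNR
  have hrM := d.not_sigma_r hG h hr
  have hq : Nat.card K ∉ sigma H := fun hq => by
    obtain rfl := d.eq_star hG h hH hKH hq
    have hMM := (h.star_inf M d.coatom K U d.decomp d.K_ne H hH d.star_eq d.star_hall).1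
    refine d.U_ne (le_bot_iff.mp ((le_inf le_rfl ?_).trans d.decomp.compl.2.2.1.le))
    exact ((le_inf d.decomp.compl.1 hUH).trans hMM.le).trans (sup_le_sup_left inf_le_left _)
  have hfix : sigmaCore H ⊓ centralizer (K : Set G) = ⊥ := by
    by_contra hne
    obtain ⟨g, hg⟩ := d.conj_of_fixed hG h hH hKH hq hne
    exact hrM (BGSigma.sigma_of_conj (hg ▸ hrH))
  refine ⟨hq, hfix, BGSigma.isNilpotent_of_regular hG hqp hKH rfl hfix,
    Set.not_nonempty_iff_eq_empty.mp fun hk => ?_, hKH, hUH⟩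
  obtain ⟨g, hg | hg⟩ :=
    (h.star_class M d.coatom K U d.decomp d.K_ne Ms d.star_coatom d.star_eq d.star_hall).2 H hH hk
  · exact hrM (BGSigma.sigma_of_conj (hg ▸ hrH))
  · exact hq (hg ▸ BGSigma.sigma_conj_iff.mpr (d.mem_sigma_star hG h))

theorem P2Data.R_le_core : (R : Subgroup U).map U.subtype ≤ sigmaCore H :=
  BGSigma.le_sigmaCore_of_pgroup hG hH (d.mem_sigma_H hG h hr R hH hNR) (R.isPGroup'.map _)
    (le_normalizer.trans hNR)

omit hrp in
/-- Step 3: the primes of `U` lie in `σ(H)`. -/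
theorem P2Data.mem_sigma_of_U [Fact r.Prime] {l : ℕ} (hl : l.Prime) (hlU : l ∣ Nat.card U) :
    l ∈ sigma H := by
  by_contra hlH
  haveI := Fact.mk hl
  have hI := localInputs hG
  obtain ⟨-, -, -, hkH, -, hUH⟩ := d.core_H hG h hr R hH hNR
  obtain ⟨-, hUC⟩ := d.le_normalizer_R hG h R
  set R₀ := (R : Subgroup U).map U.subtype with hR₀
  have hR₀1 := d.R_ne_bot hG h hr R
  have hR₀σ := d.R_le_core hG h hr R hH hNR
  let T : Sylow l U := default
  set T₀ := (T : Subgroup U).map U.subtype with hT₀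
  have hT₀U : T₀ ≤ U := map_subtype_le _
  have hTp : IsPGroup l T₀ := T.isPGroup'.map _
  have hT₀1 := d.R_ne_bot hG h hlU T
  obtain ⟨X, hXT, hXc⟩ :=
    BGSigma.exists_order_prime_line hl (BGSigma.dvd_card_of_ne_bot hTp hT₀1)
  have hXH : X ≤ H := hXT.trans (hT₀U.trans hUH)
  have hne : ∀ Y : Subgroup G, Y ≤ U → sigmaCore H ⊓ centralizer (Y : Set G) ≠ ⊥ := fun Y hY h0 =>
    hR₀1 (le_bot_iff.mp ((le_inf hR₀σ (le_centralizer_iff.mp (hY.trans hUC))).trans h0.le))
  have h2 : l ∈ Cfsg.tau2 H :=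
    (BGSigma.kappa_or_tau2 hG hH hl hlH hXH hXc (hne X (hXT.trans hT₀U))).resolve_left
      (by simp [hkH])
  by_cases hT1 : PRankLE l 1 T₀
  · haveI := BGSigma.isCyclic_of_prankLE_one hG hT1 hTp le_rfl
    obtain ⟨E, hE, hXE⟩ := BGSigma.exists_compl_ge hG hH hXH fun q hq hd => by
      rwa [BGSigma.eq_of_dvd_card_pgroup (BGSigma.isPGroup_of_prime_card hXc) hq hd]
    obtain ⟨A, hA⟩ := BGTwelve.exists_sq_le_compl hG hH hE h2
    obtain ⟨-, hu⟩ := (BGTwelve.tau_two_compl_stmt hG hI hH hE h2 hA).2.2 X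
      (BGTwelve.le_sq_of_card hG hI hH hE h2 hA hXE hXc) hXc (hne X (hXT.trans hT₀U))
    have hNT : normalizer (T₀ : Set G) ≤ H :=
      (BGTwelve.normalizer_le_of_isCyclic (S := T₀) inferInstance hXT).trans
        (BGSigma.normalizer_le_of_centralizer_uniq hG (BGSigma.ne_bot_of_prime_card hl hXc)
          (BGSigma.isCoatom_ne_top hH hXH) hu)
    exact hlH (d.mem_sigma_H hG h hlU T hH hNT)
  · obtain ⟨A, hAT, hAe, hAc⟩ := BGSigma.exists_elemAbelian_sq_le hT1
    obtain ⟨-, -, -, hf, -⟩ :=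
      BGSigma.tau_two_stmt hG hI H hH h2 A ⟨hAT.trans (hT₀U.trans hUH), hAe, hAc⟩
    exact hne A (hAT.trans hT₀U) hf

theorem P2Data.U_le_core : U ≤ sigmaCore H := fun u hu =>
  TypeCore.mem_sigmaCore (Loc.hall hG hH) ((d.core_H hG h hr R hH hNR).2.2.2.2.2 hu) fun l hl hd =>
    d.mem_sigma_of_U hG h hr R hH hNR hl (hd.trans (Subgroup.orderOf_dvd_natCard U hu))

/-- Step 4: `M ⊓ H = U K` and `N_H(U) ⊄ M`. -/
theorem P2Data.inf_H : sigmaCore M ⊓ H = ⊥ ∧ M ⊓ H = U ⊔ K ∧
    ¬ H ⊓ normalizer (U : Set G) ≤ M := by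
  obtain ⟨hq, hfix, hnil, -, hKH, hUH⟩ := d.core_H hG h hr R hH hNR
  have hUσ := d.U_le_core hG h hr R hH hNR
  have hdisj := BGSigma.sigmaCore_inf_sigmaCore hG d.coatom hH (d.mem_sigma_H hG h hr R hH hNR)
    (d.not_sigma_r hG h hr)
  have h0 : sigmaCore M ⊓ H = ⊥ := by
    refine le_bot_iff.mp fun y hy => ?_
    refine (d.fixed_R hG h hr R).le ⟨hy.1, mem_centralizer_iff.mpr fun u hu => ?_⟩
    have huσ : u ∈ sigmaCore H := d.R_le_core hG h hr R hH hNR hu
    have huM : u ∈ M := d.decomp.compl.1 (map_subtype_le _ hu)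
    have h1 : u * y * u⁻¹ * y⁻¹ ∈ sigmaCore M ⊓ sigmaCore H := by
      refine ⟨mul_mem ((mem_normalizer_iff.mp (le_normalizer_sigmaCore M huM) y).mp hy.1)
        ((sigmaCore M).inv_mem hy.1), ?_⟩
      rw [show u * y * u⁻¹ * y⁻¹ = u * (y * u⁻¹ * y⁻¹) by group]
      exact mul_mem huσ
        ((mem_normalizer_iff.mp (le_normalizer_sigmaCore H hy.2) _).mp (inv_mem huσ))
    rw [hdisj, mem_bot, mul_inv_eq_one, mul_inv_eq_iff_eq_mul] at h1
    exact h1
  have hMH : M ⊓ H = U ⊔ K := by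
    refine le_antisymm ?_ (le_inf (sup_le d.decomp.compl.1 d.decomp.hall.1) (sup_le hUH hKH))
    rintro m ⟨hm, hmH⟩
    obtain ⟨e, he, n, hn, rfl⟩ := (Loc.compl_sup d.decomp).2.2.2 m hm
    have h1 : n ∈ sigmaCore M ⊓ H := ⟨hn, (mul_mem_cancel_left (sup_le hUH hKH he)).mp hmH⟩
    rw [h0, mem_bot] at h1
    rw [h1, mul_one]
    exact he
  refine ⟨h0, hMH, fun hle => ?_⟩
  have hle' : sigmaCore H ⊓ normalizer (U : Set G) ≤ U := by
    intro y hy
    have hy' : y ∈ U ⊔ K := hMH.le ⟨hle ⟨sigmaCore_le H hy.1, hy.2⟩, sigmaCore_le H hy.1⟩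
    obtain ⟨u, hu, k, hk, rfl⟩ := Coprime.exists_mul_of_mem_sup d.decomp.normal hy'
    have hk1 : k ∈ sigmaCore H ⊓ centralizer (K : Set G) := ⟨
      (mul_mem_cancel_left (hUσ hu)).mp hy.1,
      by haveI := d.decomp.cyclic
         exact le_centralizer_self_of_comm inferInstance hk⟩
    rw [hfix, mem_bot] at hk1
    rw [hk1, mul_one]; exact hu
  haveI := hnil
  have hmax : U.subgroupOf (sigmaCore H) = ⊤ := by
    refine normalizerCondition_iff_only_full_group_self_normalizing.mp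
      Group.normalizerCondition_of_isNilpotent _ (le_antisymm (fun y hy => ?_) le_normalizer)
    refine hle' ⟨y.2, ?_⟩
    show (y : G) ∈ normalizer (U : Set G)
    rw [mem_normalizer_iff]
    intro z
    constructor
    · intro hz
      exact (mem_normalizer_iff.mp hy ⟨z, hUσ hz⟩).mp hz
    · intro hz
      have hzσ : z ∈ sigmaCore H := by
        have := mul_mem (mul_mem (inv_mem y.2) (hUσ hz)) y.2
        simpa [mul_assoc] using this
      exact (mem_normalizer_iff.mp hy ⟨z, hzσ⟩).mpr hz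
  have heq : sigmaCore H = U := le_antisymm (subgroupOf_eq_top.mp hmax) hUσ
  have hHM : H ≤ M := by
    refine (le_inf le_rfl ?_).trans hle
    rw [← heq]
    exact le_normalizer_sigmaCore H
  exact d.ne_M hG h hr R hH hNR ((hH.le_iff.1 hHM).resolve_left d.coatom.1).symm

/-- Step 5: `H ⊓ M*` is a complement of `H_σ` centralizing or normalizing `K`. -/
theorem P2Data.compl_star : K ≤ fittingOf (H ⊓ Ms) ∧ IsComplIn (H ⊓ Ms) (sigmaCore H) H := by
  obtain ⟨hq, hfix, -, -, hKH, -⟩ := d.core_H hG h hr R hH hNR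
  have hI := localInputs hG
  have hqp := d.prime hG h
  haveI := Fact.mk hqp
  haveI : IsCyclic K := d.decomp.cyclic
  have hKp : IsPGroup (Nat.card K) K := IsPGroup.of_card (n := 1) (pow_one _).symm
  obtain ⟨E, hE, hKE⟩ := BGSigma.exists_compl_ge hG hH hKH fun l hl hd =>
    ((Nat.prime_dvd_prime_iff_eq hl hqp).mp hd) ▸ hq
  suffices hEs : E ≤ Ms ∧ K ≤ fittingOf E by
    have hdisj : sigmaCore H ⊓ Ms = ⊥ := by
      refine le_bot_iff.mp fun y hy => hfix.le ⟨hy.1, mem_centralizer_iff.mpr fun k hk => ?_⟩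
      have hd := BGSigma.sigmaCore_inf_sigmaCore hG hH d.star_coatom (d.mem_sigma_star hG h) hq
      have hkσ := d.le_star_sigma hk
      have h1 : k * y * k⁻¹ * y⁻¹ ∈ sigmaCore H ⊓ sigmaCore Ms := by
        refine ⟨mul_mem ((mem_normalizer_iff.mp (le_normalizer_sigmaCore H (hKH hk)) y).mp hy.1)
          ((sigmaCore H).inv_mem hy.1), ?_⟩
        rw [show k * y * k⁻¹ * y⁻¹ = k * (y * k⁻¹ * y⁻¹) by group]
        exact mul_mem hkσ
          ((mem_normalizer_iff.mp (le_normalizer_sigmaCore Ms hy.2) _).mp (inv_mem hkσ))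
      rw [hd, mem_bot, mul_inv_eq_one, mul_inv_eq_iff_eq_mul] at h1
      exact h1
    have hHE : H ⊓ Ms = E := by
      refine le_antisymm ?_ (le_inf hE.1 hEs.1)
      rintro m ⟨hm, hms⟩
      obtain ⟨e, he, n, hn, rfl⟩ := hE.2.2.2 m hm
      have h1 : n ∈ sigmaCore H ⊓ Ms := ⟨hn, (mul_mem_cancel_left (hEs.1 he)).mp hms⟩
      rw [hdisj, mem_bot] at h1
      rw [h1, mul_one]
      exact he
    rw [hHE]
    exact ⟨hEs.2, hE⟩
  obtain ⟨hCK, huK⟩ := d.centralizer_K hG h
  have hNK : normalizer (K : Set G) ≤ Ms := BGSigma.normalizer_le_of_centralizer_uniq hG d.K_ne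
    (BGSigma.isCoatom_ne_top hH hKH) huK
  have hnilK : Group.IsNilpotent K := hKp.isNilpotent
  by_cases hr1 : PRankLE (Nat.card K) 1 H
  swap
  · have h2 : Nat.card K ∈ Cfsg.tau2 H :=
      ⟨hqp, hq, BGSigma.not_sigma_rank_two hG hI.uniq hH hqp hq, hr1⟩
    obtain ⟨A, hA⟩ := BGTwelve.exists_sq_le_compl hG hH hE h2
    have hKA : K ≤ A := BGTwelve.le_sq_of_card hG hI hH hE h2 hA hKE rfl
    haveI := hA.2.1.1
    have hAs : A ≤ Ms :=
      ((le_centralizer_self_of_comm inferInstance).trans (centralizer_anti hKA)).trans hCK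
    obtain ⟨Es, hEs⟩ := Loc.exists_compl hG d.star_coatom
    have hNA : normalizer (A : Set G) ≤ Ms :=
      (h.sigma_prime Ms d.star_coatom Es hEs).2.2.1 _ A (d.mem_sigma_star hG h)
        (IsPGroup.of_card hA.2.2) hAs (BGTwelve.not_isCyclic_sq hA.2.1 hA.2.2)
    have hEA := BGTwelve.compl_le_normalizer_sq hG hI hH hE h2 hA
    exact ⟨hEA.trans hNA, hKA.trans (Loc.le_fittingOf hA.1 hEA
      (IsPGroup.of_card hA.2.2).isNilpotent)⟩
  suffices hEn : E ≤ normalizer (K : Set G) from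
    ⟨hEn.trans hNK, Loc.le_fittingOf hKE hEn hnilK⟩
  rcases BGSigma.tau13_cases hG hqp hq (card_dvd_of_le hKH) hr1 with h1 | h3
  swap
  · exact BGSigma.compl_le_normalizer_tau3 hG hH hE h3 hKE rfl
  -- `K` centralizes `E'`
  set D := ⁅E, E⁆ with hD
  haveI hDc : IsMulCommutative D := (h.sigma_prime H hH E hE).2.1
  have hDE : D ≤ E := commutator_le_self E
  have hqD : ¬ Nat.card K ∣ Nat.card D := fun hd =>
    h1.2.2.2.1 (hd.trans (card_dvd_of_le (commutator_mono hE.1 hE.1)))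
  have hKD : K ≤ normalizer (D : Set G) :=
    hKE.trans (Coprime.le_normalizer_commutator_left E E)
  have hco : (Nat.card K).Coprime (Nat.card D) := hqp.coprime_iff_not_dvd.mpr hqD
  have hCD : K ≤ centralizer (D : Set G) := by
    by_contra hc
    have hDK : ⁅D, K⁆ ≠ ⊥ := fun h0 => hc (le_centralizer_iff.mp
      (commutator_eq_bot_iff_le_centralizer.mp h0))
    obtain ⟨t, ht, w, hw, hwo⟩ := BGSigma.exists_prime_line hDK
    haveI := Fact.mk ht
    have hwD : w ∈ D := Coprime.commutator_le_of_le_normalizer hKD hw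
    have hwc : w ∉ centralizer (K : Set G) := fun h0 => by
      have hh : w ∈ ⁅D, K⁆ ⊓ centralizer (K : Set G) := ⟨hw, h0⟩
      rw [Coprime.commutator_inf_centralizer_eq_bot K D hKD hco, mem_bot] at hh
      exact ht.ne_one (by rw [← hwo, hh, orderOf_one])
    set W := zpowers w with hW
    have hWc : Nat.card W = t := by rw [hW, Nat.card_zpowers, hwo]
    have hWE : W ≤ E := zpowers_le.mpr (hDE hwD)
    have hts : t ∉ sigma H := BGTwelve.not_mem_sigma_of_dvd hG hH hE ht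
      (hWc ▸ card_dvd_of_le hWE)
    have htH' : t ∣ Nat.card ↥⁅H, H⁆ := by
      rw [← hwo]
      exact Subgroup.orderOf_dvd_natCard _ (commutator_mono hE.1 hE.1 hwD)
    by_cases ht1 : PRankLE t 1 H
    · have ht3 : t ∈ tau3 H := ⟨ht, hts, htH', ht1⟩
      have hEW := BGSigma.compl_le_normalizer_tau3 hG hH hE ht3 hWE hWc
      have htq : t ≠ Nat.card K := fun h0 => hqD
        (h0 ▸ hwo ▸ Subgroup.orderOf_dvd_natCard _ hwD)
      have hm : ¬ K ≤ centralizer (W : Set G) := fun h0 =>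
        hwc (le_centralizer_iff.mp h0 (mem_zpowers w))
      have h4 := BGSigma.commutator_le_centralizer_core hG hH ((sup_le hWE hKE).trans hE.1)
        (fun l hl hd => BGTwelve.not_mem_sigma_of_dvd hG hH hE hl
          (hd.trans (card_dvd_of_le (sup_le hWE hKE)))) (hKE.trans hEW) hqp
        (by rw [hWc]; exact (Nat.coprime_primes ht hqp).2 htq) (hfix.le.trans bot_le)
      rw [BGSigma.commutator_eq_of_moved ht hWc (hKE.trans hEW) hm] at h4
      have hHW : H ≤ normalizer (W : Set G) := by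
        rw [← BGTwelve.compl_sup_eq hE]
        exact sup_le hEW ((le_centralizer_iff.mp h4).trans (centralizer_le_normalizer _))
      have hwF : w ∈ fittingOf H := Loc.le_fittingOf (hWE.trans hE.1) hHW
        (BGSigma.isPGroup_of_prime_card hWc).isNilpotent (mem_zpowers w)
      have hwc' := BGUniq.mem_core_of_mem_fittingOf hwF (r := t) (j := 1) (by rw [hwo, pow_one])
      have := (BGTwelve.core_cyclic_of_not_sigma hG hI hH hts).2 fun h0 => by
        rw [h0, mem_bot] at hwc'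
        exact ht.ne_one (by rw [← hwo, hwc', orderOf_one])
      exact this.2.2.2 ht1
    · have ht2 : t ∈ Cfsg.tau2 H :=
        ⟨ht, hts, BGSigma.not_sigma_rank_two hG hI.uniq hH ht hts, ht1⟩
      obtain ⟨A, hA⟩ := BGTwelve.exists_sq_le_compl hG hH hE ht2
      exact hwc (le_centralizer_iff.mp (d.le_centralizer_plane hG h hH hE hKE hq hfix ht2 hA)
        (BGTwelve.le_sq_of_card hG hI hH hE ht2 hA hWE hWc (mem_zpowers w)))
  refine fun e he => centralizer_le_normalizer _ (mem_centralizer_iff.mpr fun k hk => ?_)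
  have hc : ⁅e, k⁆ ∈ D := commutator_mem_commutator he (hKE hk)
  have hcomm : Commute ⁅e, k⁆ k := mem_centralizer_iff.mp (hCD hk) _ hc
  have hkq : k ^ Nat.card K = 1 := BGSigma.pow_eq_one_of_card rfl hk
  have hpow : (e * k * e⁻¹) ^ Nat.card K = 1 := by rw [conj_pow, hkq]; group
  rw [show e * k * e⁻¹ = ⁅e, k⁆ * k by rw [commutatorElement_def]; group, hcomm.mul_pow, hkq,
    mul_one] at hpow
  have h2 : ⁅e, k⁆ = 1 := orderOf_eq_one_iff.mp (Nat.dvd_one.mp (hco.gcd_eq_one ▸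
    Nat.dvd_gcd (orderOf_dvd_of_pow_eq_one hpow) (Subgroup.orderOf_dvd_natCard _ hc)))
  exact (commutatorElement_eq_one_iff_mul_comm.mp h2).symm

end Cfsg.Agent.BGSummary.Support

namespace Cfsg.Agent.BGSummary.Loc

open Cfsg Subgroup
open scoped commutatorElement

universe u

variable {G : Type u} [Group G] [Finite G]

/-- S1435. -/
theorem p2_signalizer_of (hG : IsMinSimpleOddOrder G) (h : LocalStructure G) {M K U Ms : Subgroup G}
    (hM : IsCoatom M) (hKU : IsSigmaDecomposition M K U) (hK1 : K ≠ ⊥) (hU1 : U ≠ ⊥)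
    (hMs : IsCoatom Ms)
    (hKst : K = sigmaCore Ms ⊓ centralizer ((sigmaCore M ⊓ centralizer (K : Set G)) : Set G))
    (hKstH : IsPiHallOf (kappa Ms) (sigmaCore M ⊓ centralizer (K : Set G)) Ms)
    (r : ℕ) [Fact r.Prime] (hr : r ∣ Nat.card U) (R : Sylow r U) {H : Subgroup G} (hH : IsCoatom H)
    (hNR : normalizer (((R : Subgroup U).map U.subtype : Subgroup G) : Set G) ≤ H) :
    kappa H = ∅ ∧ U ≤ sigmaCore H ∧ M ⊓ H = U ⊔ K ∧ ¬ H ⊓ normalizer (U : Set G) ≤ M ∧
      K ≤ fittingOf (H ⊓ Ms) ∧ IsComplIn (H ⊓ Ms) (sigmaCore H) H := by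
  have d : Support.P2Data M K U Ms := ⟨hM, hKU, hK1, hU1, hMs, hKst, hKstH⟩
  obtain ⟨-, h1, h2⟩ := d.inf_H hG h hr R hH hNR
  exact ⟨(d.core_H hG h hr R hH hNR).2.2.2.1, d.U_le_core hG h hr R hH hNR, h1, h2,
    d.compl_star hG h hr R hH hNR⟩

/-- S1364. -/
theorem complement_abelian_of (hG : IsMinSimpleOddOrder G) (h : LocalStructure G)
    {M K U : Subgroup G} (hM : IsCoatom M) (hKU : IsSigmaDecomposition M K U) (hK1 : K ≠ ⊥) :
    IsMulCommutative U ∧ ¬ normalizer (U : Set G) ≤ M := by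
  refine ⟨abelian_U hG h hM hKU hK1, fun hle => ?_⟩
  by_cases hU : U = ⊥
  · subst hU
    exact hM.1 (top_le_iff.mp (by rwa [normalizer_eq_top] at hle))
  obtain ⟨Ms, ⟨hMs, hKst, hKstH⟩, -⟩ := h.star M hM K U hKU hK1
  obtain ⟨r, hr, hrd⟩ := Nat.exists_prime_and_dvd (mt card_eq_one.mp hU)
  haveI := Fact.mk hr
  let R : Sylow r U := default
  have hR1 : (R : Subgroup U).map U.subtype ≠ ⊥ := fun h0 =>
    R.ne_bot_of_dvd_card hrd ((map_eq_bot_iff_of_injective _ U.subtype_injective).mp h0)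
  obtain ⟨H, hH, hNR⟩ := BGSigma.exists_coatom_ge hG (BGSigma.normalizer_ne_top hG hR1
    fun h0 => hM.1 (top_le_iff.mp (h0 ▸ (map_subtype_le _).trans hKU.compl.1)))
  obtain ⟨-, -, -, hn, -⟩ := p2_signalizer_of hG h hM hKU hK1 hU hMs hKst hKstH r hrd R hH hNR
  exact hn (inf_le_right.trans hle)

end Cfsg.Agent.BGSummary.Loc
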