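import Cfsg.Agent.BGSummary.Types
import Cfsg.Agent.Lib.Frobenius.Nilpotent
import Cfsg.Agent.Lib.Thompson.Replacement

/-!
The summary theorem on fusion in `A₀(M)` and on the supporting subgroups.
-/

set_option autoImplicit false

namespace Cfsg.Agent.BGSummary

open Cfsg
open scoped Pointwise
open Cfsg.Agent.BGSigma (sigmaCore_le le_normalizer_sigmaCore isPiSub_sigmaCore)

universe u

theorem frobeniusKernel_eq_fittingHall {H : Type u} [Group H] [Finite H] {E : Subgroup H}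
    (hE : IsFrobeniusComplement E) :
    frobeniusKernel E = ((fittingHall H : Subgroup H) : Set H) := by
  obtain ⟨F, hF, hFn, hFnil⟩ := Frobenius.frobeniusKernel_isNilpotent hE
  obtain ⟨F', hF', -, hc⟩ := Frobenius.exists_frobeniusKernel_subgroup hE
  have hFF : F' = F := SetLike.coe_injective (hF'.trans hF.symm)
  rw [hFF] at hc
  have hcop : (Nat.card F).Coprime F.index := by
    rw [hc.symm.index_eq_card]
    have h1 := Frobenius.coprime_card_index hE
    rw [hc.index_eq_card] at h1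
    exact h1.symm
  have hle : F ≤ fittingHall H := BGUniq.le_fittingHall hFn hFnil hcop
  rw [← hF]
  refine congrArg SetLike.coe (le_antisymm hle fun x hx => ?_)
  by_contra hxF
  haveI := BGUniq.fittingHall_isNilpotent H
  haveI : Nontrivial ↥(fittingHall H) :=
    ⟨⟨⟨x, hx⟩, 1, fun h0 => hxF (by
      rw [show x = 1 from congrArg Subtype.val h0]; exact one_mem F)⟩⟩
  obtain ⟨z, hz, hz1⟩ := (Subgroup.bot_or_exists_ne_one _).resolve_left
    (Group.IsNilpotent.center_ne_bot (G := ↥(fittingHall H)))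
  have hcomm : ∀ w ∈ fittingHall H, (z : H) * w = w * z := fun w hw =>
    congrArg Subtype.val (Subgroup.mem_center_iff.mp hz ⟨w, hw⟩).symm
  have hz1' : (z : H) ≠ 1 := fun h0 => hz1 (Subtype.ext h0)
  -- a central element lying in a conjugate of `E` forces `F` into that conjugate
  have key : ∀ (g w : H), w ≠ 1 → g⁻¹ * w * g ∈ E → ∀ f : H, f * w = w * f → g⁻¹ * f * g ∈ E := by
    intro g w hw hwE f hfw
    refine Frobenius.centralizer_le hE (x := g⁻¹ * w * g) ?_ hwE ?_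
    · intro h0
      exact hw (by simpa [mul_assoc] using congrArg (fun t => g * t * g⁻¹) h0)
    · rw [Subgroup.mem_centralizer_singleton_iff]
      calc g⁻¹ * f * g * (g⁻¹ * w * g) = g⁻¹ * (f * w) * g := by group
        _ = g⁻¹ * (w * f) * g := by rw [hfw]
        _ = g⁻¹ * w * g * (g⁻¹ * f * g) := by group
  obtain ⟨g, hgx⟩ : ∃ g : H, g⁻¹ * x * g ∈ E := by
    obtain ⟨-, g, hg⟩ := Frobenius.exists_conj_of_not_mem_frobeniusKernel
      (H := E) (x := x) (fun h0 => hxF (hF.symm.le h0))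
    exact ⟨g, Frobenius.mem_conj_smul.mp hg⟩
  have hx1 : x ≠ 1 := fun h0 => hxF (h0 ▸ one_mem F)
  have hzE : g⁻¹ * z * g ∈ E := key g x hx1 hgx z (hcomm x hx)
  obtain ⟨f, hf, hf1⟩ := Frobenius.exists_ne_one_mem_frobeniusKernel hE
  have hfF : f ∈ F := hF.symm.le hf
  exact hf1 (Frobenius.eq_one_of_mem_frobeniusKernel_of_mem_conj hf
    (Frobenius.mem_conj_smul.mpr (key g z hz1' hzE f (hcomm f (hle hfF)).symm)))

variable {G : Type u} [Group G] [Finite G] (hG : IsMinSimpleOddOrder G) (h : SummaryInputs G)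

theorem sigma_subset_conj {M : Subgroup G} {g : G} {p : ℕ} (hp : p ∈ sigma M) :
    p ∈ sigma (M.map (MulAut.conj g).toMonoidHom) := by
  haveI := Fact.mk hp.1
  obtain ⟨Q, hQ⟩ := BGSigma.exists_sylow_of_mem_sigma hp
  refine BGSigma.mem_sigma_of_sylow hp.1
    (hp.2.1.trans (Subgroup.card_subgroup_dvd_card M)) (g • Q) ?_
  intro x hx
  rw [BGSigma.mem_map_conj]
  refine hQ ?_
  rw [Subgroup.mem_normalizer_iff]
  intro z
  have h2 := Subgroup.mem_normalizer_iff.mp hx (g * z * g⁻¹)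
  rw [Sylow.coe_subgroup_smul, Subgroup.mem_pointwise_smul_iff_inv_smul_mem,
    Subgroup.mem_pointwise_smul_iff_inv_smul_mem] at h2
  simpa [mul_assoc] using h2

include hG h

theorem star_ne_bot {M K U : Subgroup G} (hM : IsCoatom M) (hKU : IsSigmaDecomposition M K U)
    (hK : K ≠ ⊥) : sigmaCore M ⊓ Subgroup.centralizer (K : Set G) ≠ ⊥ := fun h0 => by
  obtain ⟨-, hnorm⟩ := h.zhat_ti M hM K U hKU hK
  rw [h0, sup_bot_eq, Set.diff_eq_empty.mpr Set.subset_union_left, Subgroup.normalizer_empty]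
    at hnorm
  exact hM.1 (top_le_iff.mp (hnorm.le.trans hKU.hall.1))

/-- An element of `A₀(M)` outside `A(M)`: its centralizer lies in `M` and all its conjugates in
`M` are conjugates in `M`. -/
theorem of_typeA0_not_typeA {M : Subgroup G} (hM : IsCoatom M) {v : G} (hv : v ∈ typeA0 M)
    (hvA : v ∉ typeA M) :
    ¬ IsOfTypeI M ∧ v ∈ M ∧ Subgroup.centralizer ({v} : Set G) ≤ M ∧
      ∀ g : G, g * v * g⁻¹ ∈ M → g ∈ M := by
  rcases hv with hv | ⟨hI, W, U', W₂, hP, m, hm, z, hz, hzW, hzW₂, rfl⟩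
  · exact absurd hv hvA
  obtain ⟨K, U, hKU⟩ := exists_decomp h hM
  have hK : K ≠ ⊥ := h.typeP_conv M hM K U hKU W U' W₂ hP
  have hd := (h.derived M hM K U hKU hK).1
  obtain ⟨hMd, hWM, hWd, hWall⟩ := hP.W₁_compl
  have hKd : K ⊓ ⁅M, M⁆ = ⊥ := by
    rw [hd, eq_bot_iff]
    intro x hxx
    obtain ⟨hxK, hx'⟩ := Subgroup.mem_inf.mp hxx
    have hx : x ∈ ((U ⊔ sigmaCore M : Subgroup G) : Set G) := hx'
    rw [Subgroup.coe_mul_of_left_le_normalizer_right _ _
      (hKU.compl.1.trans (le_normalizer_sigmaCore M))] at hx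
    obtain ⟨b, hb, c, hc, rfl⟩ := hx
    have hb1 : b = 1 := Subgroup.mem_bot.mp (hKU.compl.2.2.1.le ⟨hb, by
      simpa using mul_mem (Subgroup.mem_sup_left hxK)
        (Subgroup.mem_sup_right (inv_mem hc) : c⁻¹ ∈ K ⊔ sigmaCore M)⟩)
    subst hb1
    simpa using (Subgroup.inf_eq_bot_of_coprime (kappa'_sigma h hKU.hall)).le
      ⟨hxK, by simpa using hc⟩
  have hKsup : M ≤ K ⊔ ⁅M, M⁆ := by
    rw [hd, ← sup_assoc, sup_comm K U, sup_assoc]
    exact (isComplIn_sup hKU.compl).ge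
  have hMn : M ≤ Subgroup.normalizer ((⁅M, M⁆ : Subgroup G) : Set G) :=
    hd ▸ le_normalizer_sup h hM hKU
  have hWsup : M ≤ W ⊔ ⁅M, M⁆ := (isComplIn_sup hP.W₁_compl).ge.trans (sup_comm _ _).le
  have hcard : ∀ A : Subgroup G, A ≤ M → A ⊓ ⁅M, M⁆ = ⊥ → M ≤ A ⊔ ⁅M, M⁆ →
      Nat.card A = ((⁅M, M⁆ : Subgroup G)).relIndex M := by
    intro A hA hAi hAs
    have h1 := Thompson.card_sup_mul_card_inf (hA.trans hMn)
    rw [inf_comm, hAi, Subgroup.card_bot, mul_one, sup_comm,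
      le_antisymm (sup_le hA hMd) hAs] at h1
    have h2 : Nat.card (⁅M, M⁆ : Subgroup G) * (⁅M, M⁆ : Subgroup G).relIndex M = Nat.card M := by
      rw [← Subgroup.relIndex_bot_left, ← Subgroup.relIndex_bot_left,
        Subgroup.relIndex_mul_relIndex _ _ _ bot_le hMd]
    exact Nat.eq_of_mul_eq_mul_left Nat.card_pos (h1.symm.trans h2.symm)
  have hWK : Nat.card W = Nat.card K := by
    rw [hcard W hWM (inf_comm W ⁅M, M⁆ ▸ hWd) hWsup, hcard K hKU.hall.1 hKd hKsup]
  have hWhall : IsPiHallOf (kappa M) W M := by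
    refine ⟨hWM, fun p hp hpd => hKU.hall.2.1 p hp (hWK ▸ hpd), fun p hp hpk => ?_⟩
    have h1 : Nat.card W * W.relIndex M = Nat.card K * K.relIndex M := by
      rw [← Subgroup.relIndex_bot_left, ← Subgroup.relIndex_bot_left,
        Subgroup.relIndex_mul_relIndex _ _ _ bot_le hWM,
        Subgroup.relIndex_mul_relIndex _ _ _ bot_le hKU.hall.1]
    rw [hWK] at h1
    rw [Nat.eq_of_mul_eq_mul_left Nat.card_pos h1]
    exact hKU.hall.2.2 p hp hpk
  obtain ⟨⟨U₁, hWU⟩, -⟩ := h.decomp M hM W hP.W₁_cyclic hWhall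
  have hW0 := hP.W₁_ne
  obtain ⟨N, ⟨hN, hNW, hNhall⟩, -⟩ := h.star M hM W U₁ hWU hW0
  set L := sigmaCore M ⊓ Subgroup.centralizer (W : Set G) with hL
  obtain ⟨-, -, hcent, hmeet, -, -⟩ := h.star_structure M hM W U₁ hWU hW0 N hN hNW hNhall
  obtain ⟨a, ha, ha1⟩ := (Subgroup.bot_or_exists_ne_one W).resolve_left hW0
  obtain ⟨b, hb, hb1⟩ := (Subgroup.bot_or_exists_ne_one L).resolve_left
    (star_ne_bot hG h hM hWU hW0)
  have hLd : L ≤ ⁅M, M⁆ := inf_le_left.trans (h.fitting_core M hM).2.2.1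
  have hcoe : ((W ⊔ L : Subgroup G) : Set G) = (W : Set G) * (L : Set G) :=
    Subgroup.coe_mul_of_left_le_normalizer_right _ _
      ((Subgroup.le_centralizer_iff.mp inf_le_right).trans (Subgroup.centralizer_le_normalizer _))
  have hW₂ : W₂ = L := by
    rw [← hP.W₂_centralizer a ha ha1]
    refine le_antisymm (fun w hw => ?_) (le_inf hLd fun c hc => ?_)
    · have hw' : w ∈ ((W ⊔ L : Subgroup G) : Set G) := by
        rw [SetLike.mem_coe, ← (hcent a ha ha1 b hb hb1).1]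
        exact ⟨hMd hw.1, hw.2⟩
      rw [hcoe] at hw'
      obtain ⟨s, hs, t, ht, rfl⟩ := hw'
      have hsd : s ∈ (⁅M, M⁆ : Subgroup G) :=
        (Subgroup.mul_mem_cancel_right _ (hLd ht)).mp hw.1
      have hs1 : s = 1 := Subgroup.mem_bot.mp (hWd.le ⟨hsd, hs⟩)
      subst hs1
      simpa using ht
    · exact Subgroup.mem_centralizer_singleton_iff.mpr
        (Subgroup.mem_centralizer_iff.mp hc.2 a ha).symm
  subst hW₂
  have hz' : z ∈ ((W ⊔ L : Subgroup G) : Set G) := hz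
  rw [hcoe] at hz'
  obtain ⟨s, hs, t, ht, hst⟩ := hz'
  have hst' : s * t = z := hst
  have hs1 : s ≠ 1 := fun h0 => hzW₂ (by rw [← hst', h0, one_mul]; exact ht)
  have ht1 : t ≠ 1 := fun h0 => hzW (by rw [← hst', h0, mul_one]; exact hs)
  have hCz : Subgroup.centralizer ({z} : Set G) ≤ M := by
    rw [← hst', (hcent s hs hs1 t ht ht1).2.2]
    exact sup_le hWM (inf_le_left.trans (sigmaCore_le M))
  have hzM : z ∈ M := sup_le hWM (inf_le_left.trans (sigmaCore_le M)) hz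
  refine ⟨hI, mul_mem (mul_mem hm hzM) (inv_mem hm), fun c hc => ?_, fun g hg => ?_⟩
  · have h1 := hCz (x := m⁻¹ * c * m) (by
      have := conj_mem_centralizer_singleton (m := m⁻¹) hc
      simpa [mul_assoc] using this)
    simpa [mul_assoc] using mul_mem (mul_mem hm h1) (inv_mem hm)
  · by_contra hgM
    refine hmeet (g * m)⁻¹ (fun h0 => hgM ?_) z ⟨hz, by rintro (h1 | h1); exacts [hzW h1, hzW₂ h1]⟩ ?_
    · simpa using mul_mem (inv_mem h0) (inv_mem hm)
    · rw [BGSigma.mem_map_conj]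
      simpa [mul_assoc] using hg

theorem supports_stmt (hT : TypeICriterion G) (M : Subgroup G) (hM : IsCoatom M) (X : Set G)
    (hX : X = typeA M ∨ X = typeA0 M) :
    (∀ x ∈ X, ∀ g : G, g * x * g⁻¹ ∈ X → ∃ m ∈ M, m * x * m⁻¹ = g * x * g⁻¹) ∧
      (∀ x ∈ X, ¬ Subgroup.centralizer ({x} : Set G) ≤ M → x ∈ typeA1 M ∧ ∃! L : Subgroup G, IsCoatom L ∧ Subgroup.centralizer ({x} : Set G) ≤ L) ∧
      ∀ x ∈ X, ¬ Subgroup.centralizer ({x} : Set G) ≤ M → ∀ L : Subgroup G, IsCoatom L → Subgroup.centralizer ({x} : Set G) ≤ L →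
        IsComplIn (fittingHallOf L) (M ⊓ L) L ∧
        Subgroup.centralizer ({x} : Set G) ≤ Subgroup.normalizer ((fittingHallOf L ⊓ Subgroup.centralizer ({x} : Set G) : Subgroup G) : Set G) ∧
        IsComplIn (fittingHallOf L ⊓ Subgroup.centralizer ({x} : Set G)) (M ⊓ Subgroup.centralizer ({x} : Set G)) (Subgroup.centralizer ({x} : Set G)) ∧
        (∀ y ∈ X, (Nat.card (fittingHallOf L)).Coprime (Nat.card ↥(M ⊓ Subgroup.centralizer ({y} : Set G)))) ∧
        (x ∈ typeA L ∧ x ∉ typeA1 L) ∧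
        (IsOfTypeI L ∨ IsOfTypeII L) ∧
        (IsOfTypeII L → ∃ E : Subgroup ↥M, IsFrobeniusComplement E ∧ frobeniusKernel E = ((fittingHall ↥M : Subgroup ↥M) : Set ↥M)) := by
  obtain ⟨K, U, hKU⟩ := exists_decomp h hM
  have hX0 : ∀ x ∈ X, x ∈ typeA0 M := fun x hx => by
    rcases hX with rfl | rfl
    · exact Or.inl hx
    · exact hx
  have hXM : ∀ x ∈ X, x ∈ M := fun x hx => by
    by_cases hA : x ∈ typeA M
    · exact typeA_subset hG h hM hA
    · exact (of_typeA0_not_typeA hG h hM (hX0 x hx) hA).2.1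
  have hD : ∀ x ∈ X, ¬ Subgroup.centralizer ({x} : Set G) ≤ M →
      x ∈ sigmaCore M ∧ x ≠ 1 := by
    intro x hx hxC
    by_cases hA : x ∈ typeA M
    · obtain ⟨hxU, hx1, y, hy, hy1, hxy⟩ := (mem_typeA_imp hG h hM hKU hA)
      refine ⟨?_, hx1⟩
      by_contra hxσ
      obtain ⟨r, n, hr, hrσ, hxn⟩ := exists_prime_power h hM (le_of_decomp hKU hxU) hxσ
      refine hxC (le_trans ?_ (centralizer_uniq_of_mem h hM hKU (pow_mem hxU n) hr hrσ hxn hy hy1
        ((show Commute x y from hxy).pow_left n).eq).1)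
      intro c hc
      rw [Subgroup.mem_centralizer_singleton_iff] at hc ⊢
      exact ((show Commute c x from hc).pow_right n).eq
    · exact absurd (of_typeA0_not_typeA hG h hM (hX0 x hx) hA).2.2.1 hxC
  refine ⟨fun x hx g hgx => ?_, fun x hx hxC => ?_, fun x hx hxC L hL hxL => ?_⟩
  · by_cases hA : x ∈ typeA M
    · by_cases hB : g * x * g⁻¹ ∈ typeA M
      · by_cases hxσ : x ∈ sigmaCore M
        · have hyσ : g * x * g⁻¹ ∈ sigmaCore M :=
            le_sigmaCore_of_sigma h hM (typeA_subset hG h hM hB) fun p hp hd => by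
              have hd' : p ∣ orderOf x := by
                rwa [show g * x * g⁻¹ = MulAut.conj g x from rfl, MulEquiv.orderOf_eq] at hd
              exact isPiSub_sigmaCore M p hp
                (hd'.trans (Subgroup.orderOf_dvd_natCard _ hxσ))
          have hne : sigmaCore M ≠ ⊥ := fun h0 =>
            ((mem_typeA_imp hG h hM hKU hA)).2.1 (Subgroup.mem_bot.mp (h0.le hxσ))
          obtain ⟨n, hn, hnx⟩ := (h.sigma_fusion M hM (sigmaCore M) le_rfl hne
            (by rw [Subgroup.relIndex_self]; exact Nat.coprime_one_right _)).2 x hxσ g hyσ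
          exact ⟨n, hn.1, hnx⟩
        · exact ⟨g, mem_of_conj_typeA hG h hM hA hxσ hB, rfl⟩
      · refine ⟨g, ?_, rfl⟩
        have := (of_typeA0_not_typeA hG h hM (hX0 _ hgx) hB).2.2.2 g⁻¹ (by
          simpa [mul_assoc] using hXM x hx)
        simpa using inv_mem this
    · exact ⟨g, (of_typeA0_not_typeA hG h hM (hX0 x hx) hA).2.2.2 g (hXM _ hgx), rfl⟩
  · obtain ⟨hxσ, hx1⟩ := hD x hx hxC
    obtain ⟨N, hN, hNu, -⟩ := h.signalizer M hM x hxσ hx1 hxC
    refine ⟨⟨by rw [typeCore_eq h hM]; exact hxσ, hx1⟩, N, hN, fun L hL => hNu L hL.1 hL.2⟩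
  · obtain ⟨hxσ, hx1⟩ := hD x hx hxC
    obtain ⟨N, -, hNu, hσF, hnorm, hcompC, hcompN, hNd⟩ := h.signalizer M hM x hxσ hx1 hxC
    obtain rfl := hNu L hL hxL
    obtain ⟨K', U', hKU'⟩ := exists_decomp h hL
    obtain ⟨hU', hxA, hxσL⟩ := hNd K' U' hKU'
    rw [← hσF]
    refine ⟨isComplIn_symm hcompN, hnorm, isComplIn_symm hcompC, fun y hy => ?_, ⟨?_, ?_⟩, ?_, ?_⟩
    · refine Nat.coprime_of_dvd fun r hr hd hd' => ?_
      haveI := Fact.mk hr
      have hrL : r ∈ sigma L := isPiSub_sigmaCore L r hr hd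
      obtain ⟨hκ, hτ⟩ := (h.support_primes M hM x hxσ hx1 hxC L hL hxL).1
        ⟨r, hrL, hd'.trans (Subgroup.card_dvd_of_le inf_le_left)⟩
      have hK : K = ⊥ := (eq_bot_iff_kappa hKU.hall).mpr hκ
      have hσw : ∀ w ∈ sigmaCore M, w ≠ 1 → ∀ v ∈ M, v * w = w * v → ∀ q : ℕ, q.Prime →
          orderOf v = q → q ∈ sigma M := by
        intro w hw hw1 v hv hvw q hq hvq
        by_contra hqσ
        have hall : ∀ p : ℕ, p.Prime → p ∣ orderOf v → p = q := fun p hp hpd =>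
          (Nat.prime_dvd_prime_iff_eq hp hq).mp (hvq ▸ hpd)
        rcases h.sigma_prime_commute M hM w hw hw1 v
          ⟨hv, Subgroup.mem_centralizer_singleton_iff.mpr hvw⟩
          (fun h0 => hq.ne_one (by rw [← hvq, h0, orderOf_one]))
          (fun p hp hpd => hall p hp hpd ▸ hqσ) with ⟨h1, -⟩ | ⟨h1, -⟩
        · exact (hκ ▸ h1 q hq hvq.symm.dvd : q ∈ (∅ : Set ℕ))
        · exact (hτ ▸ h1 q hq hvq.symm.dvd : q ∈ (∅ : Set ℕ))
      have hyA : y ∈ typeA M := by
        by_contra hyA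
        exact (of_typeA0_not_typeA hG h hM (hX0 y hy) hyA).1 ((typeI_iff h hG hT hM hKU).mpr hK)
      obtain ⟨hyU, hy1, w, hw, hw1, hyw⟩ := (mem_typeA_imp hG h hM hKU hyA)
      have hyσ : y ∈ sigmaCore M := by
        by_contra hyσ
        obtain ⟨q, n, hq, hqσ, hyn⟩ := exists_prime_power h hM (le_of_decomp hKU hyU) hyσ
        exact hqσ (hσw w hw hw1 _ (pow_mem (le_of_decomp hKU hyU) n)
          ((show Commute y w from hyw).pow_left n).eq q hq hyn)
      obtain ⟨z, hz⟩ := exists_prime_orderOf_dvd_card' r hd'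
      have hrM : r ∈ sigma M := hσw y hyσ hy1 z z.2.1
        (Subgroup.mem_centralizer_singleton_iff.mp z.2.2) r hr
        (by rw [orderOf_submonoid]; exact hz)
      obtain ⟨g, hg⟩ := (h.sigma_partition).2 M L hM hL ⟨r, hrM, hrL⟩
      refine hxσL (le_sigmaCore_of_sigma h hL (hxL (Subgroup.mem_centralizer_singleton_iff.mpr rfl))
        fun p hp hpd => ?_)
      rw [hg]
      exact sigma_subset_conj
        (isPiSub_sigmaCore M p hp (hpd.trans (Subgroup.orderOf_dvd_natCard _ hxσ)))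
    · exact (mem_typeA_iff hG h hL hKU' fun hK => (typeI_iff h hG hT hL hKU').mpr hK).mpr ⟨hxA.2, hx1, hxA.1.2⟩
    · rintro ⟨h1, -⟩
      rw [typeCore_eq h hL] at h1
      exact hxσL h1
    · by_cases hK' : K' = ⊥
      · exact Or.inl ((typeI_iff h hG hT hL hKU').mpr hK')
      · exact Or.inr ((h.typeII_iff L hL K' U' hKU').mpr ⟨hK', hU'⟩)
    · intro hII
      have hK' := ((h.typeII_iff L hL K' U' hKU').mp hII).1
      obtain ⟨-, ⟨E, hE, -⟩, -⟩ := h.frobenius M hM x hxσ hx1 hxC L hL hxL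
        (Set.nonempty_iff_ne_empty.mpr fun he => hK' ((eq_bot_iff_kappa hKU'.hall).mpr he))
      exact ⟨E, hE, frobeniusKernel_eq_fittingHall hE⟩

end Cfsg.Agent.BGSummary
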