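import Cfsg.Agent.BGSummary.TypeInputs
import Cfsg.Agent.BGSigma.Basic
import Cfsg.Agent.BGSigma.PiCore
import Cfsg.Agent.BGUniq.FittingHall
import Cfsg.Agent.BGUniq.FittingOf
import Cfsg.Agent.Lib.Coprime.Action

/-!
Elementary consequences of the standard factorisation used in the classification by types.
-/

set_option autoImplicit false

namespace Cfsg.Agent.BGSummary.TypeCore

open Cfsg
open scoped Pointwise
open Cfsg.Agent.BGSigma (sigmaCore_le le_normalizer_sigmaCore isPiSub_sigmaCore)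

universe u

variable {G : Type u} [Group G] [Finite G]

theorem mem_sigmaCore {M : Subgroup G} (hHall : IsPiHallOf (sigma M) (sigmaCore M) M) {x : G}
    (hx : x ∈ M) (hσ : ∀ p : ℕ, p.Prime → p ∣ orderOf x → p ∈ sigma M) : x ∈ sigmaCore M := by
  have hn : ((sigmaCore M).subgroupOf M).Normal :=
    (Subgroup.normal_subgroupOf_iff_le_normalizer (sigmaCore_le M)).mpr (le_normalizer_sigmaCore M)
  refine BGUniq.mem_of_pow_mem_of_coprime (n := orderOf x)
    (m := ((sigmaCore M).subgroupOf M).index) (by rw [pow_orderOf_eq_one]; exact one_mem _)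
    (Subgroup.pow_index_mem ((sigmaCore M).subgroupOf M) ⟨x, hx⟩) ?_
  exact Nat.coprime_of_dvd fun p hp hd hd' => hHall.2.2 p hp (hσ p hp hd) hd'

theorem mem_sigmaCore_of_prime_pow {M : Subgroup G} (hHall : IsPiHallOf (sigma M) (sigmaCore M) M)
    {x : G} (hx : x ∈ M) {r k : ℕ} (hr : r.Prime) (hrσ : r ∈ sigma M) (hxr : orderOf x = r ^ k) :
    x ∈ sigmaCore M :=
  mem_sigmaCore hHall hx fun p hp hd => by
    rw [hxr] at hd
    rwa [(Nat.prime_dvd_prime_iff_eq hp hr).mp (hp.dvd_of_dvd_pow hd)]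

theorem coprime_kappa {M K : Subgroup G} (hK : IsPiHallOf (kappa M) K M) :
    (Nat.card K).Coprime (Nat.card (sigmaCore M)) :=
  Nat.coprime_of_dvd fun p hp hd hd' =>
    (hK.2.1 p hp hd).2.2.1 (isPiSub_sigmaCore M p hp hd')

omit [Finite G] in
theorem sup_eq {A B M : Subgroup G} (hAB : IsComplIn A B M) : A ⊔ B = M := by
  obtain ⟨h1, h2, -, h4⟩ := hAB
  refine le_antisymm (sup_le h1 h2) fun m hm => ?_
  obtain ⟨a, ha, b, hb, rfl⟩ := h4 m hm
  exact Subgroup.mul_mem_sup ha hb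

omit [Finite G] in
theorem complIn_of_sup {A B M : Subgroup G} (hA : A ≤ M) (hB : B ≤ M)
    (hn : B ≤ Subgroup.normalizer (A : Set G)) (hbot : A ⊓ B = ⊥) (hsup : M ≤ A ⊔ B) :
    IsComplIn A B M := by
  refine ⟨hA, hB, hbot, fun m hm => ?_⟩
  have hm' : m ∈ ((A ⊔ B : Subgroup G) : Set G) := hsup hm
  rw [Subgroup.coe_mul_of_right_le_normalizer_left A B hn] at hm'
  obtain ⟨a, ha, b, hb, rfl⟩ := hm'
  exact ⟨a, ha, b, hb, rfl⟩

omit [Finite G] in
theorem complIn_symm {A B M : Subgroup G} (hAB : IsComplIn A B M) : IsComplIn B A M := by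
  obtain ⟨h1, h2, h3, h4⟩ := hAB
  refine ⟨h2, h1, inf_comm A B ▸ h3, fun m hm => ?_⟩
  obtain ⟨a, ha, b, hb, hab⟩ := h4 m⁻¹ (inv_mem hm)
  exact ⟨b⁻¹, inv_mem hb, a⁻¹, inv_mem ha, by rw [← mul_inv_rev, ← hab, inv_inv]⟩

theorem inf_sup_eq_bot {M K U : Subgroup G} (hKU : IsSigmaDecomposition M K U) :
    K ⊓ (U ⊔ sigmaCore M) = ⊥ := by
  rw [eq_bot_iff]
  intro x hxx
  obtain ⟨hxK, hx'⟩ := Subgroup.mem_inf.mp hxx
  have hx : x ∈ ((U ⊔ sigmaCore M : Subgroup G) : Set G) := hx'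
  rw [Subgroup.coe_mul_of_left_le_normalizer_right _ _
    (hKU.compl.1.trans (le_normalizer_sigmaCore M))] at hx
  obtain ⟨b, hb, c, hc, rfl⟩ := hx
  have hb1 : b = 1 := Subgroup.mem_bot.mp (hKU.compl.2.2.1.le ⟨hb, by
    simpa using mul_mem (Subgroup.mem_sup_left hxK)
      (Subgroup.mem_sup_right (inv_mem hc) : c⁻¹ ∈ K ⊔ sigmaCore M)⟩)
  subst hb1
  simpa using (Subgroup.inf_eq_bot_of_coprime (coprime_kappa hKU.hall)).le
    ⟨hxK, by simpa using hc⟩

theorem sup_eq_of_bot {M K U : Subgroup G} (hKU : IsSigmaDecomposition M K U) (hK : K = ⊥) :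
    U ⊔ sigmaCore M = M := by
  have := sup_eq hKU.compl
  rwa [hK, bot_sup_eq] at this

theorem eq_bot_iff_kappa {M K : Subgroup G} (hK : IsPiHallOf (kappa M) K M) :
    K = ⊥ ↔ kappa M = ∅ := by
  constructor
  · rintro rfl
    refine Set.eq_empty_of_forall_notMem fun p hp => hK.2.2 p hp.1 hp ?_
    rw [Subgroup.relIndex_bot_left]
    exact hp.2.1
  · intro he
    refine Subgroup.eq_bot_of_card_eq _ (Nat.eq_one_iff_not_exists_prime_dvd.mpr fun p hp hd => ?_)
    have := hK.2.1 p hp hd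
    rw [he] at this
    exact this

theorem fittingHallOf_le_fittingOf (M : Subgroup G) : fittingHallOf M ≤ fittingOf M :=
  Subgroup.map_mono (Fitting.le_fitting inferInstance (BGUniq.fittingHall_isNilpotent M))

end Cfsg.Agent.BGSummary.TypeCore
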