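import Cfsg.Agent.BGSummary.FrobI
import Cfsg.Agent.BGSummary.Supports

/-!
# S1380, S1385, S1391 and S1440 from Peterfalvi (12.7)
-/

set_option autoImplicit false

namespace Cfsg.Agent.BGSummary

open Cfsg

universe u

variable {G : Type u} [Group G] [Finite G] (hG : IsMinSimpleOddOrder G) (hfr : FrobeniusOne G)
include hG hfr

theorem S1380_of_frobenius (M : Subgroup G) (hM : IsCoatom M) (K U : Subgroup G)
    (hKU : IsSigmaDecomposition M K U) : IsOfTypeI M ↔ (K = ⊥ ∧ U ≠ ⊥) :=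
  typeI_stmt hG (TypeInputs.of_local hG (localStructure hG)) (nonTIFitting_of_frobenius hG hfr)
    M hM K U hKU

theorem typeI_of_kappa_empty {M : Subgroup G} (hM : IsCoatom M) (hk : kappa M = ∅) :
    IsOfTypeI M := by
  obtain ⟨K, U, hKU⟩ := exists_decomp (SummaryInputs.of_local hG (localStructure hG)) hM
  exact (typeI_iff (SummaryInputs.of_local hG (localStructure hG)) hG
    (typeICriterion_of_frobenius hG hfr) hM hKU).mpr ((eq_bot_iff_kappa hKU.hall).mpr hk)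

theorem S1385_of_frobenius :
    (∀ M : Subgroup G, IsCoatom M → IsOfTypeI M) ∨
      ∃ W₁ W₂ S T : Subgroup G, IsSelfNormalizingCyclic W₁ W₂ ∧ IsCoatom S ∧ IsCoatom T ∧
        IsComplIn ⁅S, S⁆ W₁ S ∧ IsComplIn ⁅T, T⁆ W₂ T ∧ S ⊓ T = W₁ ⊔ W₂ ∧
        (IsOfTypeII S ∨ IsOfTypeII T) ∧
        (IsOfTypeII S ∨ IsOfTypeIII S ∨ IsOfTypeIV S ∨ IsOfTypeV S) ∧
        (IsOfTypeII T ∨ IsOfTypeIII T ∨ IsOfTypeIV T ∨ IsOfTypeV T) ∧
        ∀ M : Subgroup G, IsCoatom M → IsOfTypeI M ∨ ∃ g : G,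
          M = S.map (MulAut.conj g).toMonoidHom ∨ M = T.map (MulAut.conj g).toMonoidHom :=
  type_classification_stmt hG (SummaryInputs.of_local hG (localStructure hG))
    (typeICriterion_of_frobenius hG hfr)

theorem S1391_of_frobenius
    (M : Subgroup G) (hM : IsCoatom M) (X : Set G) (hX : X = typeA M ∨ X = typeA0 M) :
    (∀ x ∈ X, ∀ g : G, g * x * g⁻¹ ∈ X → ∃ m ∈ M, m * x * m⁻¹ = g * x * g⁻¹) ∧
      (∀ x ∈ X, ¬ Subgroup.centralizer ({x} : Set G) ≤ M → x ∈ typeA1 M ∧ ∃! L : Subgroup G, IsCoatom L ∧ Subgroup.centralizer ({x} : Set G) ≤ L) ∧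
      ∀ x ∈ X, ¬ Subgroup.centralizer ({x} : Set G) ≤ M → ∀ L : Subgroup G, IsCoatom L → Subgroup.centralizer ({x} : Set G) ≤ L →
        IsComplIn (fittingHallOf L) (M ⊓ L) L ∧
        Subgroup.centralizer ({x} : Set G) ≤ Subgroup.normalizer ((fittingHallOf L ⊓ Subgroup.centralizer ({x} : Set G) : Subgroup G) : Set G) ∧
        IsComplIn (fittingHallOf L ⊓ Subgroup.centralizer ({x} : Set G)) (M ⊓ Subgroup.centralizer ({x} : Set G)) (Subgroup.centralizer ({x} : Set G)) ∧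
        (∀ y ∈ X, (Nat.card (fittingHallOf L)).Coprime (Nat.card ↥(M ⊓ Subgroup.centralizer ({y} : Set G)))) ∧
        (x ∈ typeA L ∧ x ∉ typeA1 L) ∧
        (IsOfTypeI L ∨ IsOfTypeII L) ∧
        (IsOfTypeII L → ∃ E : Subgroup ↥M, IsFrobeniusComplement E ∧ frobeniusKernel E = ((fittingHall ↥M : Subgroup ↥M) : Set ↥M)) :=
  supports_stmt hG (SummaryInputs.of_local hG (localStructure hG))
    (typeICriterion_of_frobenius hG hfr) M hM X hX

end Cfsg.Agent.BGSummary
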